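import Cfsg.Agent.H262.ElSympSix
import Cfsg.Agent.H278.ElDefs
import Cfsg.Agent.S5662

/-!
# TEAM ELUSIVE, symplectic row: proper subgroups of `PSp_2m(q)`

`derT_or_residual` : a proper subgroup of `PSp_2m(q)` misses a class of elements of prime order, or
its preimage in `Sp_2m(q)` is in the residual class.
-/

set_option autoImplicit false

namespace Cfsg.Agent.H262.El

open Cfsg Cfsg.Geo Module Cfsg.Agent.H278.El
open Cfsg.Agent.ClassicalGeometry.SympBasic Cfsg.Agent.H876 Cfsg.Agent.H931
open scoped Matrix MatrixGroups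

variable {F : Type*} [Field F] {m : ℕ}

/-- the preimage in `Sp_2m(q) ≤ GL_2m(q)` of a subgroup of `PSp_2m(q)` -/
noncomputable def pre (R : Subgroup (PSp m F)) : Subgroup (GL (Fin m ⊕ Fin m) F) :=
  (R.comap (QuotientGroup.mk' (Subgroup.center (Matrix.symplecticGroup (Fin m) F)))).map (spToGL m F)

theorem spToGL_injective : Function.Injective (spToGL m F) := by
  intro A B h
  apply Subtype.ext
  have := congrArg (fun g : GL (Fin m ⊕ Fin m) F => (g : Matrix (Fin m ⊕ Fin m) (Fin m ⊕ Fin m) F)) h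
  exact this

theorem mem_pre {R : Subgroup (PSp m F)} {A : Matrix.symplecticGroup (Fin m) F} :
    spToGL m F A ∈ pre R ↔ (QuotientGroup.mk A : PSp m F) ∈ R := by
  constructor
  · rintro ⟨B, hB, hBA⟩
    rw [← spToGL_injective hBA]
    exact hB
  · intro h
    exact ⟨A, h, rfl⟩

theorem pre_le (R : Subgroup (PSp m F)) : pre R ≤ spGL m F := by
  rintro _ ⟨A, -, rfl⟩
  exact spToGL_mem A

theorem pre_mono {R S : Subgroup (PSp m F)} (h : R ≤ S) : pre R ≤ pre S :=
  Subgroup.map_mono (Subgroup.comap_mono h)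

theorem scalars_le_pre (R : Subgroup (PSp m F)) : scalars (Fin m ⊕ Fin m) F ⊓ spGL m F ≤ pre R := by
  rintro z ⟨hz, hz'⟩
  obtain ⟨A, rfl⟩ := exists_spToGL hz'
  rw [mem_pre]
  have hA : A ∈ Subgroup.center (Matrix.symplecticGroup (Fin m) F) := by
    rw [Subgroup.mem_center_iff]
    intro B
    apply spToGL_injective
    rw [map_mul, map_mul]
    exact (scalar_comm hz _).symm.eq
  have : (QuotientGroup.mk A : PSp m F) = 1 := (QuotientGroup.eq_one_iff A).2 hA
  rw [this]
  exact R.one_mem

theorem pre_ne {R : Subgroup (PSp m F)} (hR : R ≠ ⊤) : pre R ≠ spGL m F := by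
  intro h
  apply hR
  rw [eq_top_iff]
  intro x _
  obtain ⟨A, rfl⟩ := QuotientGroup.mk_surjective x
  rw [← mem_pre, h]
  exact spToGL_mem A

/-- from `Sp` to `PSp` -/
theorem derT_of_kill {R : Subgroup (PSp m F)} (h : Kill m F (pre R)) : DerT (PSp m F) R := by
  obtain ⟨x, hx, r, hr, hxr, hno⟩ := h
  obtain ⟨A, rfl⟩ := exists_spToGL hx
  have hA : A ^ r = 1 := by
    apply spToGL_injective
    rw [map_pow, map_one]
    exact hxr
  refine ⟨(QuotientGroup.mk A : PSp m F), ?_, ?_⟩
  · have h1 : (QuotientGroup.mk A : PSp m F) ≠ 1 := by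
      intro h1
      apply hno 1 (spGL m F).one_mem
      rw [one_mul, inv_one, mul_one, mem_pre, h1]
      exact R.one_mem
    have h2 : (QuotientGroup.mk A : PSp m F) ^ r = 1 := by
      rw [← QuotientGroup.mk_pow, hA]
      rfl
    rcases (Nat.dvd_prime hr).1 (orderOf_dvd_of_pow_eq_one h2) with h3 | h3
    · exact absurd (orderOf_eq_one_iff.1 h3) h1
    · rw [h3]
      exact hr
  · intro g hg
    obtain ⟨B, rfl⟩ := QuotientGroup.mk_surjective g
    apply hno _ (spToGL_mem B)
    rw [← map_mul, ← map_inv, ← map_mul, mem_pre]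
    exact hg

/-- **Proper subgroups of `PSp_2m(q)`**: a class of elements of prime order is missed, or the
residual class. -/
theorem derT_or_residual [Fintype F] (hm : 2 ≤ m) (hex : ¬ (m = 2 ∧ Fintype.card F = 2))
    {R : Subgroup (PSp m F)} (hR : R ≠ ⊤) :
    DerT (PSp m F) R ∨ InSymplecticResidualClass (pre R) := by
  rcases Cfsg.Agent.S5662.result m hm hex (pre R) (pre_le R) (by
    rw [sup_eq_left.2 (scalars_le_pre R)]
    exact pre_ne hR) with ⟨M, hM, hle⟩ | h
  · exact Or.inl (derT_of_kill ((kill_class' hm hM).mono hle))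
  · exact Or.inr h

end Cfsg.Agent.H262.El
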