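import Cfsg.Agent.H262.ElFewT
import Cfsg.Agent.H264.FKS.FewExc
import Cfsg.Agent.H983.ElCross.FewL

/-!
# TEAM ELUSIVE: cross characteristic socles, few large primes: all families
-/

set_option autoImplicit false

namespace Cfsg.Agent.H262.Few

open Cfsg.Agent.OrdDiv Cfsg.Agent.H436 Cfsg.Agent.H927.SgX Cfsg.Agent.H278.El.CrossNum Cfsg.Agent.H264.FKS

/-- **(B) for all names of Lie type.** -/
theorem few {g : Grp} {p f c : ℕ} (hg : Cond g) (hlie : IsLieN g) (he : den g * c = num g) (hp : p.Prime)
    (hf : fld g = p ^ f) (h37 : 37 ≤ lsb g) : Few (lsb g) (6 * f * c) := by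
  cases g with
  | psl m u =>
    by_cases hm : m = 2
    · subst hm
      exact few_psl2 hp hf hg he h37
    · exact Cfsg.Agent.H983.X2b.few_psl (by have := hg.1; omega) hg he hp hf h37
  | psu m u => exact Cfsg.Agent.H983.X2b.few_psu hg he hp hf h37
  | psp m u => exact few_psp hp hf hg he h37
  | oodd m u => exact few_oodd hp hf hg he h37
  | oplus m u => exact few_oplus hp hf hg he h37
  | ominus m u => exact few_ominus hp hf hg he h37
  | g2 u => exact few_exc (g := .g2 u) trivial hg he hf h37
  | f4 u => exact few_exc (g := .f4 u) trivial hg he hf h37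
  | e6 u => exact few_exc (g := .e6 u) trivial hg he hf h37
  | e7 u => exact few_exc (g := .e7 u) trivial hg he hf h37
  | e8 u => exact few_exc (g := .e8 u) trivial hg he hf h37
  | te6 u => exact few_exc (g := .te6 u) trivial hg he hf h37
  | td4 u => exact few_exc (g := .td4 u) trivial hg he hf h37
  | sz u => exact few_sz hp hf hg he h37
  | ree u => exact few_ree hp hf hg he h37
  | tf4 u => exact few_tf4 hp hf hg he h37
  | _ => exact hlie.elim

end Cfsg.Agent.H262.Few
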