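import Cfsg.Agent.H262.ElTvE
import Cfsg.Agent.H262.ElSympPSp

/-!
# TEAM ELUSIVE, symplectic row, `q` odd: the residual class
-/

set_option autoImplicit false

namespace Cfsg.Agent.H262.El

open Cfsg Cfsg.Geo Module Cfsg.Agent.H278.El
open Cfsg.Agent.ClassicalGeometry.SympBasic Cfsg.Agent.H876 Cfsg.Agent.H931
open Cfsg.Agent.H262.Tv
open scoped Matrix MatrixGroups

section general

variable {ι : Type} [Fintype ι] [DecidableEq ι] {F : Type*} [Field F]

theorem comm_of_scalar {z : GL ι F} (hz : z ∈ scalars ι F) (g : GL ι F) : z * g = g * z := by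
  rw [mem_scalars_iff] at hz
  obtain ⟨c, hc⟩ := hz
  apply Units.ext
  rw [Units.val_mul, Units.val_mul, hc, Matrix.smul_mul, Matrix.mul_smul, one_mul, mul_one]

/-- A normal subgroup which is not scalar contains the core. -/
theorem core_le_of_normal {H P N : Subgroup (GL ι F)} (hP : IsResidualCore H P) (hN : N ≤ H)
    (hnorm : ∀ h ∈ H, ∀ n ∈ N, h * n * h⁻¹ ∈ N) (hns : ¬ N ≤ scalars ι F) : P ≤ N := by
  have := hP.simple
  have hKn : ((N ⊓ P).subgroupOf P).Normal := by
    refine ⟨fun n hn g => ?_⟩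
    rw [Subgroup.mem_subgroupOf] at hn ⊢
    exact ⟨hnorm _ (hP.le g.2) _ hn.1, P.mul_mem (P.mul_mem g.2 hn.2) (P.inv_mem g.2)⟩
  have hmap : (((N ⊓ P).subgroupOf P).map (QuotientGroup.mk' ((scalars ι F).subgroupOf P))).Normal :=
    hKn.map _ (QuotientGroup.mk'_surjective _)
  rcases hmap.eq_bot_or_eq_top with h | h
  · exfalso
    apply hns
    intro n hn
    refine hP.centralizer_scalar n (hN hn) (fun x hx => ?_)
    have h1 : n * x * n⁻¹ * x⁻¹ ∈ N := by
      have h2 : n * x * n⁻¹ * x⁻¹ = n * (x * n⁻¹ * x⁻¹) := by group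
      rw [h2]
      exact N.mul_mem hn (hnorm x (hP.le hx) _ (N.inv_mem hn))
    have h2 : n * x * n⁻¹ * x⁻¹ ∈ P := P.mul_mem (hP.normal n (hN hn) x hx) (P.inv_mem hx)
    have h3 : QuotientGroup.mk' ((scalars ι F).subgroupOf P) ⟨_, h2⟩ ∈
        ((N ⊓ P).subgroupOf P).map (QuotientGroup.mk' ((scalars ι F).subgroupOf P)) :=
      Subgroup.mem_map_of_mem _ (by rw [Subgroup.mem_subgroupOf]; exact ⟨h1, h2⟩)
    rw [h, Subgroup.mem_bot] at h3
    exact Subgroup.mem_subgroupOf.1 ((QuotientGroup.eq_one_iff _).1 h3)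
  · have hdec : ∀ x ∈ P, ∃ k ∈ N ⊓ P, ∃ z ∈ scalars ι F, x = k * z := by
      intro x hx
      have h3 : QuotientGroup.mk' ((scalars ι F).subgroupOf P) ⟨x, hx⟩ ∈
        ((N ⊓ P).subgroupOf P).map (QuotientGroup.mk' ((scalars ι F).subgroupOf P)) := by
        rw [h]; trivial
      obtain ⟨k, hk, hkx⟩ := h3
      have h4 := QuotientGroup.eq.1 hkx
      rw [Subgroup.mem_subgroupOf] at h4
      refine ⟨k, Subgroup.mem_subgroupOf.1 hk, _, h4, ?_⟩
      simp
    have hcom : ⁅P, P⁆ ≤ N := by
      rw [Subgroup.commutator_le]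
      intro x hx y hy
      obtain ⟨k, hk, z, hz, rfl⟩ := hdec x hx
      obtain ⟨l, hl, w, hw, rfl⟩ := hdec y hy
      have h5 : (k * z) * (l * w) * (k * z)⁻¹ * (l * w)⁻¹ = k * l * k⁻¹ * l⁻¹ := by
        have hzc := comm_of_scalar hz
        have hwc := comm_of_scalar hw
        have e1 : (k * z) * (l * w) = (k * l) * (z * w) := by
          rw [mul_assoc, ← mul_assoc z, hzc l]
          group
        have e2 : (l * w) * (k * z) = (l * k) * (z * w) := by
          rw [mul_assoc, ← mul_assoc w, hwc k, hzc w]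
          group
        calc (k * z) * (l * w) * (k * z)⁻¹ * (l * w)⁻¹ = ((k * z) * (l * w)) * ((l * w) * (k * z))⁻¹ := by group
          _ = k * l * k⁻¹ * l⁻¹ := by rw [e1, e2]; group
      rw [commutatorElement_def, h5]
      have hkN := hk.1
      have hlN := hl.1
      exact N.mul_mem (N.mul_mem (N.mul_mem hkN hlN) (N.inv_mem hkN)) (N.inv_mem hlN)
    rw [hP.perfect] at hcom
    exact hcom

end general

variable {F : Type*} [Field F] {m : ℕ}

theorem Nt_le {H : Subgroup (GL (Fin m ⊕ Fin m) F)} : Nt H ≤ H := by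
  rw [Nt, Subgroup.closure_le]
  rintro t ⟨ht, -⟩
  exact ht

theorem Nt_normal {H : Subgroup (GL (Fin m ⊕ Fin m) F)} (hH : H ≤ spGL m F) :
    ∀ h ∈ H, ∀ n ∈ Nt H, h * n * h⁻¹ ∈ Nt H := by
  intro h hh n hn
  rw [Nt] at hn
  induction hn using Subgroup.closure_induction with
  | mem t ht =>
    obtain ⟨htH, b, c, rfl⟩ := ht
    refine Subgroup.subset_closure ⟨H.mul_mem (H.mul_mem hh htH) (H.inv_mem hh), ap h b, c, ?_⟩
    exact t_conj (hH hh) b c
  | one => simp
  | mul x y _ _ hx hy =>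
    have : h * (x * y) * h⁻¹ = (h * x * h⁻¹) * (h * y * h⁻¹) := by group
    rw [this]
    exact (Nt H).mul_mem hx hy
  | inv x _ hx =>
    have : h * x⁻¹ * h⁻¹ = (h * x * h⁻¹)⁻¹ := by group
    rw [this]
    exact (Nt H).inv_mem hx

theorem tGL_not_scalar {b : Fin m ⊕ Fin m → F} {c : F} (hb : b ≠ 0) (hc : c ≠ 0) :
    tGL b c ∉ scalars (Fin m ⊕ Fin m) F := by
  intro h
  rw [mem_scalars_iff] at h
  obtain ⟨s, hs⟩ := h
  have hv : ∀ v, (s : F) • v = v + (c * sympForm m F v b) • b := by
    intro v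
    rw [← tGL_mulVec, hs, Matrix.smul_mulVec, Matrix.one_mulVec]
  have h1 := hv b
  rw [sympForm_self, mul_zero, zero_smul, add_zero] at h1
  have hs1 : (s : F) = 1 := by
    have : ((s : F) - 1) • b = 0 := by rw [sub_smul, one_smul, h1, sub_self]
    rcases smul_eq_zero.1 this with h2 | h2
    · exact sub_eq_zero.1 h2
    · exact absurd h2 hb
  obtain ⟨x, hx0⟩ : ∃ x, sympForm m F x b ≠ 0 := by
    by_contra hcon
    push Not at hcon
    exact hb (eq_zero_of_forall_sympForm_left hcon)
  have h2 := hv x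
  rw [hs1, one_smul, left_eq_add] at h2
  rcases smul_eq_zero.1 h2 with h3 | h3
  · exact mul_ne_zero hc hx0 h3
  · exact hb h3

/-- **The residual class of `Sp_2m(q)`, `q` odd, contains no transvections.** -/
theorem no_tGL_of_core [Finite F] (h2 : (2 : F) ≠ 0) (hm : 2 ≤ m) {H : Subgroup (GL (Fin m ⊕ Fin m) F)}
    (hH : H ≤ spGL m F) (hne : ¬ spGL m F ≤ H) {P : Subgroup (GL (Fin m ⊕ Fin m) F)}
    (hP : IsResidualCore H P) {b : Fin m ⊕ Fin m → F} {c : F} (hb : b ≠ 0) (hc : c ≠ 0) : tGL b c ∉ H := by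
  intro hmem
  have hPN : P ≤ Nt H := core_le_of_normal hP Nt_le (Nt_normal hH) (fun hle =>
    tGL_not_scalar hb hc (hle (Subgroup.subset_closure ⟨hmem, b, c, rfl⟩)))
  have D : Dat H :=
    { le := hH
      two := h2
      dim := hm
      irr := by
        intro W hW
        apply hP.absIrred.1 W
        rintro _ ⟨x, hx, rfl⟩
        have hx' := hPN hx
        rw [Nt] at hx'
        have key : ∀ y ∈ Subgroup.closure {t | t ∈ H ∧ ∃ b c, t = tGL b c}, ∀ v ∈ W, ap y v ∈ W := by
          intro y hy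
          induction hy using Subgroup.closure_induction with
          | mem t ht =>
            obtain ⟨htH, b, c, rfl⟩ := ht
            exact hW b c htH
          | one => intro v hv; rwa [ap_one]
          | mul x y _ _ hx hy => intro v hv; rw [ap_mul]; exact hx _ (hy v hv)
          | inv x _ hx =>
            intro v hv
            have hk : ∀ k : ℕ, ap (x ^ k) v ∈ W := by
              intro k
              induction k with
              | zero => rwa [pow_zero, ap_one]
              | succ k ih =>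
                rw [pow_succ', ap_mul]
                exact hx _ ih
            have h1 : x⁻¹ = x ^ (orderOf x - 1) := by
              symm
              apply eq_inv_of_mul_eq_one_left
              rw [← pow_succ, Nat.sub_add_cancel (orderOf_pos x), pow_orderOf_eq_one]
            rw [h1]
            exact hk _
        rintro _ ⟨v, hv, rfl⟩
        exact key x hx' v hv
      ne := ⟨b, c, hb, hc, hmem⟩ }
  rcases Tv.main D with h | ⟨k, hk, B, hB⟩
  · exact hne h
  · refine hP.no_subfield k hk ⟨B, ?_⟩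
    rintro _ ⟨x, hx, rfl⟩
    exact hB _ ⟨x, hPN hx, rfl⟩

/-- The residual class of `Sp_2m(q)`, `q` odd, is killed by the transvections. -/
theorem kill_of_core [Finite F] (h2 : (2 : F) ≠ 0) (hm : 2 ≤ m) {H : Subgroup (GL (Fin m ⊕ Fin m) F)}
    (hH : H ≤ spGL m F) (hne : ¬ spGL m F ≤ H) {P : Subgroup (GL (Fin m ⊕ Fin m) F)}
    (hP : IsResidualCore H P) : Kill m F H := by
  obtain ⟨p, hp⟩ := CharP.exists F
  have hpp : p.Prime := CharP.char_is_prime F p
  have hv0 : (Pi.single (Sum.inl ⟨0, by omega⟩) 1 : Fin m ⊕ Fin m → F) ≠ 0 := by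
    intro h0
    have := congrFun h0 (Sum.inl ⟨0, by omega⟩)
    simp at this
  have ht := tGL_isTv hv0 (one_ne_zero (α := F))
  refine ⟨_, tGL_mem _ _, p, hpp, ht.pow_char, fun g hg => ?_⟩
  rw [t_conj hg]
  exact no_tGL_of_core h2 hm hH hne hP (ap_ne_zero hv0) one_ne_zero

theorem two_ne_zero_of_odd [Fintype F] (h : Odd (Fintype.card F)) : (2 : F) ≠ 0 := by
  intro h2
  have h3 : ringChar F = 2 := by
    have := (CharP.cast_eq_zero_iff F (ringChar F) 2).1 (by exact_mod_cast h2)
    rcases (Nat.dvd_prime Nat.prime_two).1 this with h4 | h4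
    · exact absurd h4 (CharP.ringChar_ne_one)
    · exact h4
  have := FiniteField.even_card_of_char_two h3
  rw [Nat.odd_iff] at h
  omega

/-- **Every proper subgroup of `PSp_2m(q)`, `m ≥ 2`, `q` odd, misses a class of elements of prime order.** -/
theorem derT_odd [Fintype F] (hm : 2 ≤ m) (hq : Odd (Fintype.card F)) {R : Subgroup (PSp m F)} (hR : R ≠ ⊤) :
    DerT (PSp m F) R := by
  rcases derT_or_residual hm (by rintro ⟨-, h⟩; rw [h] at hq; exact absurd hq (by decide)) hR with h | ⟨P, hP, -⟩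
  · exact h
  · apply derT_of_kill
    refine kill_of_core (two_ne_zero_of_odd hq) hm (pre_le R) (fun hle => pre_ne hR (le_antisymm (pre_le R) hle)) hP

end Cfsg.Agent.H262.El
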