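import Cfsg.Agent.H262.ElSympU
import Cfsg.Agent.S0246

/-!
# TEAM ELUSIVE, symplectic row, prime version
-/

set_option autoImplicit false

namespace Cfsg.Agent.H262.El

open Cfsg Cfsg.Geo Module
open Cfsg.Agent.H884.El (PP Hits Miss oddE oddE_of_even oddE_of_odd oddE_odd exists_pp exists_ppp exists_elt exists_char
  one_lt_q lin)
open Cfsg.Agent.ClassicalGeometry.SympBasic Cfsg.Agent.H876 Cfsg.Agent.H931
open scoped Matrix MatrixGroups

universe u

variable {F : Type u} [Field F] [Fintype F] {m : ℕ}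

/-- the large irreducible primes -/
theorem not_le_of_irr (hm : 2 ≤ m) {p f r : ℕ} (hp : p.Prime) (hf : 1 ≤ f) (hF : Fintype.card F = p ^ f)
    (hr : Cfsg.Agent.H163.PG.Ppd p (f * (2 * m)) r) {H : Subgroup (GL (Fin m ⊕ Fin m) F)} (hdvd : r ∣ Nat.card H) :
    (∀ W : Submodule F (Fin m ⊕ Fin m → F), W ≠ ⊥ → W ≠ ⊤ → ¬ H ≤ subspaceStabilizer W) ∧
    (∀ (t k : ℕ) (D : Fin t → Submodule F (Fin m ⊕ Fin m → F)), IsMDecomposition k D →
      ¬ H ≤ decompositionStabilizer D) ∧
    (∀ (F₀ : Subfield F) (s : ℕ) (P : GL (Fin m ⊕ Fin m) F), s.Prime → Fintype.card F = Nat.card F₀ ^ s →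
      ¬ H ≤ subfieldSubgroup F₀ P) ∧
    (∀ (k t : ℕ) (e : (Fin m ⊕ Fin m) ≃ (Fin t → Fin k)) (P : GL (Fin m ⊕ Fin m) F), 2 ≤ k → 2 ≤ t →
      ¬ H ≤ tensorWreathSubgroup k t e P) := by
  have hfin : Finite (GL (Fin m ⊕ Fin m) F) := inferInstance
  have hod : Od (Fintype.card F) (2 * m) r := by
    rw [hF]
    exact Od.of_ppd hp hf (by omega) hr
  have hι : Fintype.card (Fin m ⊕ Fin m) = 2 * m := card_sum_fin
  have hirr : ∀ y : GL (Fin m ⊕ Fin m) F, y ^ r = 1 → y ≠ 1 → ∀ W : Submodule F (Fin m ⊕ Fin m → F),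
      (∀ v ∈ W, (y : Matrix (Fin m ⊕ Fin m) (Fin m ⊕ Fin m) F) *ᵥ v ∈ W) → W = ⊥ ∨ W = ⊤ :=
    fun y h1 h2 => irr_of_od (by rw [hι]; exact hod) h1 h2
  obtain ⟨y, hyH, hyr, hy1⟩ : ∃ y ∈ H, y ^ r = 1 ∧ y ≠ 1 := by
    have := Fact.mk hod.prime
    obtain ⟨g, hg⟩ := exists_prime_orderOf_dvd_card' r hdvd
    refine ⟨g, g.2, ?_, ?_⟩
    · rw [← Subgroup.coe_pow, ← hg, pow_orderOf_eq_one]; rfl
    · intro h1
      have hg2 : g = 1 := Subtype.ext h1
      rw [hg2, orderOf_one] at hg
      exact hod.prime.one_lt.ne hg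
  refine ⟨fun W h0 h1 hH => ?_, fun t k D hD hH => ?_, fun F₀ s P hs hcard hH => ?_, fun k t e P hk ht hH => ?_⟩
  · exact not_mem_subspaceStabilizer_of_irr (hirr y hyr hy1) h0 h1 (hH hyH)
  · have hyD := hH hyH
    have htk : t * k = 2 * m := by rw [Cfsg.Agent.H918.decomp_card hD, hι]
    have ht : t ≤ 2 * m := by
      rw [← htk]
      exact Nat.le_mul_of_pos_right t hD.pos
    have h1 := fixes_of_decomposition hD hyD hod.prime (lt_of_le_of_lt ht hod.lt) hyr ⟨0, by
      have := hD.two_le; omega⟩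
    rcases hirr y hyr hy1 _ h1 with h2 | h2
    · exact Cfsg.Agent.H918.decomp_ne_bot hD _ h2
    · have h3 := hD.finrank_eq ⟨0, by have := hD.two_le; omega⟩
      rw [h2, finrank_top, Module.finrank_fintype_fun_eq_card, hι] at h3
      have h4 := hD.two_le
      have h5 := hD.pos
      have h6 : 2 * k ≤ t * k := Nat.mul_le_mul_right k h4
      omega
  · apply hy1
    have hyD := hH hyH
    obtain ⟨f₀, hf₀1, hf₀, hfs⟩ : ∃ f₀ : ℕ, 1 ≤ f₀ ∧ Nat.card F₀ = p ^ f₀ ∧ f = f₀ * s := by
      have h1 : Nat.card F₀ ∣ p ^ f := by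
        rw [← hF, hcard]
        exact dvd_pow_self _ hs.ne_zero
      obtain ⟨f₀, -, hf₀⟩ := (Nat.dvd_prime_pow hp).1 h1
      refine ⟨f₀, ?_, hf₀, ?_⟩
      · rcases Nat.eq_zero_or_pos f₀ with h0 | h0
        · exfalso
          rw [h0, pow_zero] at hf₀
          rw [hf₀, one_pow] at hcard
          have := Fintype.one_lt_card (α := F)
          omega
        · exact h0
      · rw [hF, hf₀, ← pow_mul] at hcard
        exact Nat.pow_right_injective hp.two_le hcard
    have hdvd : ∀ j, r ∣ p ^ j - 1 ↔ f * (2 * m) ∣ j := hr.dvd_iff hp.one_lt.le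
    have hs2 := hs.two_le
    refine eq_one_of_mem_subfieldSubgroup hyD hod.prime hyr ?_ ?_ ?_
    · intro h
      rw [hf₀] at h
      have h1 := hod.prime.dvd_of_dvd_pow h
      apply hod.ndvd
      rw [hF]
      exact h1.trans (dvd_pow_self p (by omega))
    · rw [hF, hdvd]
      intro h
      have := Nat.le_of_dvd hf h
      nlinarith
    · intro j hj1 hj2
      rw [hf₀, ← pow_mul, hdvd]
      intro h
      have h1 := Nat.le_of_dvd (Nat.mul_pos hf₀1 hj1) h
      rw [hι] at hj2
      have h2 : f₀ * j ≤ f₀ * (2 * m) := Nat.mul_le_mul_left _ hj2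
      have h3 : f₀ < f := by
        rw [hfs]
        nlinarith
      have h4 : f₀ * (2 * m) < f * (2 * m) := Nat.mul_lt_mul_of_pos_right h3 (by omega)
      omega
  · apply hy1
    have hyD := hH hyH
    have hkt : k ^ t = 2 * m := by
      have h1 := Fintype.card_congr e
      rw [hι, Fintype.card_fun, Fintype.card_fin, Fintype.card_fin] at h1
      exact h1.symm
    have htm : t < 2 * m := by
      rw [← hkt]
      exact lt_of_lt_of_le Nat.lt_two_pow_self (Nat.pow_le_pow_left hk t)
    have hkm : k < 2 * m := by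
      rw [← hkt]
      calc k = k ^ 1 := (pow_one k).symm
        _ < k ^ t := Nat.pow_lt_pow_right (by omega) (by omega)
    refine eq_one_of_mem_tensorWreathSubgroup hyD hod.prime hyr (htm.trans hod.lt) hod.ndvd ?_
    intro j hj1 hj2
    rw [hod.dvd_iff Fintype.card_pos]
    intro h
    have := Nat.le_of_dvd hj1 h
    omega

/-- primes dividing the order of the normaliser of a symplectic type 2-group -/
theorem symp_prime {k : ℕ} {R H : Subgroup (GL (Fin m ⊕ Fin m) F)} (hm : 1 ≤ m)
    (hH : H ≤ subgroupNormalizer R) (habs : ActsAbsolutelyIrreducibly (matrixSet R)) (hR : IsSymplecticTypeGroup 2 R)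
    (hk : 1 ≤ k) (hcard : Fintype.card (Fin m ⊕ Fin m) = 2 ^ k) (hZ : Nat.card (Subgroup.center R) = 2)
    {t : ℕ} (ht : t.Prime) (hdvd : t ∣ Nat.card H) :
    t = 2 ∨ t ∣ Nat.card F - 1 ∨ t ≤ 2 ^ k + 1 := by
  have hfin : Finite (GL (Fin m ⊕ Fin m) F) := inferInstance
  have hne : Nonempty (Fin m ⊕ Fin m) := ⟨Sum.inl ⟨0, by omega⟩⟩
  have hpr := Fact.mk hR.prime
  have hcomm : ∀ x ∈ R, ∀ y ∈ R, x * y * x⁻¹ * y⁻¹ ∈ scalars (Fin m ⊕ Fin m) F := by
    intro x hx y hy
    exact H920.mem_scalars_of_mem_center habs (H921.commutator_mem_center hR (fun h => absurd h (by decide)) ⟨x, hx⟩ ⟨y, hy⟩)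
  have hpow : ∀ x ∈ R, x ^ 2 ∈ scalars (Fin m ⊕ Fin m) F := by
    have hexp : Monoid.exponent R = 4 := by rw [hR.exponent_eq]; norm_num
    have h4 : ∀ q : R, q ^ 4 = 1 := fun q => by rw [← hexp]; exact Monoid.pow_exponent_eq_one q
    have : Nontrivial (Subgroup.center R) := Finite.one_lt_card_iff_nontrivial.1 (by rw [hZ]; norm_num)
    obtain ⟨z, hz⟩ := exists_ne (1 : Subgroup.center R)
    have hz2 : orderOf z = 2 := by
      have h1 : orderOf z ∣ 2 := by rw [← hZ]; exact orderOf_dvd_natCard z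
      rcases (Nat.dvd_prime Nat.prime_two).1 h1 with h2 | h2
      · exact absurd (orderOf_eq_one_iff.1 h2) hz
      · exact h2
    have hz2' : orderOf (z : R) = 2 := by rw [Subgroup.orderOf_coe, hz2]
    intro x hx
    have hst := (Cfsg.Agent.ClassificationK.SymplecticExpFour.structure_exp_four
      ⟨hR.pGroup, hR.cyclic_of_characteristic⟩ h4 hz2' z.2).2.1 ⟨x, hx⟩
    rcases hst with h | h
    · have h5 : x ^ 2 = 1 := congrArg Subtype.val h
      rw [h5]; exact Subgroup.one_mem _
    · have h5 : x ^ 2 = ((z : R) : GL (Fin m ⊕ Fin m) F) := congrArg Subtype.val h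
      rw [h5]; exact H920.mem_scalars_of_mem_center habs z.2
  obtain ⟨C⟩ := H920.exists_coord habs hcomm hR.prime hk hpow hcard
  exact H251.GeoCard.of_coord hR.prime hR.pGroup habs C ht (hdvd.trans (Subgroup.card_dvd_of_le hH))

/-- the special overgroups: `O^±_2m(q)` for `m`, `q` even, and `Sp_2(q²).2` in `Sp_4(q)` -/
def Spec (m : ℕ) (F : Type u) [Field F] [Fintype F] (H : Subgroup (GL (Fin m ⊕ Fin m) F)) : Prop :=
  (Even m ∧ Even (Fintype.card F) ∧ ∃ Q : (Fin m ⊕ Fin m → F) → F, IsNondegenerateQuadraticForm Q ∧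
    (∀ u v, QuadraticMap.polar Q u v = sympForm m F u v) ∧ H ≤ isometryGroup F Q) ∨
  (m = 2 ∧ ∃ K : Subalgebra F (Matrix (Fin m ⊕ Fin m) (Fin m ⊕ Fin m) F), IsFieldSubalgebra 2 K ∧
    IsSelfAdjointFor (sympForm m F) K ∧ H ≤ subalgebraNormalizer K)

omit [Fintype F] in
theorem mem_isometry {Q : (Fin m ⊕ Fin m → F) → F} (hm : 1 ≤ m)
    (hQ : ∀ u v, QuadraticMap.polar Q u v = sympForm m F u v) {g : GL (Fin m ⊕ Fin m) F}
    (h1 : g ∈ quadSimilarityGroup Q) (h2 : g ∈ spGL m F) : g ∈ isometryGroup F Q := by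
  obtain ⟨c, hc⟩ := h1
  have hpol : ∀ u v, sympForm m F u v = (c : F) * sympForm m F u v := by
    intro u v
    conv_lhs => rw [← mem_spGL_iff.1 h2 u v, ← hQ, QuadraticMap.polar, ← Matrix.mulVec_add, hc, hc, hc]
    rw [← hQ, QuadraticMap.polar]
    ring
  have hv0 : (Pi.single (Sum.inl ⟨0, by omega⟩) 1 : Fin m ⊕ Fin m → F) ≠ 0 := by
    intro h0
    have := congrFun h0 (Sum.inl ⟨0, by omega⟩)
    simp at this
  obtain ⟨x, hx0⟩ : ∃ x, sympForm m F x (Pi.single (Sum.inl ⟨0, by omega⟩) 1) ≠ 0 := by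
    by_contra hcon
    push Not at hcon
    exact hv0 (eq_zero_of_forall_sympForm_left hcon)
  have hc1 : (c : F) = 1 := by
    have h3 := hpol x (Pi.single (Sum.inl ⟨0, by omega⟩) 1)
    have h4 : ((c : F) - 1) * sympForm m F x (Pi.single (Sum.inl ⟨0, by omega⟩) 1) = 0 := by
      rw [sub_mul, one_mul, ← h3, sub_self]
    exact sub_eq_zero.1 ((mul_eq_zero.1 h4).resolve_right hx0)
  rw [H925.mem_iso_iff]
  intro v
  rw [hc, hc1, one_mul]

/-- **The symplectic row, primes.** -/
theorem row_symp (hm : 2 ≤ m) (h22 : ¬ (m = 2 ∧ Fintype.card F = 2)) (h32 : ¬ (m = 3 ∧ Fintype.card F = 2))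
    (h23 : ¬ (m = 2 ∧ Fintype.card F = 3))
    {H M : Subgroup (GL (Fin m ⊕ Fin m) F)} (hM : InSymplecticClass m F M) (hHM : H ≤ M)
    (h1 : Hits H (2 * m)) (h2 : 3 ≤ m → Hits H (2 * m - 2)) (h3 : 3 ≤ m → Hits H (oddE m))
    (hchar : ∀ p : ℕ, p.Prime → p ≠ 2 → p ∣ Fintype.card F → p ∣ Nat.card H) : Spec m F H := by
  have hq := one_lt_q F
  obtain ⟨p, f, hp, hf, hpF⟩ := exists_char F
  have hpF' : Fintype.card F = p ^ f := by rw [← hpF, Nat.card_eq_fintype_card]
  have hι : Fintype.card (Fin m ⊕ Fin m) = 2 * m := card_sum_fin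
  have hne : Nonempty (Fin m ⊕ Fin m) := ⟨Sum.inl ⟨0, by omega⟩⟩
  obtain ⟨r, hr⟩ := Cfsg.Agent.H163.PG.exists_ppd (p := p) (f := f) (k := 2 * m) hp.two_le
    (by nlinarith) (by
      rintro ⟨h2, h6⟩
      apply h32
      have h3 : f * m = 3 := by
        have : f * (2 * m) = 2 * (f * m) := by ring
        omega
      have h4 : m ∣ 3 := Dvd.intro_left f h3
      have h5 : m = 3 := by
        rcases (Nat.dvd_prime Nat.prime_three).1 h4 with h | h
        · omega
        · exact h
      have h6 : f = 1 := by subst h5; omega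
      exact ⟨h5, by rw [hpF', h2, h6, pow_one]⟩)
  have hod : Od (Fintype.card F) (2 * m) r := by
    rw [hpF']
    exact Od.of_ppd hp hf (by omega) hr
  have hrq : PP (Nat.card F) (2 * m) r := pp_of_od hod
  have hrH := h1 r hrq
  obtain ⟨k1, k2, k5, k7⟩ := not_le_of_irr hm hp hf hpF' hr hrH
  obtain ⟨g, hgH, hgr, hg1⟩ : ∃ g ∈ H, g ^ r = 1 ∧ g ≠ 1 := by
    have := Fact.mk hod.prime
    have hfin : Finite (GL (Fin m ⊕ Fin m) F) := inferInstance
    obtain ⟨g, hg⟩ := exists_prime_orderOf_dvd_card' r hrH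
    refine ⟨g, g.2, ?_, ?_⟩
    · rw [← Subgroup.coe_pow, ← hg, pow_orderOf_eq_one]; rfl
    · intro h1
      have hg2 : g = 1 := Subtype.ext h1
      rw [hg2, orderOf_one] at hg
      exact hod.prime.one_lt.ne hg
  -- quadratic fields, `m ≥ 3`
  have kfield : ∀ (s : ℕ) (K : Subalgebra F (Matrix (Fin m ⊕ Fin m) (Fin m ⊕ Fin m) F)), s.Prime →
      IsFieldSubalgebra s K → H ≤ subalgebraNormalizer K → H ≤ spGL m F → m = 2 ∧ s = 2 := by
    intro s K hs hK hHK hHI
    have hsn : s ∣ 2 * m := by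
      let _ : Field K := (H912.isField_of_fieldSub hK).toField
      have h5 := Module.finrank_mul_finrank F K (Fin m ⊕ Fin m → F)
      rw [hK.finrank_eq, Module.finrank_fintype_fun_eq_card, hι] at h5
      exact Dvd.intro _ h5
    by_cases hm2 : m = 2
    · refine ⟨hm2, ?_⟩
      rw [hm2] at hsn
      have : s ∣ 2 ^ 2 := by norm_num; exact hsn
      exact (Nat.prime_dvd_prime_iff_eq hs Nat.prime_two).1 (hs.dvd_of_dvd_pow this)
    · exfalso
      have hm3 : 3 ≤ m := by omega
      have hs2 : s = 2 := by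
        by_cases hexc : Nat.card F = 2 ∧ 2 * m - 2 = 6
        · have hm4 : m = 4 := by omega
          rw [hm4] at hsn
          have : s ∣ 2 ^ 3 := by norm_num; exact hsn
          exact (Nat.prime_dvd_prime_iff_eq hs Nat.prime_two).1 (hs.dvd_of_dvd_pow this)
        · obtain ⟨r₁, hr₁⟩ := exists_pp (q := Nat.card F) (e := 2 * m - 2) (by omega) (by omega) hexc
          have h5 := H884.El.ext_cases hs hK hHK (by rw [hι]; exact hsn) hr₁ (by rw [hι]; omega) (h2 hm3 _ hr₁)
          exact H884.El.eq_two (by omega) hs hsn (hr₁.lt (by omega)) h5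
      subst hs2
      have ho3 := oddE_odd (m := m) (by omega)
      have he33 : 3 ≤ oddE m := by
        rcases Nat.even_or_odd m with he | ho
        · rw [oddE_of_even he]
          obtain ⟨k, hk⟩ := he
          omega
        · rw [oddE_of_odd ho]; exact hm3
      have he3n : 2 * m < 4 * oddE m := by
        rcases Nat.even_or_odd m with he | ho
        · rw [oddE_of_even he]; omega
        · rw [oddE_of_odd ho]; omega
      obtain ⟨r₃, hr₃⟩ := exists_pp (q := Nat.card F) (e := oddE m) (by omega) he33 (by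
        rintro ⟨-, h⟩
        rw [h] at ho3
        exact absurd ho3 (by decide))
      have hfin : Finite (GL (Fin m ⊕ Fin m) F) := inferInstance
      have := Fact.mk hr₃.prime
      obtain ⟨z, hz⟩ := exists_prime_orderOf_dvd_card' r₃ (h3 hm3 _ hr₃)
      refine no_quadratic_symp (g := (z : GL (Fin m ⊕ Fin m) F)) (hHI z.2) hr₃ ho3 he33 he3n ?_ ?_ hK (hHK z.2)
      · rw [← Subgroup.coe_pow, ← hz, pow_orderOf_eq_one]; rfl
      · intro h1
        have hg2 : z = 1 := Subtype.ext h1
        rw [hg2, orderOf_one] at hz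
        exact hr₃.prime.one_lt.ne hz
  rcases hM with hM | hM | hM | hM | hM
  · rcases hM with hM | hM | hM | hM | hM | hM | hM
    · obtain ⟨W, hW0, hW, rfl⟩ := hM
      exact absurd (hHM.trans inf_le_left) (k1 W hW0 (totallySingular_ne_top (by omega) hW))
    · obtain ⟨W, hW0, hW, hW2, rfl⟩ := hM
      refine absurd (hHM.trans inf_le_left) (k1 W hW0 ?_)
      rintro rfl
      rw [finrank_top, Module.finrank_fintype_fun_eq_card, hι] at hW2
      omega
    · obtain ⟨t, k, D, hD, rfl⟩ := hM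
      exact absurd (hHM.trans inf_le_left) (k2 t k D hD.decomp)
    · obtain ⟨D, -, hD, -, rfl⟩ := hM
      exact absurd (hHM.trans inf_le_left) (k2 2 m D hD)
    · obtain ⟨F₀, s, P, ζ, hs, hcard, -, -, rfl⟩ := hM
      exact absurd (hHM.trans inf_le_left) (k5 F₀ s P hs hcard)
    · obtain ⟨R, p', k, hR, habs, -, hp', hodd, hFp, hRc, hZ, -, rfl⟩ := hM
      exfalso
      have hfin : Finite (GL (Fin m ⊕ Fin m) F) := inferInstance
      have hcard := Cfsg.Agent.H921.card_eq_pow_of_center_prime hR habs hZ hRc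
      have hk : 1 ≤ k := by
        rcases Nat.eq_zero_or_pos k with h | h
        · rw [h, pow_zero, hι] at hcard
          omega
        · exact h
      have hHR : H ≤ subgroupNormalizer R := hHM.trans inf_le_left
      have hsp : ∀ {t : ℕ}, t.Prime → t ∣ Nat.card H → t = 2 ∨ t ∣ Nat.card F - 1 ∨ t ≤ 2 ^ k + 1 := fun ht hd =>
        symp_prime (by omega) hHR habs hR hk hcard hZ ht hd
      have hpp : ∀ {e t : ℕ}, 2 ≤ e → PP (Nat.card F) e t → t ∣ Nat.card H → t ≤ 2 * m + 1 := by
        intro e t he ht hd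
        have hlt := ht.lt (by omega)
        rcases hsp ht.prime hd with h | h | h
        · omega
        · have h5 : t ∣ Nat.card F ^ 1 - 1 := by rwa [pow_one]
          rw [ht.dvd_iff (by omega)] at h5
          have := Nat.le_of_dvd one_pos h5
          omega
        · rwa [← hcard, hι] at h
      have hF2 : Nat.card F ≠ 2 := by
        rw [Nat.card_eq_fintype_card, hFp]
        rintro rfl
        exact absurd hodd (by decide)
      by_cases hm2 : m = 2
      · -- `p' ≤ 5`
        have hp5 : p' ≤ 5 := by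
          rcases hsp hp' (hchar p' hp' (by rintro rfl; exact absurd hodd (by decide)) (by rw [hFp])) with h | h | h
          · omega
          · rw [Nat.card_eq_fintype_card, hFp] at h
            have := Nat.le_of_dvd (by have := hp'.two_le; omega) h
            have := hp'.two_le
            omega
          · rw [← hcard, hι, hm2] at h
            exact h
        have hp3 : p' ≠ 3 := by
          rintro rfl
          exact h23 ⟨hm2, hFp⟩
        have hp2 : p' ≠ 2 := by
          rintro rfl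
          exact absurd hodd (by decide)
        have hp4 : p' ≠ 4 := by
          rintro rfl
          exact absurd hp' (by norm_num)
        have := hp'.two_le
        have hp55 : p' = 5 := by omega
        have h13 : PP (Nat.card F) (2 * m) 13 := by
          rw [Nat.card_eq_fintype_card, hFp, hp55, hm2]
          refine ⟨by norm_num, ?_⟩
          have h := orderOf_eq_prime_pow (x := ((5 : ℕ) : ZMod 13)) (p := 2) (n := 1) (by decide) (by decide)
          rw [h]
          norm_num
        have := hpp (by omega) h13 (h1 _ h13)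
        omega
      · have hm3 : 3 ≤ m := by omega
        have hme : Even m := by
          rw [hι] at hcard
          match k, hcard with
          | 0, h => rw [pow_zero] at h; omega
          | 1, h => omega
          | k + 2, h =>
            rw [pow_succ, pow_succ] at h
            exact ⟨2 ^ k, by omega⟩
        have hm4 : 4 ≤ m := by
          obtain ⟨c, hc⟩ := hme
          omega
        obtain ⟨r₁, hr₁⟩ := exists_pp (q := Nat.card F) (e := 2 * m - 2) (by omega) (by omega) (fun h => hF2 h.1)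
        obtain ⟨r₃, hr₃⟩ := exists_pp (q := Nat.card F) (e := m - 1) (by omega) (by omega) (fun h => hF2 h.1)
        have h5 := hpp (by omega) hr₁ (h2 hm3 _ hr₁)
        have h6 := hpp (by omega) hr₃ (by
          have := h3 hm3
          rw [oddE_of_even hme] at this
          exact this _ hr₃)
        exact H884.El.false_of_even hm4 hme hr₁ hr₃ (by omega) (by omega)
    · obtain ⟨Q, hodd, hQ, hpol, rfl⟩ := hM
      have hHQ : H ≤ isometryGroup F Q := fun h hh =>
        mem_isometry (by omega) hpol (hHM hh).1 (hHM hh).2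
      by_cases hme : Even m
      · exact Or.inl ⟨hme, Nat.not_odd_iff_even.1 hodd, Q, hQ, hpol, hHQ⟩
      exfalso
      have hmo : Odd m := Nat.not_even_iff_odd.1 hme
      have hm3 : 3 ≤ m := by
        obtain ⟨k, hk⟩ := hmo
        omega
      obtain ⟨Q', hQ', hnd⟩ := Cfsg.Agent.H883.Bridge.exists_quadraticForm hQ
      have hfin : finrank F (Fin m ⊕ Fin m → F) = 2 * m := by rw [Module.finrank_fintype_fun_eq_card, hι]
      rw [← hQ'] at hHQ
      obtain ⟨x, hxH, hiso, -, hx1⟩ := exists_elt hHQ hrq (by omega) hrH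
      obtain ⟨hcm, hcmP⟩ := hiso.even_case hnd (H884.El.lin_ne_one hx1) hrq (even_two_mul m) (by omega)
      obtain ⟨r₃, hr₃⟩ := exists_pp (q := Nat.card F) (e := m) (by omega) hm3 (by
        rintro ⟨-, h⟩
        rw [h] at hmo
        exact absurd hmo (by decide))
      have h3' := h3 hm3
      rw [oddE_of_odd hmo] at h3'
      obtain ⟨z, hzH, hziso, -, hz1⟩ := exists_elt hHQ hr₃ (by omega) (h3' _ hr₃)
      obtain ⟨hzcm, hzP, -⟩ := hziso.odd_case hnd (H884.El.lin_ne_one hz1) hr₃ hmo (by omega)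
      have e1 : H951.cm (lin x) = ⊤ := Submodule.eq_top_of_finrank_eq (by rw [hcm, hfin])
      have e2 : H951.cm (lin z) = ⊤ := Submodule.eq_top_of_finrank_eq (by rw [hzcm, hfin])
      rw [e1] at hcmP
      rw [e2] at hzP
      exact hcmP hzP
  · obtain ⟨s, K, hs, hK, hsa, -, rfl⟩ := hM
    obtain ⟨hm2, rfl⟩ := kfield s K hs hK (hHM.trans inf_le_left) (hHM.trans inf_le_right)
    exact Or.inr ⟨hm2, K, hK, hsa, hHM.trans inf_le_left⟩
  · obtain ⟨K, -, hK, -, hnsa, rfl⟩ := hM
    exfalso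
    obtain ⟨hm2, -⟩ := kfield 2 K Nat.prime_two hK (hHM.trans inf_le_left) (hHM.trans inf_le_right)
    exact hnsa (selfAdjoint_of_irr (by rw [hm2]; decide) (by omega) (hHM hgH).2 hrq hgr hg1 hK (hHM hgH).1)
  · obtain ⟨n₁, n₂, e, P, f₁, f₂, -, hn2, hf₁, -, -, rfl⟩ := hM
    exfalso
    have hc := Fintype.card_congr e
    rw [hι, Fintype.card_prod, Fintype.card_fin, Fintype.card_fin] at hc
    refine H884.El.kill_tensor e P (hHM.trans inf_le_left) (two_le_of_symp hf₁ ?_) (by omega) (by rw [hι, hc]) hrq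
      (by rw [hι]; omega) hrH
    rintro rfl
    rw [zero_mul] at hc
    omega
  · obtain ⟨k, t, e, P, f₁, -, -, ht, -, hf₁, -, rfl⟩ := hM
    refine absurd (hHM.trans inf_le_left) (k7 k t e P (two_le_of_symp hf₁ ?_) (by omega))
    rintro rfl
    have h1 := Fintype.card_congr e
    rw [hι, Fintype.card_fun, Fintype.card_fin, Fintype.card_fin, zero_pow (by omega)] at h1
    omega

/-! ### `PSp` -/

theorem card_pre_eq (R : Subgroup (PSp m F)) : Nat.card R ∣ Nat.card (pre R) := by
  have hfin : Finite (GL (Fin m ⊕ Fin m) F) := inferInstance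
  have h1 : Nat.card (pre R) =
      Nat.card (R.comap (QuotientGroup.mk' (Subgroup.center (Matrix.symplecticGroup (Fin m) F)))) := by
    unfold pre
    rw [Subgroup.card_map_of_injective spToGL_injective]
  rw [h1]
  have h2 : R = (R.comap (QuotientGroup.mk' (Subgroup.center (Matrix.symplecticGroup (Fin m) F)))).map
      (QuotientGroup.mk' (Subgroup.center (Matrix.symplecticGroup (Fin m) F))) :=
    (Subgroup.map_comap_eq_self_of_surjective (QuotientGroup.mk'_surjective _) R).symm
  conv_lhs => rw [h2]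
  exact Subgroup.card_map_dvd _ _

/-- odd primes dividing `|Sp|` divide `|PSp|`. -/
theorem dvd_card_PSp (hm : 1 ≤ m) {r : ℕ} (hr : r.Prime) (hr2 : r ≠ 2) (h : r ∣ Nat.card (spGL m F)) :
    r ∣ Nat.card (PSp m F) := by
  have h1 : Nat.card (spGL m F) = Nat.card (Matrix.symplecticGroup (Fin m) F) := by
    have h2 : spGL m F = (⊤ : Subgroup (Matrix.symplecticGroup (Fin m) F)).map (spToGL m F) := by
      ext g
      constructor
      · intro hg
        obtain ⟨A, rfl⟩ := exists_spToGL hg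
        exact ⟨A, trivial, rfl⟩
      · rintro ⟨A, -, rfl⟩
        exact spToGL_mem A
    rw [h2, Subgroup.card_map_of_injective spToGL_injective, Subgroup.card_top]
  rw [h1, Subgroup.card_eq_card_quotient_mul_card_subgroup
    (Subgroup.center (Matrix.symplecticGroup (Fin m) F)), Cfsg.Agent.S0246.result (q := Fintype.card F) rfl m hm] at h
  rcases hr.dvd_mul.1 h with h2 | h2
  · exact h2
  · exfalso
    have h3 : r ∣ 2 := h2.trans (Nat.gcd_dvd_left _ _)
    exact hr2 ((Nat.prime_dvd_prime_iff_eq hr Nat.prime_two).1 h3)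

/-- **Prime version of the symplectic row.** A proper subgroup `R` of `PSp_2m(q)`, `(m, q) ≠ (2, 2), (3, 2), (2, 3)`:
some prime divisor of `|PSp_2m(q)|` does not divide `|R|`, or the preimage of `R` is in the residual class, or it
fixes a quadratic form (`m`, `q` even), or it normalises a self-adjoint quadratic field (`m = 2`). -/
theorem psp_miss (hm : 2 ≤ m) (h22 : ¬ (m = 2 ∧ Fintype.card F = 2)) (h32 : ¬ (m = 3 ∧ Fintype.card F = 2))
    (h23 : ¬ (m = 2 ∧ Fintype.card F = 3)) {R : Subgroup (PSp m F)} (hR : R ≠ ⊤) :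
    Miss R ∨ InSymplecticResidualClass (pre R) ∨ Spec m F (pre R) := by
  by_cases hM : Miss R
  · exact Or.inl hM
  right
  have hfull : ∀ r : ℕ, r.Prime → r ≠ 2 → r ∣ Nat.card (spGL m F) → r ∣ Nat.card (pre R) := by
    intro r hr hr2 h
    refine dvd_trans ?_ (card_pre_eq R)
    by_contra h1
    exact hM ⟨r, hr, dvd_card_PSp (by omega) hr hr2 h, h1⟩
  have hhits : ∀ e k : ℕ, 2 ≤ e → e ∣ 2 * k → 1 ≤ k → k ≤ m → Hits (pre R) e := by
    intro e k he hek hk hkm r hr
    have hr2 : r ≠ 2 := by have := hr.lt (by omega); omega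
    exact hfull r hr.prime hr2 (dvd_card_spGL (by omega) (od_of_pp hr (by omega)) hek hk hkm)
  rcases Cfsg.Agent.S5662.result m hm h22 (pre R) (pre_le R) (by
    rw [sup_eq_left.2 (scalars_le_pre R)]
    exact pre_ne hR) with ⟨M, hM', hle⟩ | h
  · right
    refine row_symp hm h22 h32 h23 hM' hle (hhits _ m (by omega) dvd_rfl (by omega) le_rfl)
      (fun h3 => hhits _ (m - 1) (by omega) (by rw [show 2 * m - 2 = 2 * (m - 1) by omega]) (by omega) (by omega))
      (fun h3 => ?_) ?_
    · rcases Nat.even_or_odd m with he | ho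
      · rw [oddE_of_even he]
        exact hhits _ (m - 1) (by omega) (Dvd.intro_left 2 rfl) (by omega) (by omega)
      · rw [oddE_of_odd ho]
        exact hhits _ m (by omega) (Dvd.intro_left 2 rfl) (by omega) le_rfl
    · intro p hp hp2 hpF
      have hcard : Nat.card F ∣ Nat.card (spGL m F) := by
        rw [Cfsg.Agent.H955.card_spGL]
        exact (dvd_pow_self _ (by nlinarith)).mul_right _
      rw [← Nat.card_eq_fintype_card] at hpF
      exact hfull p hp hp2 (hpF.trans hcard)
  · exact Or.inl h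

end Cfsg.Agent.H262.El
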