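import Cfsg.Agent.H262.ElSympQ

/-!
# TEAM ELUSIVE, symplectic row, prime version: quadratic fields and irreducible elements, `m` even
-/

set_option autoImplicit false

namespace Cfsg.Agent.H262.El

open Cfsg Cfsg.Geo Module Cfsg.Agent.H884.El Polynomial
open Cfsg.Agent.ClassicalGeometry.SympBasic Cfsg.Agent.H876 Cfsg.Agent.H931
open scoped Matrix MatrixGroups

universe u

variable {F : Type u} [Field F] [Fintype F] {m : ℕ}

omit [Field F] in
theorem od_of_pp {e r : ℕ} (h : PP (Nat.card F) e r) (he : 1 ≤ e) : Od (Fintype.card F) e r where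
  prime := h.prime
  ord := ord_eq h
  ndvd := by rw [← Nat.card_eq_fintype_card]; exact h.not_dvd he

omit [Field F] in
theorem pp_of_od {e r : ℕ} (h : Od (Fintype.card F) e r) : PP (Nat.card F) e r :=
  ⟨h.prime, by rw [Nat.card_eq_fintype_card]; exact h.ord⟩

section

variable {ι : Type} [Fintype ι] [DecidableEq ι]

theorem aeval_pow (A : Matrix ι ι F) (p : F[X]) (j : ℕ) :
    (aeval A p) ^ (Fintype.card F ^ j) = aeval (A ^ (Fintype.card F ^ j)) p := by
  induction j with
  | zero => rw [pow_zero, pow_one, pow_one]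
  | succ j ih =>
    rw [pow_succ, pow_mul, ih, pow_mul, ← map_pow, ← FiniteField.expand_card, expand_aeval]

omit [Fintype F] in
theorem exists_poly {A : Matrix ι ι F} (hirr : ∀ W : Submodule F (ι → F), (∀ v ∈ W, A *ᵥ v ∈ W) → W = ⊥ ∨ W = ⊤)
    [Nonempty ι] {k : Matrix ι ι F} (hk : A * k = k * A) : ∃ p : F[X], k = aeval A p := by
  obtain ⟨i⟩ := ‹Nonempty ι›
  set v0 : ι → F := Pi.single i 1 with hv0
  have hv : v0 ≠ 0 := by
    intro h
    have := congrFun h i
    simp [hv0] at this
  let S : Submodule F (ι → F) :=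
    { carrier := {w | ∃ p : F[X], w = (aeval A p) *ᵥ v0}
      zero_mem' := ⟨0, by simp⟩
      add_mem' := by
        rintro _ _ ⟨p, rfl⟩ ⟨q, rfl⟩
        exact ⟨p + q, by rw [map_add, Matrix.add_mulVec]⟩
      smul_mem' := by
        rintro c _ ⟨p, rfl⟩
        exact ⟨c • p, by rw [map_smul, Matrix.smul_mulVec]⟩ }
  have hS : S = ⊤ := by
    rcases hirr S (by
      rintro _ ⟨p, rfl⟩
      exact ⟨X * p, by rw [map_mul, aeval_X, Matrix.mulVec_mulVec]⟩) with h | h
    · exfalso
      apply hv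
      have : v0 ∈ S := ⟨1, by rw [map_one, Matrix.one_mulVec]⟩
      rw [h] at this
      exact (Submodule.mem_bot F).1 this
    · exact h
  obtain ⟨p, hp⟩ : k *ᵥ v0 ∈ S := by rw [hS]; trivial
  refine ⟨p, ?_⟩
  have hcomm : A * aeval A p = aeval A p * A := by
    have h1 : aeval A (X * p) = A * aeval A p := by rw [map_mul, aeval_X]
    have h2 : aeval A (p * X) = aeval A p * A := by rw [map_mul, aeval_X]
    rw [← h1, ← h2, mul_comm]
  have hker : LinearMap.ker (Matrix.toLin' (k - aeval A p)) = ⊤ := by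
    rcases hirr (LinearMap.ker (Matrix.toLin' (k - aeval A p))) (by
      intro v hv
      rw [LinearMap.mem_ker, Matrix.toLin'_apply] at hv ⊢
      rw [Matrix.mulVec_mulVec]
      have h1 : (k - aeval A p) * A = A * (k - aeval A p) := by rw [sub_mul, mul_sub, hk, hcomm]
      rw [h1, ← Matrix.mulVec_mulVec, hv, Matrix.mulVec_zero]) with h | h
    · exfalso
      apply hv
      have : v0 ∈ LinearMap.ker (Matrix.toLin' (k - aeval A p)) := by
        rw [LinearMap.mem_ker, Matrix.toLin'_apply, Matrix.sub_mulVec, hp, sub_self]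
      rw [h] at this
      exact (Submodule.mem_bot F).1 this
    · exact h
  have h0 := LinearMap.ker_eq_top.1 hker
  have h1 : k - aeval A p = 0 := Matrix.toLin'.injective (by rw [h0, map_zero])
  exact sub_eq_zero.1 h1

end

omit [Fintype F] in
/-- polynomials in an isometry: the adjoint. -/
theorem adj_poly {A B : Matrix (Fin m ⊕ Fin m) (Fin m ⊕ Fin m) F}
    (hAB : ∀ u v, sympForm m F (A *ᵥ u) v = sympForm m F u (B *ᵥ v)) (p : F[X]) :
    ∀ u v, sympForm m F ((aeval A p) *ᵥ u) v = sympForm m F u ((aeval B p) *ᵥ v) := by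
  induction p using Polynomial.induction_on' with
  | add p q hp hq =>
    intro u v
    rw [map_add, map_add, Matrix.add_mulVec, Matrix.add_mulVec, sympForm_add_left, sympForm_add_right, hp, hq]
  | monomial n a =>
    have hpow : ∀ n : ℕ, ∀ u v, sympForm m F ((A ^ n) *ᵥ u) v = sympForm m F u ((B ^ n) *ᵥ v) := by
      intro n
      induction n with
      | zero => intro u v; rw [pow_zero, pow_zero, Matrix.one_mulVec, Matrix.one_mulVec]
      | succ n ih =>
        intro u v
        rw [pow_succ', ← Matrix.mulVec_mulVec, hAB, ih, pow_succ, Matrix.mulVec_mulVec]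
    intro u v
    rw [aeval_monomial, aeval_monomial, ← Algebra.smul_def, ← Algebra.smul_def, Matrix.smul_mulVec, Matrix.smul_mulVec,
      sympForm_smul_left, sympForm_smul_right, hpow]

/-- `m` even: a quadratic field centralised by an element of order `r`, `ord_r(q) = 2 m`, is self-adjoint. -/
theorem selfAdjoint_of_irr (hm : Even m) (hm1 : 1 ≤ m) {g : GL (Fin m ⊕ Fin m) F} (hg : g ∈ spGL m F) {r : ℕ}
    (hr : PP (Nat.card F) (2 * m) r) (hgr : g ^ r = 1) (hg1 : g ≠ 1)
    {K : Subalgebra F (Matrix (Fin m ⊕ Fin m) (Fin m ⊕ Fin m) F)} (hK : IsFieldSubalgebra 2 K)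
    (hgK : g ∈ subalgebraNormalizer K) : IsSelfAdjointFor (sympForm m F) K := by
  have hne : Nonempty (Fin m ⊕ Fin m) := ⟨Sum.inl ⟨0, by omega⟩⟩
  have hr2 : r ≠ 2 := by have := hr.lt (by omega); omega
  have hcomm := comm_field Nat.prime_two hK hgK hr.prime hr2 hgr
  have hod := od_of_pp hr (by omega)
  have hirr := irr_of_od (F := F) (by rw [card_sum_fin]; exact hod) hgr hg1
  set A : Matrix (Fin m ⊕ Fin m) (Fin m ⊕ Fin m) F := (g : Matrix (Fin m ⊕ Fin m) (Fin m ⊕ Fin m) F) with hA
  set q := Fintype.card F with hq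
  have hqpos : 1 ≤ q := Fintype.card_pos
  -- `A ^ (q ^ m + 1) = 1`
  have hdvd : r ∣ q ^ m + 1 := by
    have h1 : r ∣ q ^ (2 * m) - 1 := (hod.dvd_iff hqpos _).2 dvd_rfl
    have h2 : ¬ r ∣ q ^ m - 1 := by
      rw [hod.dvd_iff hqpos]
      intro h
      have := Nat.le_of_dvd (by omega) h
      omega
    have h3 : q ^ (2 * m) - 1 = (q ^ m + 1) * (q ^ m - 1) := by
      rw [mul_comm 2 m, pow_mul]
      have := Nat.sq_sub_sq (q ^ m) 1
      rwa [one_pow] at this
    rw [h3] at h1
    exact (hr.prime.dvd_mul.1 h1).resolve_right h2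
  have hAinv : A * A ^ (q ^ m) = 1 := by
    rw [← pow_succ']
    obtain ⟨c, hc⟩ := hdvd
    rw [hc, hA, ← Units.val_pow_eq_pow_val, pow_mul, hgr, one_pow, Units.val_one]
  have hAB : ∀ u v, sympForm m F (A *ᵥ u) v = sympForm m F u (A ^ (q ^ m) *ᵥ v) := by
    intro u v
    have h1 := mem_spGL_iff.1 hg u (A ^ (q ^ m) *ᵥ v)
    rw [← hA, Matrix.mulVec_mulVec, hAinv, Matrix.one_mulVec] at h1
    exact h1
  intro k hk u v
  obtain ⟨p, hp⟩ := exists_poly hirr (hcomm k hk)
  -- `k ^ (q ^ m) = k`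
  have hkq : k ^ (q ^ m) = k := by
    let _ : Field K := (H912.isField_of_fieldSub hK).toField
    have hKfin : Finite K := Module.finite_of_finite F
    have := Fintype.ofFinite K
    have hcardK : Fintype.card K = q ^ 2 := by
      have h2 := Module.natCard_eq_pow_finrank (K := F) (V := K)
      rw [hK.finrank_eq, Nat.card_eq_fintype_card, Nat.card_eq_fintype_card] at h2
      exact h2
    obtain ⟨j, hj⟩ := hm
    have hqm : q ^ m = Fintype.card K ^ j := by
      rw [hcardK, ← pow_mul, show 2 * j = m by omega]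
    have h1 : (⟨k, hk⟩ : K) ^ (q ^ m) = ⟨k, hk⟩ := by
      rw [hqm]
      exact FiniteField.pow_card_pow j _
    have h2 := congrArg Subtype.val h1
    exact h2
  have h1 := adj_poly hAB p u v
  rw [← aeval_pow, ← hp, hkq] at h1
  exact h1

end Cfsg.Agent.H262.El
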