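import Cfsg.Agent.H262.ElFix
import Cfsg.Agent.H918.TransvWreath

/-!
# TEAM ELUSIVE: elements of prime order `r` in subfield groups and tensor wreath groups
-/

set_option autoImplicit false

namespace Cfsg.Agent.H262.El

open Cfsg Cfsg.Geo Module
open scoped Matrix MatrixGroups

theorem eq_one_of_coprime {G : Type*} [Group G] {x : G} {r N : ℕ} (hr : r.Prime) (hx : x ^ r = 1)
    (hN : x ^ N = 1) (h : ¬ r ∣ N) : x = 1 := by
  have h1 : orderOf x ∣ r := orderOf_dvd_of_pow_eq_one hx
  have h2 : orderOf x ∣ N := orderOf_dvd_of_pow_eq_one hN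
  rcases (Nat.dvd_prime hr).1 h1 with h3 | h3
  · exact orderOf_eq_one_iff.1 h3
  · rw [h3] at h2
    exact absurd h2 h

/-- a prime not dividing the order of `GL_n(q)` -/
theorem not_dvd_card_GL {ι : Type} [Fintype ι] [DecidableEq ι] {F : Type*} [Field F] [Fintype F] {r : ℕ}
    (hr : r.Prime) (hq : ¬ r ∣ Fintype.card F)
    (h : ∀ j, 1 ≤ j → j ≤ Fintype.card ι → ¬ r ∣ Fintype.card F ^ j - 1) :
    ¬ r ∣ Nat.card (GL ι F) := by
  have e : GL ι F ≃* GL (Fin (Fintype.card ι)) F := glReindex (Fintype.equivFin ι)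
  rw [Nat.card_congr e.toEquiv, Matrix.card_GL_field]
  intro hd
  obtain ⟨i, -, hi⟩ := (Prime.dvd_finset_prod_iff hr.prime _).1 hd
  have h1 : Fintype.card F ^ Fintype.card ι - Fintype.card F ^ (i : ℕ) =
      Fintype.card F ^ (i : ℕ) * (Fintype.card F ^ (Fintype.card ι - i) - 1) := by
    rw [Nat.mul_sub, mul_one, ← pow_add]
    congr 2
    have := i.2
    omega
  rw [h1, hr.dvd_mul] at hi
  rcases hi with hi | hi
  · exact hq (hr.dvd_of_dvd_pow hi)
  · exact h _ (by have := i.2; omega) (by omega) hi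

variable {ι : Type} [Fintype ι] [DecidableEq ι] {F : Type*} [Field F]

theorem scalar_pow_card [Fintype F] {z : GL ι F} (hz : z ∈ scalars ι F) :
    z ^ (Fintype.card F - 1) = 1 := by
  obtain ⟨c, hc⟩ := (mem_scalars_iff z).1 hz
  apply Units.ext
  have hk : ∀ k : ℕ, ((z ^ k : GL ι F) : Matrix ι ι F) = ((c : F) ^ k) • (1 : Matrix ι ι F) := by
    intro k
    rw [Units.val_pow_eq_pow_val, hc, smul_pow, one_pow]
  rw [hk, FiniteField.pow_card_sub_one_eq_one _ c.ne_zero, one_smul, Units.val_one]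

theorem scalar_comm {z : GL ι F} (hz : z ∈ scalars ι F) (g : GL ι F) : Commute z g :=
  Cfsg.Agent.H918.commute_of_mem_scalars hz g

/-- elements of order `r` in subfield groups -/
theorem eq_one_of_mem_subfieldSubgroup [Fintype F] {F₀ : Subfield F} {P x : GL ι F}
    (hx : x ∈ subfieldSubgroup F₀ P) {r : ℕ} (hr : r.Prime) (hxr : x ^ r = 1)
    (hq : ¬ r ∣ Nat.card F₀) (h1 : ¬ r ∣ Fintype.card F - 1)
    (h : ∀ j, 1 ≤ j → j ≤ Fintype.card ι → ¬ r ∣ Nat.card F₀ ^ j - 1) : x = 1 := by
  classical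
  have : Fintype F₀ := Fintype.ofFinite F₀
  rw [Nat.card_eq_fintype_card] at hq h
  have hN := not_dvd_card_GL (ι := ι) (F := F₀) hr hq h
  set N := Nat.card (GL ι F₀) with hNd
  obtain ⟨y, hy, rfl⟩ := hx
  obtain ⟨a, ⟨b, hb⟩, z, hz, hab⟩ := Subgroup.mem_sup_of_normal_right.1 hy
  have hyN : y ^ (N * (Fintype.card F - 1)) = 1 := by
    have e1 : z ^ (N * (Fintype.card F - 1)) = 1 := by
      rw [mul_comm, pow_mul, scalar_pow_card hz, one_pow]
    have e2 : a ^ (N * (Fintype.card F - 1)) = 1 := by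
      rw [pow_mul, ← hb, ← map_pow, pow_card_eq_one', map_one, one_pow]
    rw [← hab, (scalar_comm hz a).symm.mul_pow, e1, e2, one_mul]
  refine eq_one_of_coprime hr hxr (N := N * (Fintype.card F - 1)) ?_ ?_
  · rw [← map_pow, hyN, map_one]
  · rw [hr.dvd_mul]
    push Not
    exact ⟨hN, h1⟩

/-- elements of prime order `r > t` in tensor wreath groups -/
theorem eq_one_of_mem_tensorWreathStandard [Fintype F] {m t : ℕ} {x : GL (Fin t → Fin m) F}
    (hx : x ∈ tensorWreathStandard m t F) {r : ℕ} (hr : r.Prime) (hxr : x ^ r = 1) (ht : t < r)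
    (hq : ¬ r ∣ Fintype.card F) (h : ∀ j, 1 ≤ j → j ≤ m → ¬ r ∣ Fintype.card F ^ j - 1) : x = 1 := by
  obtain ⟨gs, σ, hg⟩ := Cfsg.Agent.H918.isWreathElt_of_mem hx
  have hN := not_dvd_card_GL (ι := Fin m) (F := F) hr hq (by rwa [Fintype.card_fin])
  set N := Nat.card (GL (Fin m) F) with hNd
  have hpow : ∀ k : ℕ, ∃ hs : Fin t → GL (Fin m) F, ∀ a b,
      ((x ^ k : GL (Fin t → Fin m) F) : Matrix (Fin t → Fin m) (Fin t → Fin m) F) a b =
        ∏ i, (hs i : Matrix (Fin m) (Fin m) F) (a i) (b ((σ ^ k) i)) := by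
    intro k
    induction k with
    | zero =>
      refine ⟨fun _ => 1, fun a b => ?_⟩
      simp only [pow_zero, Units.val_one, Equiv.Perm.coe_one, id_eq, Matrix.one_apply]
      by_cases h : a = b
      · subst h; simp
      · rw [if_neg h]
        obtain ⟨i, hi⟩ := Function.ne_iff.1 h
        exact (Finset.prod_eq_zero (Finset.mem_univ i) (if_neg hi)).symm
    | succ k ih =>
      obtain ⟨hs, hk⟩ := ih
      refine ⟨fun i => gs i * hs (σ i), fun a b => ?_⟩
      rw [pow_succ', pow_succ]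
      exact Cfsg.Agent.H918.wreath_mul_apply hg hk a b
  obtain ⟨hs, hk⟩ := hpow t.factorial
  have hσ : σ ^ t.factorial = 1 := by
    have : t.factorial = Fintype.card (Equiv.Perm (Fin t)) := by
      rw [Fintype.card_perm, Fintype.card_fin]
    rw [this, pow_card_eq_one]
  rw [hσ] at hk
  have hpure : ∀ k : ℕ, ∀ a b,
      (((x ^ t.factorial) ^ k : GL (Fin t → Fin m) F) : Matrix (Fin t → Fin m) (Fin t → Fin m) F) a b =
        ∏ i, ((hs i ^ k : GL (Fin m) F) : Matrix (Fin m) (Fin m) F) (a i) (b i) := by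
    intro k
    induction k with
    | zero =>
      intro a b
      simp only [pow_zero, Units.val_one, Matrix.one_apply]
      by_cases h : a = b
      · subst h; simp
      · rw [if_neg h]
        obtain ⟨i, hi⟩ := Function.ne_iff.1 h
        exact (Finset.prod_eq_zero (Finset.mem_univ i) (if_neg hi)).symm
    | succ k ih =>
      intro a b
      rw [pow_succ']
      have h1 := Cfsg.Agent.H918.wreath_mul_apply (g := x ^ t.factorial) (h := (x ^ t.factorial) ^ k)
        (gs := hs) (hs := fun i => hs i ^ k) (σ := 1) (τ := 1) hk ih a b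
      rw [h1]
      refine Finset.prod_congr rfl fun i _ => ?_
      rw [pow_succ']
      rfl
  refine eq_one_of_coprime hr hxr (N := t.factorial * N) ?_ ?_
  · rw [pow_mul]
    apply Units.ext
    ext a b
    rw [hpure, Units.val_one, Matrix.one_apply]
    have h1 : ∀ i, hs i ^ N = 1 := fun i => pow_card_eq_one'
    simp only [h1, Units.val_one, Matrix.one_apply]
    by_cases h : a = b
    · subst h; simp
    · rw [if_neg h]
      obtain ⟨i, hi⟩ := Function.ne_iff.1 h
      exact Finset.prod_eq_zero (Finset.mem_univ i) (if_neg hi)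
  · rw [hr.dvd_mul, hr.dvd_factorial]
    push Not
    exact ⟨ht, hN⟩

/-- elements of prime order `r > t` in tensor wreath groups -/
theorem eq_one_of_mem_tensorWreathSubgroup [Fintype F] {m t : ℕ} {e : ι ≃ (Fin t → Fin m)} {P x : GL ι F}
    (hx : x ∈ tensorWreathSubgroup m t e P) {r : ℕ} (hr : r.Prime) (hxr : x ^ r = 1) (ht : t < r)
    (hq : ¬ r ∣ Fintype.card F) (h : ∀ j, 1 ≤ j → j ≤ m → ¬ r ∣ Fintype.card F ^ j - 1) : x = 1 := by
  obtain ⟨x', ⟨k, hk, rfl⟩, rfl⟩ := hx
  have hk1 : k ^ r = 1 := by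
    have h1 : (MulAut.conj P).toMonoidHom ((glReindex e.symm).toMonoidHom (k ^ r)) = 1 := by
      rw [map_pow, map_pow]
      exact hxr
    have h2 : (glReindex e.symm).toMonoidHom (k ^ r) = 1 := by
      apply (MulAut.conj P).injective
      rw [map_one]
      exact h1
    apply (glReindex e.symm).injective
    rw [map_one]
    exact h2
  rw [eq_one_of_mem_tensorWreathStandard hk hr hk1 ht hq h, map_one, map_one]

end Cfsg.Agent.H262.El
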