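import Cfsg.Agent.H262.ElSymp

/-!
# TEAM ELUSIVE, symplectic row: every member of a geometric class of `Sp_2m(q)` misses a class of
elements of prime order
-/

set_option autoImplicit false

namespace Cfsg.Agent.H262.El

open Cfsg Cfsg.Geo Module
open Cfsg.Agent.ClassicalGeometry.SympBasic Cfsg.Agent.H876 Cfsg.Agent.H931
open scoped Matrix MatrixGroups

variable {F : Type*} [Field F] {m : ℕ}

theorem dvd_card_spGL [Fintype F] (hm : 1 ≤ m) {n r k : ℕ} (hr : Od (Fintype.card F) n r) (hn : n ∣ 2 * k)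
    (hk1 : 1 ≤ k) (hkm : k ≤ m) : r ∣ Nat.card (spGL m F) := by
  rw [Cfsg.Agent.H955.card_spGL, Nat.card_eq_fintype_card]
  apply Dvd.dvd.mul_left
  refine dvd_trans ?_ (Finset.dvd_prod_of_mem _ (Finset.mem_range.2 (by omega : k - 1 < m)))
  rw [hr.dvd_iff Fintype.card_pos]
  rwa [show 2 * (k - 1 + 1) = 2 * k by omega]

theorem conj_mem_scalar_of_eq {G : Type*} [Group G] {a b : G} (h : a = b) : a = b := h

theorem totallySingular_ne_top (hm : 1 ≤ m) {W : Submodule F (Fin m ⊕ Fin m → F)}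
    (hW : IsTotallySingularFor (sympForm m F) W) : W ≠ ⊤ := by
  rintro rfl
  have hv0 : (Pi.single (Sum.inl ⟨0, by omega⟩) 1 : Fin m ⊕ Fin m → F) ≠ 0 := by
    intro h0
    have := congrFun h0 (Sum.inl ⟨0, by omega⟩)
    simp at this
  exact hv0 (eq_zero_of_forall_sympForm_left fun u => hW _ Submodule.mem_top _ Submodule.mem_top)

/-- a nonzero form on `Fin n₁` of symplectic type has `n₁ ≥ 2` -/
theorem two_le_of_symp {n : ℕ} {f : (Fin n → F) → (Fin n → F) → F} (hf : IsSymplecticForm f) (hn : n ≠ 0) :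
    2 ≤ n := by
  have h := even_of_isSymplecticForm hf
  rw [Fintype.card_fin] at h
  obtain ⟨k, hk⟩ := h
  omega

/-- normalisers of extension fields -/
theorem kill_field [Finite F] (hm : 2 ≤ m) {r : ℕ} (hr : r.Prime)
    {K : Subalgebra F (Matrix (Fin m ⊕ Fin m) (Fin m ⊕ Fin m) F)} (hK : IsFieldSubalgebra r K) :
    Kill m F (subalgebraNormalizer K) :=
  kill_of_tv (by omega) fun y _ hy => rankOne_not_mem_subalgebraNormalizer
    (by rw [card_sum_fin]; omega) hy.isRankOneElt hr.two_le hK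

/-- tensor decompositions -/
theorem kill_tensor [Finite F] (hm : 1 ≤ m) {n₁ n₂ : ℕ} (h₁ : 2 ≤ n₁) (h₂ : 2 ≤ n₂)
    (e : Fin m ⊕ Fin m ≃ Fin n₁ × Fin n₂) (P : GL (Fin m ⊕ Fin m) F) :
    Kill m F (tensorProductSubgroup n₁ n₂ e P) :=
  kill_of_tv hm fun y _ hy => hy.isRankOneElt.not_mem_tensorProductSubgroup h₁ h₂ e P

/-- normalisers of symplectic type groups -/
theorem kill_symplecticType [Finite F] (hm : 2 ≤ m) {R : Subgroup (GL (Fin m ⊕ Fin m) F)}
    (hR : IsSymplecticTypeGroup 2 R) (habs : ActsAbsolutelyIrreducibly (matrixSet R)) :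
    Kill m F (subgroupNormalizer R) := by
  refine kill_of_tv (by omega) fun y _ hy => hy.not_mem_subgroupNormalizer
    (by rw [card_sum_fin]; omega) habs ?_
  intro a ha b hb
  have h1 := Cfsg.Agent.H921.commutator_mem_center hR (fun h => absurd h (by decide)) ⟨a, ha⟩ ⟨b, hb⟩
  obtain ⟨c, hc⟩ := Cfsg.Agent.H921.center_scalar habs _ h1
  refine ⟨c, ?_⟩
  have h2 : a * b = (a * b * a⁻¹ * b⁻¹) * (b * a) := by group
  have h3 := congrArg Units.val h2
  rw [Units.val_mul, Units.val_mul (a * b * a⁻¹ * b⁻¹), Units.val_mul b a] at h3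
  rw [h3]
  have h4 : ((a * b * a⁻¹ * b⁻¹ : GL (Fin m ⊕ Fin m) F) : Matrix (Fin m ⊕ Fin m) (Fin m ⊕ Fin m) F) =
      c • (1 : Matrix (Fin m ⊕ Fin m) (Fin m ⊕ Fin m) F) := hc
  rw [h4, Matrix.smul_mul, Matrix.one_mul]

/-- the classes killed by irreducible elements of prime order -/
theorem kill_of_irr [Fintype F] (hm : 2 ≤ m) {p f r : ℕ} (hp : p.Prime) (hf : 1 ≤ f) (hF : Fintype.card F = p ^ f)
    (hr : Cfsg.Agent.H163.PG.Ppd p (f * (2 * m)) r) :
    (∀ W : Submodule F (Fin m ⊕ Fin m → F), W ≠ ⊥ → W ≠ ⊤ → Kill m F (subspaceStabilizer W)) ∧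
    (∀ (t k : ℕ) (D : Fin t → Submodule F (Fin m ⊕ Fin m → F)), IsMDecomposition k D →
      Kill m F (decompositionStabilizer D)) ∧
    (∀ (F₀ : Subfield F) (s : ℕ) (P : GL (Fin m ⊕ Fin m) F), s.Prime → Fintype.card F = Nat.card F₀ ^ s →
      Kill m F (subfieldSubgroup F₀ P)) ∧
    (∀ (k t : ℕ) (e : (Fin m ⊕ Fin m) ≃ (Fin t → Fin k)) (P : GL (Fin m ⊕ Fin m) F), 2 ≤ k → 2 ≤ t →
      Kill m F (tensorWreathSubgroup k t e P)) := by
  have hod : Od (Fintype.card F) (2 * m) r := by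
    rw [hF]
    exact Od.of_ppd hp hf (by omega) hr
  have hι : Fintype.card (Fin m ⊕ Fin m) = 2 * m := card_sum_fin
  have hd := dvd_card_spGL (by omega) hod dvd_rfl (by omega) le_rfl
  have hirr : ∀ y : GL (Fin m ⊕ Fin m) F, y ^ r = 1 → y ≠ 1 → ∀ W : Submodule F (Fin m ⊕ Fin m → F),
      (∀ v ∈ W, (y : Matrix (Fin m ⊕ Fin m) (Fin m ⊕ Fin m) F) *ᵥ v ∈ W) → W = ⊥ ∨ W = ⊤ :=
    fun y h1 h2 => irr_of_od (by rw [hι]; exact hod) h1 h2
  refine ⟨fun W h0 h1 => ?_, fun t k D hD => ?_, fun F₀ s P hs hcard => ?_, fun k t e P hk ht => ?_⟩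
  · exact kill_of_prime hod.prime hd fun y hy hyr hy1 =>
      not_mem_subspaceStabilizer_of_irr (hirr y hyr hy1) h0 h1
  · refine kill_of_prime hod.prime hd fun y hy hyr hy1 hyD => ?_
    have htk : t * k = 2 * m := by rw [Cfsg.Agent.H918.decomp_card hD, hι]
    have ht : t ≤ 2 * m := by
      rw [← htk]
      exact Nat.le_mul_of_pos_right t hD.pos
    have h1 := fixes_of_decomposition hD hyD hod.prime (lt_of_le_of_lt ht hod.lt) hyr ⟨0, by
      have := hD.two_le; omega⟩
    rcases hirr y hyr hy1 _ h1 with h2 | h2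
    · exact Cfsg.Agent.H918.decomp_ne_bot hD _ h2
    · have h3 := hD.finrank_eq ⟨0, by have := hD.two_le; omega⟩
      rw [h2, finrank_top, Module.finrank_fintype_fun_eq_card, hι] at h3
      have h4 := hD.two_le
      have h5 := hD.pos
      have h6 : 2 * k ≤ t * k := Nat.mul_le_mul_right k h4
      omega
  · refine kill_of_prime hod.prime hd fun y hy hyr hy1 hyD => hy1 ?_
    -- `|F₀| = p ^ f₀`, `f = f₀ s`
    obtain ⟨f₀, hf₀1, hf₀, hfs⟩ : ∃ f₀ : ℕ, 1 ≤ f₀ ∧ Nat.card F₀ = p ^ f₀ ∧ f = f₀ * s := by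
      have h1 : Nat.card F₀ ∣ p ^ f := by
        rw [← hF, hcard]
        exact dvd_pow_self _ hs.ne_zero
      obtain ⟨f₀, -, hf₀⟩ := (Nat.dvd_prime_pow hp).1 h1
      refine ⟨f₀, ?_, hf₀, ?_⟩
      · rcases Nat.eq_zero_or_pos f₀ with h0 | h0
        · exfalso
          rw [h0, pow_zero] at hf₀
          rw [hf₀, one_pow] at hcard
          have := Fintype.one_lt_card (α := F)
          omega
        · exact h0
      · rw [hF, hf₀, ← pow_mul] at hcard
        exact Nat.pow_right_injective hp.two_le hcard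
    have hdvd : ∀ j, r ∣ p ^ j - 1 ↔ f * (2 * m) ∣ j := hr.dvd_iff hp.one_lt.le
    have hs2 := hs.two_le
    refine eq_one_of_mem_subfieldSubgroup hyD hod.prime hyr ?_ ?_ ?_
    · intro h
      rw [hf₀] at h
      have h1 := hod.prime.dvd_of_dvd_pow h
      apply hod.ndvd
      rw [hF]
      exact h1.trans (dvd_pow_self p (by omega))
    · rw [hF, hdvd]
      intro h
      have := Nat.le_of_dvd hf h
      nlinarith
    · intro j hj1 hj2
      rw [hf₀, ← pow_mul, hdvd]
      intro h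
      have h1 := Nat.le_of_dvd (Nat.mul_pos hf₀1 hj1) h
      rw [hι] at hj2
      have h2 : f₀ * j ≤ f₀ * (2 * m) := Nat.mul_le_mul_left _ hj2
      have h3 : f₀ < f := by
        rw [hfs]
        nlinarith
      have h4 : f₀ * (2 * m) < f * (2 * m) := Nat.mul_lt_mul_of_pos_right h3 (by omega)
      omega
  · refine kill_of_prime hod.prime hd fun y hy hyr hy1 hyD => hy1 ?_
    have hkt : k ^ t = 2 * m := by
      have h1 := Fintype.card_congr e
      rw [hι, Fintype.card_fun, Fintype.card_fin, Fintype.card_fin] at h1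
      exact h1.symm
    have htm : t < 2 * m := by
      rw [← hkt]
      exact lt_of_lt_of_le Nat.lt_two_pow_self (Nat.pow_le_pow_left hk t)
    have hkm : k < 2 * m := by
      rw [← hkt]
      calc k = k ^ 1 := (pow_one k).symm
        _ < k ^ t := Nat.pow_lt_pow_right (by omega) (by omega)
    refine eq_one_of_mem_tensorWreathSubgroup hyD hod.prime hyr (htm.trans hod.lt) hod.ndvd ?_
    intro j hj1 hj2
    rw [hod.dvd_iff Fintype.card_pos]
    intro h
    have := Nat.le_of_dvd hj1 h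
    omega

/-- **Members of the geometric classes of `Sp_2m(q)`, `(m, q) ≠ (3, 2)`.** -/
theorem kill_class [Fintype F] (hm : 2 ≤ m) (h32 : ¬ (m = 3 ∧ Fintype.card F = 2))
    {M : Subgroup (GL (Fin m ⊕ Fin m) F)} (hM : InSymplecticClass m F M) : Kill m F M := by
  obtain ⟨p, hp⟩ := CharP.exists F
  have hpp : p.Prime := CharP.char_is_prime F p
  obtain ⟨f, hf1, hF⟩ : ∃ f : ℕ, 1 ≤ f ∧ Fintype.card F = p ^ f := by
    obtain ⟨n, -, hn⟩ := FiniteField.card F p
    exact ⟨n, n.pos, hn⟩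
  have hι : Fintype.card (Fin m ⊕ Fin m) = 2 * m := card_sum_fin
  obtain ⟨r, hr⟩ := Cfsg.Agent.H163.PG.exists_ppd (p := p) (f := f) (k := 2 * m) hpp.two_le
    (by nlinarith) (by
      rintro ⟨h2, h6⟩
      apply h32
      have h3 : f * m = 3 := by
        have : f * (2 * m) = 2 * (f * m) := by ring
        omega
      have h4 : m ∣ 3 := Dvd.intro_left f h3
      have h5 : m = 3 := by
        rcases (Nat.dvd_prime Nat.prime_three).1 h4 with h | h
        · omega
        · exact h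
      have h6 : f = 1 := by subst h5; omega
      exact ⟨h5, by rw [hF, h2, h6, pow_one]⟩)
  obtain ⟨k1, k2, k5, k7⟩ := kill_of_irr hm hpp hf1 hF hr
  have hod : Od (Fintype.card F) (2 * m) r := by
    rw [hF]
    exact Od.of_ppd hpp hf1 (by omega) hr
  rcases hM with hM | hM | hM | hM | hM
  · rcases hM with hM | hM | hM | hM | hM | hM | hM
    · obtain ⟨W, hW0, hW, rfl⟩ := hM
      exact (k1 W hW0 (totallySingular_ne_top (by omega) hW)).mono inf_le_left
    · obtain ⟨W, hW0, hW, hW2, rfl⟩ := hM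
      refine (k1 W hW0 ?_).mono inf_le_left
      rintro rfl
      rw [finrank_top, Module.finrank_fintype_fun_eq_card, hι] at hW2
      omega
    · obtain ⟨t, k, D, hD, rfl⟩ := hM
      exact (k2 t k D hD.decomp).mono inf_le_left
    · obtain ⟨D, -, hD, -, rfl⟩ := hM
      exact (k2 2 m D hD).mono inf_le_left
    · obtain ⟨F₀, s, P, ζ, hs, hcard, -, -, rfl⟩ := hM
      exact (k5 F₀ s P hs hcard).mono inf_le_left
    · obtain ⟨R, p', k, hR, habs, -, -, -, -, -, -, -, rfl⟩ := hM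
      exact (kill_symplecticType hm hR habs).mono inf_le_left
    · obtain ⟨Q, hodd, hQ, -, rfl⟩ := hM
      exact kill_quad hm hodd hQ (Or.inl ⟨r, hod⟩)
  · obtain ⟨s, K, hs, hK, -, -, rfl⟩ := hM
    exact (kill_field hm hs hK).mono inf_le_left
  · obtain ⟨K, -, hK, -, -, rfl⟩ := hM
    exact (kill_field hm Nat.prime_two hK).mono inf_le_left
  · obtain ⟨n₁, n₂, e, P, f₁, f₂, -, hn2, hf₁, -, -, rfl⟩ := hM
    refine (kill_tensor (by omega) (two_le_of_symp hf₁ ?_) (by omega) e P).mono inf_le_left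
    rintro rfl
    have h1 := Fintype.card_congr e
    rw [hι, Fintype.card_prod, Fintype.card_fin, zero_mul] at h1
    omega
  · obtain ⟨k, t, e, P, f₁, -, -, ht, -, hf₁, -, rfl⟩ := hM
    refine (k7 k t e P (two_le_of_symp hf₁ ?_) (by omega)).mono inf_le_left
    rintro rfl
    have h1 := Fintype.card_congr e
    rw [hι, Fintype.card_fun, Fintype.card_fin, Fintype.card_fin, zero_pow (by omega)] at h1
    omega

end Cfsg.Agent.H262.El
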