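import Cfsg.Agent.H278.ElCrossIface

/-!
# TEAM ELUSIVE: cross characteristic socles, few large primes: symplectic and orthogonal groups
-/

set_option autoImplicit false

namespace Cfsg.Agent.H262.Few

open Cfsg.Agent.OrdDiv Cfsg.Agent.H436 Cfsg.Agent.H927.SgX Cfsg.Agent.H278.El.CrossNum

theorem few_core {u p f c L : ℕ} (hp : p.Prime) (hu : u = p ^ f) (hu2 : 2 ≤ u) (l : List ℕ) (hl5 : l.length ≤ 5)
    (hlx : ∀ x ∈ l, 0 < x ∧ x < (L - 11) ^ 2) (hL : 37 ≤ L) (huL : u < L - 11)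
    (hc : ∀ t : ℕ, t.Prime → t ∣ c → t ∣ u ∨ (∃ x ∈ l, t ∣ x) ∨ ∃ y, 0 < y ∧ y < L - 11 ∧ t ∣ y) :
    Few L (6 * f * c) := by
  refine ⟨l, hl5, hlx, fun t ht hLt hd => ?_⟩
  have hf : 0 < f := by
    rcases Nat.eq_zero_or_pos f with h | h
    · rw [h, pow_zero] at hu; omega
    · exact h
  rcases ht.dvd_mul.1 hd with h | h
  · exfalso
    rcases ht.dvd_mul.1 h with h | h
    · have := Nat.le_of_dvd (by norm_num) h
      omega
    · have h1 := Nat.le_of_dvd hf h
      have h2 : f < p ^ f := Nat.lt_pow_self hp.one_lt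
      omega
  · rcases hc t ht h with h | h | ⟨y, h1, h2, h3⟩
    · have := Nat.le_of_dvd (by omega) h
      omega
    · exact h
    · have := Nat.le_of_dvd h1 h3
      omega

theorem dvd_prB {t u m : ℕ} (ht : t.Prime) (h : t ∣ prB u m) :
    ∃ i, 1 ≤ i ∧ i ≤ m ∧ (t ∣ u ^ i - 1 ∨ t ∣ u ^ i + 1) := by
  unfold prB at h
  obtain ⟨a, ha, hta⟩ := (ht.prime.dvd_prod_iff).1 h
  obtain ⟨i, hi, rfl⟩ := List.mem_map.1 ha
  rw [List.mem_range] at hi
  refine ⟨i + 1, by omega, by omega, ?_⟩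
  have h1 : u ^ (2 * (i + 1)) - 1 = (u ^ (i + 1) + 1) * (u ^ (i + 1) - 1) := by
    rw [mul_comm 2, pow_mul]
    have := Nat.sq_sub_sq (u ^ (i + 1)) 1
    rwa [one_pow] at this
  rw [h1] at hta
  rcases ht.dvd_mul.1 hta with h | h
  · exact Or.inr h
  · exact Or.inl h

/-- the small factors -/
theorem small {t u i k B : ℕ} (hu : 2 ≤ u) (hi : 1 ≤ i) (hik : i ≤ k) (hB : u ^ k + 1 < B)
    (h : t ∣ u ^ i - 1 ∨ t ∣ u ^ i + 1) : ∃ y, 0 < y ∧ y < B ∧ t ∣ y := by
  have h1 : u ^ i ≤ u ^ k := Nat.pow_le_pow_right (by omega) hik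
  have h2 : u ^ 1 ≤ u ^ i := Nat.pow_le_pow_right (by omega) hi
  rw [pow_one] at h2
  rcases h with h | h
  · exact ⟨_, by omega, by omega, h⟩
  · exact ⟨_, by omega, by omega, h⟩

theorem few_psp {m u p f c : ℕ} (hp : p.Prime) (hu : u = p ^ f) (hg : Cond (.psp m u))
    (he : den (.psp m u) * c = num (.psp m u)) (hl : 37 ≤ lsb (.psp m u)) :
    Few (lsb (.psp m u)) (6 * f * c) := by
  obtain ⟨hm, -, hpp⟩ := hg
  have hu2 : 2 ≤ u := hpp.two_le
  obtain ⟨k, rfl⟩ : ∃ k, m = k + 1 := ⟨m - 1, by omega⟩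
  obtain ⟨X, hX⟩ : ∃ X, X = u ^ k := ⟨_, rfl⟩
  have hXu : u ≤ X := by
    rw [hX]
    calc u = u ^ 1 := (pow_one u).symm
      _ ≤ u ^ k := Nat.pow_le_pow_right (by omega) (by omega)
  have hmX : u ^ (k + 1) = u * X := by rw [pow_succ, hX, mul_comm]
  obtain ⟨L, hL⟩ : ∃ L, L = lsb (.psp (k + 1) u) := ⟨_, rfl⟩
  have hLdef : L = if u % 2 = 1 then (u * X - 1) / 2 else u * X - 1 := by
    rw [hL, ← hmX]; rfl
  rw [← hL] at hl ⊢
  have huX : 2 * X ≤ u * X := Nat.mul_le_mul_right _ hu2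
  -- `X + 1 < L - 11`
  have hX1 : X + 1 < L - 11 ∧ u * X ≤ 2 * L + 2 := by
    split_ifs at hLdef with h
    · refine ⟨?_, by omega⟩
      have h75 : 75 ≤ u * X := by omega
      by_cases h5 : 5 ≤ u
      · have : 5 * X ≤ u * X := Nat.mul_le_mul_right _ h5
        omega
      · have h3 : u = 3 := by omega
        subst h3
        have h3X : 3 ∣ X := by rw [hX]; exact dvd_pow_self 3 (by omega)
        omega
    · omega
  refine few_core hp hu hu2 [u ^ (k + 1) - 1, u ^ (k + 1) + 1] (by simp) ?_ hl (by omega) ?_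
  · intro x hx
    have hsq : u * X + 1 < (L - 11) ^ 2 := by
      obtain ⟨K, hK⟩ : ∃ K, L = K + 11 := ⟨L - 11, by omega⟩
      rw [hK, Nat.add_sub_cancel]
      have hK26 : 26 ≤ K := by omega
      have h1 : u * X ≤ 2 * K + 24 := by omega
      nlinarith
    rw [hmX] at hx
    simp only [List.mem_cons, List.not_mem_nil, or_false] at hx
    have hpos : 4 ≤ u * X := by nlinarith
    rcases hx with rfl | rfl
    · exact ⟨by omega, by omega⟩
    · exact ⟨by omega, hsq⟩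
  · intro t ht htc
    have h1 : t ∣ u ^ ((k + 1) ^ 2) * prB u (k + 1) := by
      change t ∣ num (.psp (k + 1) u)
      rw [← he]
      exact htc.mul_left _
    rcases ht.dvd_mul.1 h1 with h | h
    · exact Or.inl (ht.dvd_of_dvd_pow h)
    · right
      obtain ⟨i, hi1, hi2, hi⟩ := dvd_prB ht h
      rcases Nat.lt_or_ge i (k + 1) with hik | hik
      · right
        exact small hu2 hi1 (show i ≤ k by omega) (by rw [← hX]; exact hX1.1) hi
      · left
        have : i = k + 1 := by omega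
        subst this
        rcases hi with hi | hi
        · exact ⟨_, by simp, hi⟩
        · exact ⟨_, by simp, hi⟩

theorem few_oodd {m u p f c : ℕ} (hp : p.Prime) (hu : u = p ^ f) (hg : Cond (.oodd m u))
    (he : den (.oodd m u) * c = num (.oodd m u)) (hl : 37 ≤ lsb (.oodd m u)) :
    Few (lsb (.oodd m u)) (6 * f * c) := by
  obtain ⟨hm, hodd, hpp⟩ := hg
  have hu2 : 2 ≤ u := hpp.two_le
  have hu3 : 3 ≤ u := by
    rcases hodd with ⟨a, ha⟩
    omega
  obtain ⟨k, rfl⟩ : ∃ k, m = k + 2 := ⟨m - 2, by omega⟩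
  obtain ⟨Z, hZ⟩ : ∃ Z, Z = u ^ k := ⟨_, rfl⟩
  have hZu : u ≤ Z := by
    rw [hZ]
    calc u = u ^ 1 := (pow_one u).symm
      _ ≤ u ^ k := Nat.pow_le_pow_right (by omega) (by omega)
  obtain ⟨X, hX⟩ : ∃ X, X = u * Z := ⟨_, rfl⟩
  have hXk : u ^ (k + 1) = X := by rw [pow_succ, ← hZ, hX, mul_comm]
  have hmX : u ^ (k + 2) = u * X := by rw [pow_succ, hXk, mul_comm]
  obtain ⟨L, hL⟩ : ∃ L, L = lsb (.oodd (k + 2) u) := ⟨_, rfl⟩
  have hLdef : L = max (u ^ 3 - 1) (X - 1) := by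
    rw [hL, ← hXk]; rfl
  have hL1 : u ^ 3 - 1 ≤ L := by rw [hLdef]; exact le_max_left _ _
  have hL2 : X - 1 ≤ L := by rw [hLdef]; exact le_max_right _ _
  rw [← hL] at hl ⊢
  have hXZ : 3 * Z ≤ X := by rw [hX]; exact Nat.mul_le_mul_right _ hu3
  have hZ1 : Z + 1 < L - 11 := by omega
  have hu33 : 9 * u ≤ u ^ 3 := by
    calc 9 * u ≤ (u * u) * u := Nat.mul_le_mul_right _ (Nat.mul_le_mul hu3 hu3)
      _ = u ^ 3 := by ring
  refine few_core hp hu hu2 [u ^ (k + 2) - 1, u ^ (k + 2) + 1, u ^ (k + 1) - 1, u ^ (k + 1) + 1] (by simp) ?_ hl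
    (by omega) ?_
  · intro x hx
    have hsq : u * X + 1 < (L - 11) ^ 2 := by
      obtain ⟨K, hK⟩ : ∃ K, L = K + 11 := ⟨L - 11, by omega⟩
      rw [hK, Nat.add_sub_cancel]
      have hK26 : 26 ≤ K := by omega
      have h1 : X ≤ K + 12 := by omega
      have h2 : 9 * u ≤ K + 12 := by omega
      have h3 : u * X ≤ u * (K + 12) := Nat.mul_le_mul_left _ h1
      have h4 : 9 * u * (K + 12) ≤ (K + 12) * (K + 12) := Nat.mul_le_mul_right _ h2
      nlinarith
    have hX9 : 9 ≤ X := by omega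
    have hXX : X ≤ u * X := Nat.le_mul_of_pos_left _ (by omega)
    rw [hmX, hXk] at hx
    simp only [List.mem_cons, List.not_mem_nil, or_false] at hx
    rcases hx with rfl | rfl | rfl | rfl
    · exact ⟨by omega, by omega⟩
    · exact ⟨by omega, by omega⟩
    · exact ⟨by omega, by omega⟩
    · exact ⟨by omega, by omega⟩
  · intro t ht htc
    have h1 : t ∣ u ^ ((k + 2) ^ 2) * prB u (k + 2) := by
      change t ∣ num (.oodd (k + 2) u)
      rw [← he]
      exact htc.mul_left _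
    rcases ht.dvd_mul.1 h1 with h | h
    · exact Or.inl (ht.dvd_of_dvd_pow h)
    · right
      obtain ⟨i, hi1, hi2, hi⟩ := dvd_prB ht h
      rcases Nat.lt_or_ge i (k + 1) with hik | hik
      · right
        exact small hu2 hi1 (show i ≤ k by omega) (by rw [← hZ]; exact hZ1) hi
      · left
        rcases (show i = k + 1 ∨ i = k + 2 by omega) with h2 | h2
        all_goals
          subst h2
          rcases hi with hi | hi
          · exact ⟨_, by simp, hi⟩
          · exact ⟨_, by simp, hi⟩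

theorem few_oplus {m u p f c : ℕ} (hp : p.Prime) (hu : u = p ^ f) (hg : Cond (.oplus m u))
    (he : den (.oplus m u) * c = num (.oplus m u)) (hl : 37 ≤ lsb (.oplus m u)) :
    Few (lsb (.oplus m u)) (6 * f * c) := by
  obtain ⟨hm, hpp⟩ := hg
  have hu2 : 2 ≤ u := hpp.two_le
  obtain ⟨k, rfl⟩ : ∃ k, m = k + 2 := ⟨m - 2, by omega⟩
  obtain ⟨Z, hZ⟩ : ∃ Z, Z = u ^ k := ⟨_, rfl⟩
  have hZu : u ≤ Z := by
    rw [hZ]
    calc u = u ^ 1 := (pow_one u).symm
      _ ≤ u ^ k := Nat.pow_le_pow_right (by omega) (by omega)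
  obtain ⟨X, hX⟩ : ∃ X, X = u * Z := ⟨_, rfl⟩
  have hXk : u ^ (k + 1) = X := by rw [pow_succ, ← hZ, hX, mul_comm]
  have hmX : u ^ (k + 2) = u * X := by rw [pow_succ, hXk, mul_comm]
  obtain ⟨L, hL⟩ : ∃ L, L = lsb (.oplus (k + 2) u) := ⟨_, rfl⟩
  have hLdef : L = max (u ^ 3 - 1) (X - 1) := by
    rw [hL, ← hXk]; rfl
  have hL1 : u ^ 3 - 1 ≤ L := by rw [hLdef]; exact le_max_left _ _
  have hL2 : X - 1 ≤ L := by rw [hLdef]; exact le_max_right _ _
  rw [← hL] at hl ⊢
  have hXZ : 2 * Z ≤ X := by rw [hX]; exact Nat.mul_le_mul_right _ hu2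
  have hZ1 : Z + 1 < L - 11 := by omega
  have hu33 : 4 * u ≤ u ^ 3 := by
    calc 4 * u ≤ (u * u) * u := Nat.mul_le_mul_right _ (Nat.mul_le_mul hu2 hu2)
      _ = u ^ 3 := by ring
  refine few_core hp hu hu2 [u ^ (k + 2) - 1, u ^ (k + 1) - 1, u ^ (k + 1) + 1] (by simp) ?_ hl (by omega) ?_
  · intro x hx
    have hsq : u * X + 1 < (L - 11) ^ 2 := by
      obtain ⟨K, hK⟩ : ∃ K, L = K + 11 := ⟨L - 11, by omega⟩
      rw [hK, Nat.add_sub_cancel]
      have hK26 : 26 ≤ K := by omega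
      have h1 : X ≤ K + 12 := by omega
      have h2 : 4 * u ≤ K + 12 := by omega
      have h3 : u * X ≤ u * (K + 12) := Nat.mul_le_mul_left _ h1
      have h4 : 4 * u * (K + 12) ≤ (K + 12) * (K + 12) := Nat.mul_le_mul_right _ h2
      nlinarith
    have hX9 : 4 ≤ X := by omega
    have hXX : X ≤ u * X := Nat.le_mul_of_pos_left _ (by omega)
    rw [hmX, hXk] at hx
    simp only [List.mem_cons, List.not_mem_nil, or_false] at hx
    rcases hx with rfl | rfl | rfl
    · exact ⟨by omega, by omega⟩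
    · exact ⟨by omega, by omega⟩
    · exact ⟨by omega, by omega⟩
  · intro t ht htc
    have h1 : t ∣ u ^ ((k + 2) * (k + 2 - 1)) * ((u ^ (k + 2) - 1) * prB u (k + 2 - 1)) := by
      change t ∣ num (.oplus (k + 2) u)
      rw [← he]
      exact htc.mul_left _
    rcases ht.dvd_mul.1 h1 with h | h
    · exact Or.inl (ht.dvd_of_dvd_pow h)
    · right
      rcases ht.dvd_mul.1 h with h | h
      · exact Or.inl ⟨_, by simp, h⟩
      obtain ⟨i, hi1, hi2, hi⟩ := dvd_prB ht h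
      rcases Nat.lt_or_ge i (k + 1) with hik | hik
      · right
        exact small hu2 hi1 (show i ≤ k by omega) (by rw [← hZ]; exact hZ1) hi
      · left
        have h2 : i = k + 1 := by omega
        subst h2
        rcases hi with hi | hi
        · exact ⟨_, by simp, hi⟩
        · exact ⟨_, by simp, hi⟩

theorem few_ominus {m u p f c : ℕ} (hp : p.Prime) (hu : u = p ^ f) (hg : Cond (.ominus m u))
    (he : den (.ominus m u) * c = num (.ominus m u)) (hl : 37 ≤ lsb (.ominus m u)) :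
    Few (lsb (.ominus m u)) (6 * f * c) := by
  obtain ⟨hm, hpp⟩ := hg
  have hu2 : 2 ≤ u := hpp.two_le
  obtain ⟨k, rfl⟩ : ∃ k, m = k + 3 := ⟨m - 3, by omega⟩
  obtain ⟨W, hW⟩ : ∃ W, W = u ^ k := ⟨_, rfl⟩
  have hWu : u ≤ W := by
    rw [hW]
    calc u = u ^ 1 := (pow_one u).symm
      _ ≤ u ^ k := Nat.pow_le_pow_right (by omega) (by omega)
  obtain ⟨Y, hY⟩ : ∃ Y, Y = u * W := ⟨_, rfl⟩
  have hYk : u ^ (k + 1) = Y := by rw [pow_succ, ← hW, hY, mul_comm]
  have hY2 : u ^ (k + 2) = u * Y := by rw [pow_succ, hYk, mul_comm]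
  have hY3 : u ^ (k + 3) = u * (u * Y) := by rw [pow_succ, hY2, mul_comm]
  obtain ⟨L, hL⟩ : ∃ L, L = lsb (.ominus (k + 3) u) := ⟨_, rfl⟩
  have hLdef : L = max (u ^ 3 - 1) (Y - 1) := by
    rw [hL, ← hYk]; rfl
  have hL1 : u ^ 3 - 1 ≤ L := by rw [hLdef]; exact le_max_left _ _
  have hL2 : Y - 1 ≤ L := by rw [hLdef]; exact le_max_right _ _
  rw [← hL] at hl ⊢
  have hYW : 2 * W ≤ Y := by rw [hY]; exact Nat.mul_le_mul_right _ hu2
  have hW1 : W + 1 < L - 11 := by omega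
  refine few_core hp hu hu2 [u ^ (k + 3) + 1, u ^ (k + 2) - 1, u ^ (k + 2) + 1, u ^ (k + 1) - 1, u ^ (k + 1) + 1]
    (by simp) ?_ hl (by omega) ?_
  · intro x hx
    have hsq : u * (u * Y) + 1 < (L - 11) ^ 2 := by
      obtain ⟨K, hK⟩ : ∃ K, L = K + 11 := ⟨L - 11, by omega⟩
      rw [hK, Nat.add_sub_cancel]
      have hK26 : 26 ≤ K := by omega
      have h1 : Y ≤ K + 12 := by omega
      have h0 : 1 ≤ u ^ 3 := Nat.one_le_pow _ _ (by omega)
      have h2 : u ^ 3 ≤ K + 12 := by omega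
      have h3 : u * (u * Y) ≤ u * (u * (K + 12)) := Nat.mul_le_mul_left _ (Nat.mul_le_mul_left _ h1)
      by_cases hu3 : u = 2
      · subst hu3
        nlinarith
      · have h4 : 3 * (u * u) ≤ K + 12 := by
          calc 3 * (u * u) ≤ u * (u * u) := Nat.mul_le_mul_right _ (by omega)
            _ = u ^ 3 := by ring
            _ ≤ _ := h2
        have h5 : 3 * (u * u) * (K + 12) ≤ (K + 12) * (K + 12) := Nat.mul_le_mul_right _ h4
        nlinarith
    have hX9 : 4 ≤ Y := by omega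
    have hXX : Y ≤ u * Y := Nat.le_mul_of_pos_left _ (by omega)
    have hXX2 : u * Y ≤ u * (u * Y) := Nat.le_mul_of_pos_left _ (by omega)
    rw [hY3, hY2, hYk] at hx
    simp only [List.mem_cons, List.not_mem_nil, or_false] at hx
    rcases hx with rfl | rfl | rfl | rfl | rfl
    · exact ⟨by omega, by omega⟩
    · exact ⟨by omega, by omega⟩
    · exact ⟨by omega, by omega⟩
    · exact ⟨by omega, by omega⟩
    · exact ⟨by omega, by omega⟩
  · intro t ht htc
    have h1 : t ∣ u ^ ((k + 3) * (k + 3 - 1)) * ((u ^ (k + 3) + 1) * prB u (k + 3 - 1)) := by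
      change t ∣ num (.ominus (k + 3) u)
      rw [← he]
      exact htc.mul_left _
    rcases ht.dvd_mul.1 h1 with h | h
    · exact Or.inl (ht.dvd_of_dvd_pow h)
    · right
      rcases ht.dvd_mul.1 h with h | h
      · exact Or.inl ⟨_, by simp, h⟩
      obtain ⟨i, hi1, hi2, hi⟩ := dvd_prB ht h
      rcases Nat.lt_or_ge i (k + 1) with hik | hik
      · right
        exact small hu2 hi1 (show i ≤ k by omega) (by rw [← hW]; exact hW1) hi
      · left
        rcases (show i = k + 1 ∨ i = k + 2 by omega) with h2 | h2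
        all_goals
          subst h2
          rcases hi with hi | hi
          · exact ⟨_, by simp, hi⟩
          · exact ⟨_, by simp, hi⟩

end Cfsg.Agent.H262.Few
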