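import Cfsg.Agent.H262.ElFew

/-!
# TEAM ELUSIVE: cross characteristic socles, few large primes: Suzuki groups, Ree groups
-/

set_option autoImplicit false

namespace Cfsg.Agent.H262.Few

open Cfsg.Agent.OrdDiv Cfsg.Agent.H436 Cfsg.Agent.H927.SgX Cfsg.Agent.H278.El.CrossNum

/-- the variant of `few_core` for `L` close to `u` -/
theorem few_core' {u p f c L : ℕ} (hp : p.Prime) (hf : 0 < f) (hu : u = p ^ f) (l : List ℕ)
    (hl5 : l.length ≤ 5)
    (hlx : ∀ x ∈ l, 0 < x ∧ x < (L - 11) ^ 2) (hL : 37 ≤ L) (hpL : p < L - 11) (hfL : f < L - 11)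
    (hc : ∀ t : ℕ, t.Prime → t ∣ c → t ∣ u ∨ (∃ x ∈ l, t ∣ x) ∨ ∃ y, 0 < y ∧ y < L - 11 ∧ t ∣ y) :
    Few L (6 * f * c) := by
  refine ⟨l, hl5, hlx, fun t ht hLt hd => ?_⟩
  rcases ht.dvd_mul.1 hd with h | h
  · exfalso
    rcases ht.dvd_mul.1 h with h | h
    · have := Nat.le_of_dvd (by norm_num) h
      omega
    · have h1 := Nat.le_of_dvd hf h
      omega
  · rcases hc t ht h with h | h | ⟨y, h1, h2, h3⟩
    · rw [hu] at h
      have h1 := (Nat.prime_dvd_prime_iff_eq ht hp).1 (ht.dvd_of_dvd_pow h)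
      omega
    · exact h
    · have := Nat.le_of_dvd h1 h3
      omega

theorem pf_of {a b p f : ℕ} (ha : a.Prime) (hb : 0 < b) (hp : p.Prime) (h : a ^ b = p ^ f) :
    p = a ∧ f = b := by
  have hf : f ≠ 0 := by
    rintro rfl
    rw [pow_zero] at h
    have : 1 < a ^ b := Nat.one_lt_pow (by omega) ha.one_lt
    omega
  have h1 : p ∣ a ^ b := by rw [h]; exact dvd_pow_self p hf
  have h2 := (Nat.prime_dvd_prime_iff_eq hp ha).1 (hp.dvd_of_dvd_pow h1)
  refine ⟨h2, ?_⟩
  rw [h2] at h
  exact (Nat.pow_right_injective ha.two_le h).symm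

theorem two_mul_le_pow {a b : ℕ} (ha : 2 ≤ a) (hb : 1 ≤ b) : 2 * b ≤ a ^ b + 1 := by
  obtain ⟨c, rfl⟩ : ∃ c, b = c + 1 := ⟨b - 1, by omega⟩
  have h1 : c < a ^ c := Nat.lt_pow_self (by omega)
  have h2 : 2 * a ^ c ≤ a ^ (c + 1) := by
    rw [pow_succ, mul_comm]; exact Nat.mul_le_mul_left _ ha
  omega

theorem few_sz {u p f c : ℕ} (hp : p.Prime) (hu : u = p ^ f) (hg : Cond (.sz u))
    (he : den (.sz u) * c = num (.sz u)) (hl : 37 ≤ lsb (.sz u)) :
    Few (lsb (.sz u)) (6 * f * c) := by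
  obtain ⟨m, hm, hum⟩ := hg
  obtain ⟨hp2, hfm⟩ := pf_of Nat.prime_two (show 0 < 2 * m + 1 by omega) hp (by rw [← hum]; exact hu)
  have hL : lsb (.sz u) = u - 1 := rfl
  rw [hL] at hl ⊢
  have hfu : 2 * f ≤ u + 1 := by
    have := two_mul_le_pow (a := 2) (b := f) le_rfl (by omega)
    rw [hfm, ← hum] at this
    rw [hfm]
    exact this
  obtain ⟨r, hr⟩ : ∃ r, r = 2 ^ (m + 1) := ⟨_, rfl⟩
  have hr2 : r * r = 2 * u := by
    rw [hr, hum, ← pow_add, ← pow_succ']
    congr 1
    omega
  have hr8 : 8 ≤ r := by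
    by_contra h
    have : r * r ≤ 7 * 7 := Nat.mul_le_mul (by omega) (by omega)
    omega
  have hru : 4 * r ≤ u := by nlinarith
  refine few_core' hp (by omega) hu [u - 1, u + r + 1, u - r + 1] (by simp) ?_ hl (by omega) (by omega) ?_
  · intro x hx
    have hsq : u + r + 1 < (u - 1 - 11) ^ 2 := by
      obtain ⟨K, hK⟩ : ∃ K, u = K + 12 := ⟨u - 12, by omega⟩
      rw [hK, show K + 12 - 1 - 11 = K by omega]
      nlinarith
    simp only [List.mem_cons, List.not_mem_nil, or_false] at hx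
    rcases hx with rfl | rfl | rfl
    · exact ⟨by omega, by omega⟩
    · exact ⟨by omega, hsq⟩
    · exact ⟨by omega, by omega⟩
  · intro t ht htc
    have h1 : t ∣ u ^ 2 * ((u - 1) * (u ^ 2 + 1)) := by
      change t ∣ num (.sz u)
      rw [← he]
      exact htc.mul_left _
    rcases ht.dvd_mul.1 h1 with h | h
    · exact Or.inl (ht.dvd_of_dvd_pow h)
    · right; left
      rcases ht.dvd_mul.1 h with h | h
      · exact ⟨_, by simp, h⟩
      · have h2 : u ^ 2 + 1 = (u + r + 1) * (u - r + 1) := by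
          obtain ⟨K, hK⟩ : ∃ K, u = K + r := ⟨u - r, by omega⟩
          rw [hK] at hr2 ⊢
          rw [Nat.add_sub_cancel]
          nlinarith
        rw [h2] at h
        rcases ht.dvd_mul.1 h with h | h
        · exact ⟨_, by simp, h⟩
        · exact ⟨_, by simp, h⟩

theorem few_ree {u p f c : ℕ} (hp : p.Prime) (hu : u = p ^ f) (hg : Cond (.ree u))
    (he : den (.ree u) * c = num (.ree u)) (hl : 37 ≤ lsb (.ree u)) :
    Few (lsb (.ree u)) (6 * f * c) := by
  obtain ⟨m, hm, hum⟩ := hg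
  obtain ⟨hp2, hfm⟩ := pf_of Nat.prime_three (show 0 < 2 * m + 1 by omega) hp (by rw [← hum]; exact hu)
  have hL : lsb (.ree u) = (u - 1) / 2 := rfl
  have hm2 : 2 ≤ m := by
    by_contra h
    have : m = 1 := by omega
    subst this
    rw [hL, hum] at hl
    norm_num at hl
  have hu243 : 243 ≤ u := by
    rw [hum]
    calc 243 = 3 ^ 5 := by norm_num
      _ ≤ 3 ^ (2 * m + 1) := Nat.pow_le_pow_right (by norm_num) (by omega)
  rw [hL] at hl ⊢
  have hfu : 5 * f ≤ u := by
    rw [hfm, hum]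
    clear * - hm2
    induction m, hm2 using Nat.le_induction with
    | base => norm_num
    | succ n hn ih =>
      have h1 : 3 ^ (2 * (n + 1) + 1) = 9 * 3 ^ (2 * n + 1) := by
        rw [show 2 * (n + 1) + 1 = 2 * n + 1 + 2 by ring, pow_add]; ring
      rw [h1]
      omega
  obtain ⟨r, hr⟩ : ∃ r, r = 3 ^ (m + 1) := ⟨_, rfl⟩
  have hr2 : r * r = 3 * u := by
    rw [hr, hum, ← pow_add, ← pow_succ']
    congr 1
    omega
  have hr8 : 27 ≤ r := by
    by_contra h
    have : r * r ≤ 26 * 26 := Nat.mul_le_mul (by omega) (by omega)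
    omega
  have hru : 9 * r ≤ u := by nlinarith
  refine few_core' hp (by omega) hu [u - 1, u + 1, u + r + 1, u - r + 1] (by simp) ?_ hl (by omega) (by omega) ?_
  · intro x hx
    have hsq : u + r + 1 < ((u - 1) / 2 - 11) ^ 2 := by
      obtain ⟨K, hK⟩ : ∃ K, (u - 1) / 2 = K + 11 := ⟨(u - 1) / 2 - 11, by omega⟩
      rw [hK, Nat.add_sub_cancel]
      have h1 : u ≤ 2 * K + 24 := by omega
      have h2 : 100 ≤ K := by omega
      nlinarith
    simp only [List.mem_cons, List.not_mem_nil, or_false] at hx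
    rcases hx with rfl | rfl | rfl | rfl
    · exact ⟨by omega, by omega⟩
    · exact ⟨by omega, by omega⟩
    · exact ⟨by omega, hsq⟩
    · exact ⟨by omega, by omega⟩
  · intro t ht htc
    have h1 : t ∣ u ^ 3 * ((u - 1) * (u ^ 3 + 1)) := by
      change t ∣ num (.ree u)
      rw [← he]
      exact htc.mul_left _
    rcases ht.dvd_mul.1 h1 with h | h
    · exact Or.inl (ht.dvd_of_dvd_pow h)
    · right; left
      rcases ht.dvd_mul.1 h with h | h
      · exact ⟨_, by simp, h⟩
      · have h2 : u ^ 3 + 1 = (u + 1) * ((u + r + 1) * (u - r + 1)) := by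
          obtain ⟨K, hK⟩ : ∃ K, u = K + r := ⟨u - r, by omega⟩
          rw [hK] at hr2 ⊢
          rw [Nat.add_sub_cancel]
          have h3 : (K + r + r + 1) * (K + 1) = (K + r) * (K + r) + 1 + 2 * (K + r) - r * r := by
            have h4 : (K + r + r + 1) * (K + 1) + r * r = (K + r) * (K + r) + 1 + 2 * (K + r) := by ring
            omega
          rw [h3, hr2]
          have h5 : 3 * (K + r) ≤ (K + r) * (K + r) + 2 * (K + r) := by nlinarith
          have h6 : (K + r) * (K + r) + 1 + 2 * (K + r) - 3 * (K + r) + (K + r) = (K + r) * (K + r) + 1 := by omega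
          have h7 : (K + r + 1) * ((K + r) * (K + r) + 1 + 2 * (K + r) - 3 * (K + r)) + (K + r + 1) * (K + r) =
            (K + r + 1) * ((K + r) * (K + r) + 1) := by rw [← Nat.mul_add, h6]
          have h8 : (K + r + 1) * ((K + r) * (K + r) + 1) = (K + r) ^ 3 + 1 + (K + r + 1) * (K + r) := by ring
          omega
        rw [h2] at h
        rcases ht.dvd_mul.1 h with h | h
        · exact ⟨_, by simp, h⟩
        rcases ht.dvd_mul.1 h with h | h
        · exact ⟨_, by simp, h⟩
        · exact ⟨_, by simp, h⟩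

theorem few_psl2 {u p f c : ℕ} (hp : p.Prime) (hu : u = p ^ f) (_hg : Cond (.psl 2 u))
    (he : den (.psl 2 u) * c = num (.psl 2 u)) (hl : 37 ≤ lsb (.psl 2 u)) :
    Few (lsb (.psl 2 u)) (6 * f * c) := by
  have hL : lsb (.psl 2 u) = (u - 1) / 2 := rfl
  rw [hL] at hl ⊢
  have hf : 0 < f := by
    rcases Nat.eq_zero_or_pos f with h | h
    · rw [h, pow_zero] at hu; omega
    · exact h
  have hfL : f < (u - 1) / 2 - 11 := by
    rcases Nat.lt_or_ge f 7 with h | h
    · omega
    · have h1 : 16 * f + 16 ≤ 2 ^ f := by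
        clear * - h
        induction f, h using Nat.le_induction with
        | base => norm_num
        | succ n hn ih => rw [pow_succ]; omega
      have h2 : 2 ^ f ≤ p ^ f := Nat.pow_le_pow_left hp.two_le f
      rw [← hu] at h2
      omega
  refine ⟨[u, u - 1, u + 1], by simp, ?_, fun t ht hLt hd => ?_⟩
  · intro x hx
    have hsq : u + 1 < ((u - 1) / 2 - 11) ^ 2 := by
      obtain ⟨K, hK⟩ : ∃ K, (u - 1) / 2 = K + 11 := ⟨(u - 1) / 2 - 11, by omega⟩
      rw [hK, Nat.add_sub_cancel]
      have h1 : u ≤ 2 * K + 24 := by omega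
      have h2 : 26 ≤ K := by omega
      nlinarith
    simp only [List.mem_cons, List.not_mem_nil, or_false] at hx
    rcases hx with rfl | rfl | rfl
    · exact ⟨by omega, by omega⟩
    · exact ⟨by omega, by omega⟩
    · exact ⟨by omega, hsq⟩
  · rcases ht.dvd_mul.1 hd with h | h
    · exfalso
      rcases ht.dvd_mul.1 h with h | h
      · have := Nat.le_of_dvd (by norm_num) h
        omega
      · have h1 := Nat.le_of_dvd hf h
        omega
    · have h1 : t ∣ num (.psl 2 u) := by
        rw [← he]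
        exact h.mul_left _
      have h2 : t ∣ (u ^ 2 - u ^ 0) * (u ^ 2 - u ^ 1) := by
        have h4 : num (.psl 2 u) = ((List.range 2).map fun i => u ^ 2 - u ^ i).prod := rfl
        rw [h4] at h1
        simpa [List.range_succ] using h1
      have h3 : u ^ 2 - u ^ 0 = (u + 1) * (u - 1) := by
        have := Nat.sq_sub_sq u 1
        rwa [one_pow] at this
      have h5 : u ^ 2 - u ^ 1 = u * (u - 1) := by
        rw [pow_one, pow_two, Nat.mul_sub, mul_one]
      rw [h3, h5] at h2
      rcases ht.dvd_mul.1 h2 with h | h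
      · rcases ht.dvd_mul.1 h with h | h
        · exact ⟨_, by simp, h⟩
        · exact ⟨_, by simp, h⟩
      · rcases ht.dvd_mul.1 h with h | h
        · exact ⟨_, by simp, h⟩
        · exact ⟨_, by simp, h⟩

theorem few_tf4 {u p f c : ℕ} (hp : p.Prime) (hu : u = p ^ f) (hg : Cond (.tf4 u))
    (he : den (.tf4 u) * c = num (.tf4 u)) (hl : 37 ≤ lsb (.tf4 u)) :
    Few (lsb (.tf4 u)) (6 * f * c) := by
  obtain ⟨m, hm, hum⟩ := hg
  have hL : lsb (.tf4 u) = (u - 1) * u := rfl
  rw [hL] at hl ⊢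
  have hu8 : 8 ≤ u := by
    rw [hum]
    calc 8 = 2 ^ 3 := by norm_num
      _ ≤ 2 ^ (2 * m + 1) := Nat.pow_le_pow_right (by norm_num) (by omega)
  obtain ⟨r, hr⟩ : ∃ r, r = 2 ^ (m + 1) := ⟨_, rfl⟩
  have hr2 : r * r = 2 * u := by
    rw [hr, hum, ← pow_add, ← pow_succ']
    congr 1
    omega
  have hr8 : 4 ≤ r := by
    by_contra h
    have : r * r ≤ 3 * 3 := Nat.mul_le_mul (by omega) (by omega)
    omega
  have hru : 2 * r ≤ u := by nlinarith
  obtain ⟨X, hX⟩ : ∃ X, X = u * u := ⟨_, rfl⟩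
  have hX8 : 8 * u ≤ X := by rw [hX]; exact Nat.mul_le_mul_right _ hu8
  have hLX : (u - 1) * u = X - u := by rw [hX, Nat.sub_mul, one_mul]
  obtain ⟨Y, hY⟩ : ∃ Y, Y = r * u := ⟨_, rfl⟩
  have hYX : 2 * Y ≤ X := by rw [hX, hY, ← mul_assoc]; exact Nat.mul_le_mul_right _ hru
  rw [hLX] at hl ⊢
  refine few_core hp hu (by omega) [X - u + 1, X + 1, X + Y + u + r + 1, X - Y + u - r + 1] (by simp) ?_ hl
    (by omega) ?_
  · intro x hx
    have hsq : 2 * X < (X - u - 11) ^ 2 := by
      obtain ⟨K, hK⟩ : ∃ K, X - u = K + 11 := ⟨X - u - 11, by omega⟩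
      rw [hK, Nat.add_sub_cancel]
      have h1 : 7 * X ≤ 8 * K + 88 := by omega
      have h2 : 40 ≤ K := by omega
      nlinarith
    simp only [List.mem_cons, List.not_mem_nil, or_false] at hx
    rcases hx with rfl | rfl | rfl | rfl
    · exact ⟨by omega, by omega⟩
    · exact ⟨by omega, by omega⟩
    · exact ⟨by omega, by omega⟩
    · exact ⟨by omega, by omega⟩
  · intro t ht htc
    have h1 : t ∣ u ^ 12 * ((u - 1) * (u ^ 3 + 1) * (u ^ 4 - 1) * (u ^ 6 + 1)) := by
      change t ∣ num (.tf4 u)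
      rw [← he]
      exact htc.mul_left _
    have hm1 : t ∣ u - 1 → (∃ x ∈ [X - u + 1, X + 1, X + Y + u + r + 1, X - Y + u - r + 1], t ∣ x) ∨
        ∃ y, 0 < y ∧ y < X - u - 11 ∧ t ∣ y := fun h => Or.inr ⟨_, by omega, by omega, h⟩
    have hp1 : t ∣ u + 1 → (∃ x ∈ [X - u + 1, X + 1, X + Y + u + r + 1, X - Y + u - r + 1], t ∣ x) ∨
        ∃ y, 0 < y ∧ y < X - u - 11 ∧ t ∣ y := fun h => Or.inr ⟨_, by omega, by omega, h⟩
    have hX1 : t ∣ X + 1 → (∃ x ∈ [X - u + 1, X + 1, X + Y + u + r + 1, X - Y + u - r + 1], t ∣ x) ∨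
        ∃ y, 0 < y ∧ y < X - u - 11 ∧ t ∣ y := fun h => Or.inl ⟨_, by simp, h⟩
    rcases ht.dvd_mul.1 h1 with h | h
    · exact Or.inl (ht.dvd_of_dvd_pow h)
    · right
      rcases ht.dvd_mul.1 h with h | h
      · rcases ht.dvd_mul.1 h with h | h
        · rcases ht.dvd_mul.1 h with h | h
          · exact hm1 h
          · -- `u ^ 3 + 1`
            have h2 : u ^ 3 + 1 = (u + 1) * (X - u + 1) := by
              obtain ⟨K, hK⟩ : ∃ K, X = K + u := ⟨X - u, (Nat.sub_add_cancel (by omega)).symm⟩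
              rw [hK, Nat.add_sub_cancel]
              have h3 : K + u = u * u := by rw [← hK, hX]
              have h4 : u ^ 3 = u * (K + u) := by rw [h3]; ring
              rw [h4]
              nlinarith
            rw [h2] at h
            rcases ht.dvd_mul.1 h with h | h
            · exact hp1 h
            · exact Or.inl ⟨_, by simp, h⟩
        · -- `u ^ 4 - 1`
          have h2 : u ^ 4 - 1 = (X + 1) * ((u + 1) * (u - 1)) := by
            have h3 : u * u - 1 * 1 = (u + 1) * (u - 1) := by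
              have := Nat.sq_sub_sq u 1
              rw [pow_two, one_pow] at this
              exact this
            have h4 : u ^ 4 - 1 = (u * u + 1) * (u * u - 1) := by
              have := Nat.sq_sub_sq (u * u) 1
              rw [one_pow] at this
              rw [← this]
              congr 1
              ring
            rw [h4, hX, ← h3]
          rw [h2] at h
          rcases ht.dvd_mul.1 h with h | h
          · exact hX1 h
          rcases ht.dvd_mul.1 h with h | h
          · exact hp1 h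
          · exact hm1 h
      · -- `u ^ 6 + 1`
        have h2 : (u ^ 6 + 1 : ℤ) = (X + 1) * (((X + Y + u + r + 1 : ℕ) : ℤ) * ((X - Y + u - r + 1 : ℕ) : ℤ)) := by
          have h3 : ((X - Y + u - r + 1 : ℕ) : ℤ) = (X : ℤ) - Y + u - r + 1 := by
            rw [show X - Y + u - r + 1 = (X - Y) + (u - r) + 1 by omega]
            push_cast [Nat.cast_sub (show Y ≤ X by omega), Nat.cast_sub (show r ≤ u by omega)]
            ring
          rw [h3]
          push_cast
          have h4 : (r : ℤ) * r = 2 * u := by exact_mod_cast hr2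
          have h5 : (X : ℤ) = u * u := by exact_mod_cast hX
          have h6 : (Y : ℤ) = r * u := by exact_mod_cast hY
          rw [h5, h6]
          linear_combination ((u * u + 1) * ((u : ℤ) * u + 2 * u + 1)) * h4
        have h2' : u ^ 6 + 1 = (X + 1) * ((X + Y + u + r + 1) * (X - Y + u - r + 1)) := by exact_mod_cast h2
        rw [h2'] at h
        rcases ht.dvd_mul.1 h with h | h
        · exact hX1 h
        rcases ht.dvd_mul.1 h with h | h
        · exact Or.inl ⟨_, by simp, h⟩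
        · exact Or.inl ⟨_, by simp, h⟩

end Cfsg.Agent.H262.Few
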