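import Cfsg.Agent.H163.PG.Prim
import Cfsg.Agent.H918.Transv

/-!
# TEAM ELUSIVE: elements of prime order `r` and the order of `q` modulo `r`
-/

set_option autoImplicit false

namespace Cfsg.Agent.H262.El

open Cfsg Cfsg.Geo Module
open scoped Matrix MatrixGroups

/-- `r` is a prime not dividing `q`, and `q` has order `n` modulo `r` -/
structure Od (q n r : ℕ) : Prop where
  prime : r.Prime
  ord : orderOf (q : ZMod r) = n
  ndvd : ¬ r ∣ q

namespace Od

variable {q n r : ℕ}

theorem unit (h : Od q n r) : IsUnit (q : ZMod r) := by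
  have := Fact.mk h.prime
  rw [isUnit_iff_ne_zero, Ne, ZMod.natCast_eq_zero_iff]
  exact h.ndvd

theorem dvd_iff (h : Od q n r) (hq : 1 ≤ q) (m : ℕ) : r ∣ q ^ m - 1 ↔ n ∣ m := by
  rw [← h.ord, orderOf_dvd_iff_pow_eq_one, ← ZMod.natCast_eq_zero_iff,
    Nat.cast_sub (Nat.one_le_pow _ _ hq), sub_eq_zero]
  push_cast
  rfl

theorem pos (h : Od q n r) : 0 < n := by
  have := Fact.mk h.prime
  rw [← h.ord]
  have hu := h.unit
  rw [orderOf_pos_iff]
  exact isOfFinOrder_iff_pow_eq_one.2 ⟨r - 1, by have := h.prime.two_le; omega,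
    ZMod.pow_card_sub_one_eq_one hu.ne_zero⟩

theorem dvd_pred (h : Od q n r) : n ∣ r - 1 := by
  have := Fact.mk h.prime
  rw [← h.ord]
  exact orderOf_dvd_of_pow_eq_one (ZMod.pow_card_sub_one_eq_one h.unit.ne_zero)

theorem lt (h : Od q n r) : n < r := by
  have h1 := Nat.le_of_dvd (by have := h.prime.one_lt; omega) h.dvd_pred
  have := h.prime.one_lt
  omega

theorem of_ppd {p f : ℕ} (hp : p.Prime) (hf : 1 ≤ f) (hn : 1 ≤ n)
    (h : Cfsg.Agent.H163.PG.Ppd p (f * n) r) : Od (p ^ f) n r where
  prime := h.prime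
  ord := h.orderOf_pow hf
  ndvd := by
    intro hd
    have h1 := (Nat.prime_dvd_prime_iff_eq h.prime hp).1 (h.prime.dvd_of_dvd_pow hd)
    exact h.ne (Nat.mul_pos hf hn) h1

end Od

/-- The dimension of a module for an element of order dividing `r` is congruent to the dimension of the
fixed space modulo the order of `q`. -/
theorem finrank_fix {F : Type*} [Field F] [Fintype F] {W : Type*} [AddCommGroup W] [Module F W]
    [FiniteDimensional F W] {n r : ℕ} (h : Od (Fintype.card F) n r) (f : Module.End F W) (hf : f ^ r = 1) :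
    n ∣ finrank F W - finrank F (LinearMap.ker (f - 1)) := by
  classical
  have := Fact.mk h.prime
  have hfin : Finite W := Module.finite_of_finite F
  have : Fintype W := Fintype.ofFinite W
  set K := LinearMap.ker (f - 1) with hK
  have hle : finrank F K ≤ finrank F W := Submodule.finrank_le K
  let g : Function.End W := fun w => f w
  have hg : g ^ r ^ 1 = 1 := by
    have h1 : ∀ k : ℕ, ∀ w, (g ^ k) w = (f ^ k) w := by
      intro k
      induction k with
      | zero => intro w; rfl
      | succ k ih =>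
        intro w
        rw [pow_succ, pow_succ]
        exact ih (f w)
    funext w
    rw [pow_one, h1, hf]
    rfl
  have hmod := Equiv.Perm.card_fixedPoints_modEq (f := g) (p := r) (n := 1) hg
  have h1 : Fintype.card W = Fintype.card F ^ finrank F W := Module.card_eq_pow_finrank
  have h2 : Fintype.card g.fixedPoints = Fintype.card F ^ finrank F K := by
    rw [← Module.card_eq_pow_finrank (K := F) (V := K)]
    refine Fintype.card_congr (Equiv.subtypeEquivRight fun w => ?_)
    rw [hK, LinearMap.mem_ker, LinearMap.sub_apply, sub_eq_zero]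
    rfl
  rw [h1, h2] at hmod
  obtain ⟨d, hd⟩ := Nat.exists_eq_add_of_le hle
  rw [hd, pow_add] at hmod
  have h3 : (Fintype.card F : ZMod r) ^ finrank F K * (Fintype.card F : ZMod r) ^ d =
      (Fintype.card F : ZMod r) ^ finrank F K := by
    have := (ZMod.natCast_eq_natCast_iff _ _ _).2 hmod
    push_cast at this
    exact this
  have h4 : (Fintype.card F : ZMod r) ^ d = 1 := by
    have hu := (h.unit.pow (finrank F K)).ne_zero
    have h5 := mul_left_cancel₀ hu (h3.trans (mul_one _).symm)
    exact h5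
  rw [hd, Nat.add_sub_cancel_left, ← h.ord]
  exact orderOf_dvd_of_pow_eq_one h4

variable {ι : Type} [Fintype ι] [DecidableEq ι] {F : Type*} [Field F]

/-- the fixed space of a matrix -/
def fixS (x : GL ι F) : Submodule F (ι → F) := LinearMap.ker (Matrix.mulVecLin (x : Matrix ι ι F) - 1)

theorem mem_fixS {x : GL ι F} {v : ι → F} : v ∈ fixS x ↔ (x : Matrix ι ι F) *ᵥ v = v := by
  rw [fixS, LinearMap.mem_ker, LinearMap.sub_apply, sub_eq_zero]
  rfl

theorem fixS_eq_top {x : GL ι F} (h : fixS x = ⊤) : x = 1 := by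
  apply Units.ext
  apply Matrix.ext_of_mulVec_single
  intro i
  rw [mem_fixS.1 (h ▸ Submodule.mem_top), Units.val_one, Matrix.one_mulVec]

theorem pow_mulVec {x : GL ι F} {v : ι → F} (k : ℕ) :
    ((x ^ (k + 1) : GL ι F) : Matrix ι ι F) *ᵥ v =
      ((x ^ k : GL ι F) : Matrix ι ι F) *ᵥ ((x : Matrix ι ι F) *ᵥ v) := by
  rw [pow_succ, Units.val_mul, ← Matrix.mulVec_mulVec]

/-- the dimension of an invariant subspace modulo the order of `q` -/
theorem finrank_inv [Fintype F] {n r : ℕ} (h : Od (Fintype.card F) n r) {x : GL ι F} (hx : x ^ r = 1)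
    (W : Submodule F (ι → F)) (hW : ∀ v ∈ W, (x : Matrix ι ι F) *ᵥ v ∈ W) :
    n ∣ finrank F W - finrank F (W ⊓ fixS x : Submodule F (ι → F)) := by
  let f : Module.End F W := (Matrix.mulVecLin (x : Matrix ι ι F)).restrict hW
  have hfv : ∀ w : W, ((f w : W) : ι → F) = (x : Matrix ι ι F) *ᵥ (w : ι → F) := fun w => rfl
  have hfk : ∀ k : ℕ, ∀ w : W, (((f ^ k) w : W) : ι → F) = ((x ^ k : GL ι F) : Matrix ι ι F) *ᵥ (w : ι → F) := by
    intro k
    induction k with
    | zero => intro w; simp
    | succ k ih =>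
      intro w
      rw [pow_succ, Module.End.mul_apply, ih, hfv, pow_mulVec]
  have hf : f ^ r = 1 := by
    ext w : 1
    apply Subtype.ext
    rw [hfk, hx, Units.val_one, Matrix.one_mulVec]
    rfl
  have h1 := finrank_fix h f hf
  have h2 : finrank F (LinearMap.ker (f - 1)) = finrank F (W ⊓ fixS x : Submodule F (ι → F)) := by
    have e : (LinearMap.ker (f - 1)).map W.subtype = W ⊓ fixS x := by
      ext v
      constructor
      · rintro ⟨w, hw, rfl⟩
        refine ⟨w.2, mem_fixS.2 ?_⟩
        have h3 : f w - w = 0 := hw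
        have h4 := congrArg Subtype.val (sub_eq_zero.1 h3)
        exact h4
      · rintro ⟨hv, hv'⟩
        refine ⟨⟨v, hv⟩, ?_, rfl⟩
        change f ⟨v, hv⟩ - ⟨v, hv⟩ = 0
        rw [sub_eq_zero]
        exact Subtype.ext (mem_fixS.1 hv')
    rw [← e]
    exact (Submodule.equivMapOfInjective _ W.injective_subtype _).finrank_eq
  rw [h2] at h1
  exact h1

/-- The dimension of the fixed space. -/
theorem finrank_fixS [Fintype F] {n r : ℕ} (h : Od (Fintype.card F) n r) {x : GL ι F} (hx : x ^ r = 1) :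
    n ∣ Fintype.card ι - finrank F (fixS x) := by
  have h1 := finrank_inv h hx ⊤ (fun _ _ => Submodule.mem_top)
  rwa [top_inf_eq, finrank_top, Module.finrank_fintype_fun_eq_card] at h1

theorem finrank_fixS_lt {x : GL ι F} (hx : x ≠ 1) : finrank F (fixS x) < Fintype.card ι := by
  refine lt_of_le_of_ne ?_ ?_
  · have := Submodule.finrank_le (fixS x)
    rwa [Module.finrank_fintype_fun_eq_card] at this
  · intro h
    apply hx
    apply fixS_eq_top
    apply Submodule.eq_top_of_finrank_eq
    rw [h, Module.finrank_fintype_fun_eq_card]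

/-- An element of order `r` is irreducible if `q` has order `dim V` modulo `r`. -/
theorem irr_of_od [Fintype F] {r : ℕ} (h : Od (Fintype.card F) (Fintype.card ι) r) {x : GL ι F}
    (hx : x ^ r = 1) (hx1 : x ≠ 1) (W : Submodule F (ι → F))
    (hW : ∀ v ∈ W, (x : Matrix ι ι F) *ᵥ v ∈ W) : W = ⊥ ∨ W = ⊤ := by
  have h1 := finrank_fixS h hx
  have h2 := finrank_fixS_lt hx1
  have h3 : finrank F (fixS x) = 0 := by
    by_contra h0
    have := Nat.le_of_dvd (by omega) h1
    omega
  have h4 : fixS x = ⊥ := Submodule.finrank_eq_zero.1 h3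
  have h5 := finrank_inv h hx W hW
  rw [h4, inf_bot_eq, finrank_bot, Nat.sub_zero] at h5
  have h6 := Submodule.finrank_le W
  rw [Module.finrank_fintype_fun_eq_card] at h6
  rcases Nat.eq_zero_or_pos (finrank F W) with h7 | h7
  · exact Or.inl (Submodule.finrank_eq_zero.1 h7)
  · right
    apply Submodule.eq_top_of_finrank_eq
    rw [Module.finrank_fintype_fun_eq_card]
    exact le_antisymm h6 (Nat.le_of_dvd h7 h5)

/-- an irreducible element is in no stabiliser of a subspace -/
theorem not_mem_subspaceStabilizer_of_irr {x : GL ι F}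
    (hx : ∀ W : Submodule F (ι → F), (∀ v ∈ W, (x : Matrix ι ι F) *ᵥ v ∈ W) → W = ⊥ ∨ W = ⊤)
    {W : Submodule F (ι → F)} (h0 : W ≠ ⊥) (h1 : W ≠ ⊤) : x ∉ subspaceStabilizer W := by
  intro hm
  rcases hx W (fun v hv => (Cfsg.Agent.H918.mem_subspaceStabilizer.1 hm v).1 hv) with h | h
  · exact h0 h
  · exact h1 h

/-- an element of prime order `r > t` in a decomposition stabiliser fixes all members -/
theorem fixes_of_decomposition {t m : ℕ} {D : Fin t → Submodule F (ι → F)} (hD : IsMDecomposition m D)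
    {x : GL ι F} (hx : x ∈ decompositionStabilizer D) {r : ℕ} (hr : r.Prime) (hrt : t < r)
    (hxr : x ^ r = 1) (i : Fin t) : ∀ v ∈ D i, (x : Matrix ι ι F) *ᵥ v ∈ D i := by
  obtain ⟨σ, hσ⟩ := hx
  have hpow : ∀ k : ℕ, ∀ i, (D i).map (Matrix.toLin' ((x ^ k : GL ι F) : Matrix ι ι F)) = D ((σ ^ k) i) := by
    intro k
    induction k with
    | zero => intro i; simp
    | succ k ih =>
      intro i
      rw [pow_succ, Units.val_mul, Matrix.toLin'_mul, Submodule.map_comp, hσ, ih, pow_succ]
      rfl
  have hσr : σ ^ r = 1 := by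
    ext i : 1
    apply Cfsg.Agent.H918.decomp_injective hD
    have h1 := hpow r i
    rw [hxr] at h1
    rw [← h1]
    simp
  have hσ1 : σ = 1 := by
    have h1 : orderOf σ ∣ r := orderOf_dvd_of_pow_eq_one hσr
    rcases (Nat.dvd_prime hr).1 h1 with h2 | h2
    · exact orderOf_eq_one_iff.1 h2
    · exfalso
      have h3 : orderOf σ ∣ Fintype.card (Equiv.Perm (Fin t)) := orderOf_dvd_card
      rw [h2, Fintype.card_perm, Fintype.card_fin, hr.dvd_factorial] at h3
      omega
  intro v hv
  have h1 := hσ i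
  rw [hσ1] at h1
  change (D i).map _ = D i at h1
  rw [← h1]
  exact ⟨v, hv, rfl⟩

end Cfsg.Agent.H262.El
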