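import Cfsg.Agent.H262.ElSympMiss

/-!
# TEAM ELUSIVE: `PSp_4(q)`, `q` even: the regular element of prime order `r ≥ 5` dividing `q² - 1`
-/

set_option autoImplicit false

namespace Cfsg.Agent.H262.ElFour

open Cfsg Cfsg.Geo Module
open Cfsg.Agent.ClassicalGeometry.SympBasic Cfsg.Agent.H876 Cfsg.Agent.H931 Cfsg.Agent.H262.El
open scoped Matrix MatrixGroups

universe u

variable {F : Type u} [Field F] {m : ℕ}

/-- block sum of `2 × 2` matrices -/
def tm (A : Fin m → Matrix (Fin 2) (Fin 2) F) : Matrix (Fin m ⊕ Fin m) (Fin m ⊕ Fin m) F :=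
  Matrix.fromBlocks (Matrix.diagonal fun i => A i 0 0) (Matrix.diagonal fun i => A i 0 1)
    (Matrix.diagonal fun i => A i 1 0) (Matrix.diagonal fun i => A i 1 1)

theorem tm_mul (A B : Fin m → Matrix (Fin 2) (Fin 2) F) : tm (fun i => A i * B i) = tm A * tm B := by
  simp only [tm, Matrix.fromBlocks_multiply, Matrix.mul_apply, Fin.sum_univ_two, Matrix.diagonal_mul_diagonal,
    Matrix.diagonal_add]

theorem tm_one : tm (fun _ : Fin m => (1 : Matrix (Fin 2) (Fin 2) F)) = 1 := by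
  simp [tm]

theorem tm_mem (A : Fin m → Matrix.SpecialLinearGroup (Fin 2) F) :
    tm (fun i => (A i : Matrix (Fin 2) (Fin 2) F)) ∈ Matrix.symplecticGroup (Fin m) F := by
  have h : ∀ i, (A i).1 0 0 * (A i).1 1 1 - (A i).1 0 1 * (A i).1 1 0 = 1 := fun i => by
    rw [← Matrix.det_fin_two]; exact (A i).2
  rw [tm, SymplecticGroup.fromBlocks_mem_iff]
  refine ⟨?_, ?_, ?_⟩
  · simp [Matrix.diagonal_transpose, Matrix.diagonal_mul_diagonal, mul_comm]
  · simp [Matrix.diagonal_transpose, Matrix.diagonal_mul_diagonal, mul_comm]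
  · rw [Matrix.diagonal_transpose, Matrix.diagonal_transpose, Matrix.diagonal_mul_diagonal,
      Matrix.diagonal_mul_diagonal, Matrix.diagonal_sub, ← Matrix.diagonal_one]
    congr 1
    funext i
    linear_combination h i

/-- the homomorphism from `SL₂ ^ m` -/
noncomputable def tHom (m : ℕ) : (Fin m → Matrix.SpecialLinearGroup (Fin 2) F) →* Matrix.symplecticGroup (Fin m) F where
  toFun A := ⟨tm fun i => (A i : Matrix (Fin 2) (Fin 2) F), tm_mem A⟩
  map_one' := Subtype.ext (by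
    change tm (fun i => ((1 : Fin m → Matrix.SpecialLinearGroup (Fin 2) F) i : Matrix (Fin 2) (Fin 2) F)) = 1
    simp only [Pi.one_apply, Matrix.SpecialLinearGroup.coe_one]
    exact tm_one)
  map_mul' A B := Subtype.ext (by
    change tm (fun i => ((A * B) i : Matrix (Fin 2) (Fin 2) F)) = tm _ * tm _
    simp only [Pi.mul_apply, Matrix.SpecialLinearGroup.coe_mul]
    exact tm_mul _ _)

theorem tm_inl (A : Fin m → Matrix (Fin 2) (Fin 2) F) (v : Fin m ⊕ Fin m → F) (i : Fin m) :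
    (tm A *ᵥ v) (Sum.inl i) = A i 0 0 * v (Sum.inl i) + A i 0 1 * v (Sum.inr i) := by
  rw [tm, Matrix.fromBlocks_mulVec]
  simp only [Sum.elim_inl, Pi.add_apply, Matrix.mulVec_diagonal, Function.comp_apply]

theorem tm_inr (A : Fin m → Matrix (Fin 2) (Fin 2) F) (v : Fin m ⊕ Fin m → F) (i : Fin m) :
    (tm A *ᵥ v) (Sum.inr i) = A i 1 0 * v (Sum.inl i) + A i 1 1 * v (Sum.inr i) := by
  rw [tm, Matrix.fromBlocks_mulVec]
  simp only [Sum.elim_inr, Pi.add_apply, Matrix.mulVec_diagonal, Function.comp_apply]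

/-- no fixed vectors -/
theorem tm_noFix {A : Fin m → Matrix (Fin 2) (Fin 2) F} (h : ∀ i, (A i - 1).det ≠ 0) {v : Fin m ⊕ Fin m → F}
    (hv : tm A *ᵥ v = v) : v = 0 := by
  have key : ∀ i, (A i - 1) *ᵥ ![v (Sum.inl i), v (Sum.inr i)] = 0 := by
    intro i
    have h1 := congrFun hv (Sum.inl i)
    have h2 := congrFun hv (Sum.inr i)
    rw [tm_inl] at h1
    rw [tm_inr] at h2
    have e1 : (A i 0 0 - 1) * v (Sum.inl i) + A i 0 1 * v (Sum.inr i) = 0 := by linear_combination h1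
    have e2 : A i 1 0 * v (Sum.inl i) + (A i 1 1 - 1) * v (Sum.inr i) = 0 := by linear_combination h2
    rw [sub_one_eq]
    funext j
    fin_cases j
    · simpa [Matrix.mulVec, dotProduct, Fin.sum_univ_two] using e1
    · simpa [Matrix.mulVec, dotProduct, Fin.sum_univ_two] using e2
  funext k
  have h0 : ∀ i, ![v (Sum.inl i), v (Sum.inr i)] = 0 := fun i =>
    Matrix.eq_zero_of_mulVec_eq_zero (h i) (key i)
  rcases k with i | i
  · exact congrFun (h0 i) 0
  · exact congrFun (h0 i) 1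

/-- the element `A ⊕ A²` -/
noncomputable def el (A : Matrix.SpecialLinearGroup (Fin 2) F) : Matrix.symplecticGroup (Fin 2) F :=
  tHom 2 ![A, A ^ 2]

theorem el_pow {A : Matrix.SpecialLinearGroup (Fin 2) F} {r : ℕ} (hA : A ^ r = 1) : el A ^ r = 1 := by
  rw [el, ← map_pow]
  have : (![A, A ^ 2] ^ r : Fin 2 → Matrix.SpecialLinearGroup (Fin 2) F) = 1 := by
    funext i
    fin_cases i
    · simpa using hA
    · have : (A ^ 2) ^ r = 1 := by rw [← pow_mul, mul_comm, pow_mul, hA, one_pow]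
      simpa using this
  rw [this, map_one]

theorem el_coe (A : Matrix.SpecialLinearGroup (Fin 2) F) :
    ((el A : Matrix.symplecticGroup (Fin 2) F) : Matrix (Fin 2 ⊕ Fin 2) (Fin 2 ⊕ Fin 2) F) =
      tm ![(A : Matrix (Fin 2) (Fin 2) F), (A : Matrix (Fin 2) (Fin 2) F) ^ 2] := by
  change tm _ = tm _
  congr 1
  funext i
  fin_cases i <;> simp

theorem el_noFix {A : Matrix.SpecialLinearGroup (Fin 2) F} {r : ℕ} (hr : r.Prime) (h5 : 3 ≤ r) (hA : A ^ r = 1)
    (hA1 : A ≠ 1) (hrF : (r : F) ≠ 0) {v : Fin 2 ⊕ Fin 2 → F}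
    (hv : ((el A : Matrix.symplecticGroup (Fin 2) F) : Matrix (Fin 2 ⊕ Fin 2) (Fin 2 ⊕ Fin 2) F) *ᵥ v = v) : v = 0 := by
  rw [el_coe] at hv
  refine tm_noFix (fun i => ?_) hv
  have hp : ∀ B : Matrix.SpecialLinearGroup (Fin 2) F, B ^ r = 1 → B ≠ 1 →
      ((B : Matrix (Fin 2) (Fin 2) F) - 1).det ≠ 0 := fun B h1 h2 =>
    sl2_no_fix B.2 (by rw [← Matrix.SpecialLinearGroup.coe_pow, h1, Matrix.SpecialLinearGroup.coe_one])
      (fun h => h2 (Subtype.ext (h.trans Matrix.SpecialLinearGroup.coe_one.symm))) hrF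
  fin_cases i
  · exact hp A hA hA1
  · have h2 : A ^ 2 ≠ 1 := by
      intro h2
      have h3 := Nat.dvd_gcd (orderOf_dvd_of_pow_eq_one hA) (orderOf_dvd_of_pow_eq_one h2)
      have h4 : Nat.gcd r 2 = 1 := by
        rw [Nat.coprime_primes hr Nat.prime_two |>.2 (by omega)]
      rw [h4] at h3
      exact hA1 (orderOf_eq_one_iff.1 (Nat.dvd_one.1 h3))
    have h3 := hp (A ^ 2) (by rw [← pow_mul, mul_comm, pow_mul, hA, one_pow]) h2
    simpa using h3

/-- Cayley–Hamilton -/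
theorem ch (A : Matrix.SpecialLinearGroup (Fin 2) F) :
    (A : Matrix (Fin 2) (Fin 2) F) ^ 2 = (A.1 0 0 + A.1 1 1) • (A : Matrix (Fin 2) (Fin 2) F) - 1 := by
  have h := A.2
  rw [Matrix.det_fin_two] at h
  rw [pow_two]
  ext i j
  fin_cases i <;> fin_cases j <;> simp [Matrix.mul_apply, Fin.sum_univ_two]
  · linear_combination -h
  · ring
  · ring
  · linear_combination -h

theorem tr_ne_zero {A : Matrix.SpecialLinearGroup (Fin 2) F} {r : ℕ} (h2 : (2 : F) = 0) (hr : r.Prime) (h5 : 5 ≤ r)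
    (hA : A ^ r = 1) (hA1 : A ≠ 1) : A.1 0 0 + A.1 1 1 ≠ 0 := by
  intro h0
  have h1 := ch A
  rw [h0, zero_smul, zero_sub] at h1
  have hneg : (-1 : F) = 1 := by linear_combination -h2
  have h3 : A ^ 2 = 1 := by
    apply Subtype.ext
    rw [Matrix.SpecialLinearGroup.coe_pow, h1, Matrix.SpecialLinearGroup.coe_one]
    ext i j
    rw [Matrix.neg_apply, Matrix.one_apply]
    split_ifs
    · exact hneg
    · simp
  have h4 := Nat.dvd_gcd (orderOf_dvd_of_pow_eq_one hA) (orderOf_dvd_of_pow_eq_one h3)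
  rw [(Nat.coprime_primes hr Nat.prime_two).2 (by omega)] at h4
  exact hA1 (orderOf_eq_one_iff.1 (Nat.dvd_one.1 h4))

theorem tr_ne_one {A : Matrix.SpecialLinearGroup (Fin 2) F} {r : ℕ} (h2 : (2 : F) = 0) (hr : r.Prime) (h5 : 5 ≤ r)
    (hA : A ^ r = 1) (hA1 : A ≠ 1) : A.1 0 0 + A.1 1 1 ≠ 1 := by
  intro h0
  have h1 := ch A
  rw [h0, one_smul] at h1
  have hneg : (-1 : F) = 1 := by linear_combination -h2
  have h3 : A ^ 3 = 1 := by
    apply Subtype.ext
    rw [Matrix.SpecialLinearGroup.coe_pow, Matrix.SpecialLinearGroup.coe_one, pow_succ, h1, sub_mul, one_mul, ← pow_two, h1]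
    ext i j
    rw [Matrix.sub_apply, Matrix.sub_apply, Matrix.one_apply]
    split_ifs
    · linear_combination hneg
    · ring
  have h4 := Nat.dvd_gcd (orderOf_dvd_of_pow_eq_one hA) (orderOf_dvd_of_pow_eq_one h3)
  rw [(Nat.coprime_primes hr Nat.prime_three).2 (by omega)] at h4
  exact hA1 (orderOf_eq_one_iff.1 (Nat.dvd_one.1 h4))

/-! ### quadratic fields -/

/-- in characteristic two an element of odd order normalising a quadratic field centralises it -/
theorem comm_of_normalizes {ι : Type} [Fintype ι] [DecidableEq ι] [Finite F] (h2 : (2 : F) = 0)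
    {K : Subalgebra F (Matrix ι ι F)} (hK : IsFieldSubalgebra 2 K) {g : GL ι F} (hg : g ∈ subalgebraNormalizer K)
    {r : ℕ} (hr : r.Prime) (hr2 : r ≠ 2) (hgr : g ^ r = 1) {k : Matrix ι ι F} (hk : k ∈ K) :
    (g : Matrix ι ι F) * k = k * (g : Matrix ι ι F) := by
  have hperf : ∀ c : F, ∃ e : F, e ^ 2 = c := by
    have : CharP F 2 := CharTwo.of_one_ne_zero_of_two_eq_zero one_ne_zero h2
    intro c
    obtain ⟨e, he⟩ := (PerfectRing.bijective_frobenius (R := F) (p := 2)).2 c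
    exact ⟨e, he⟩
  have hneg : (-1 : F) = 1 := by linear_combination -h2
  -- scalars
  by_cases hsc : ∃ c : F, k = c • 1
  · obtain ⟨c, rfl⟩ := hsc
    rw [Matrix.mul_smul, Matrix.smul_mul, mul_one, one_mul]
  -- `K = F + F k`
  have hbas : ∀ y ∈ K, ∃ a b : F, y = a • k + b • 1 := by
    intro y hy
    have hli : LinearIndependent F ![(⟨k, hk⟩ : K), 1] := by
      rw [LinearIndependent.pair_iff]
      intro s t hst
      have h1 := congrArg Subtype.val hst
      change s • k + t • (1 : Matrix ι ι F) = 0 at h1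
      by_cases hs : s = 0
      · subst hs
        rw [zero_smul, zero_add] at h1
        refine ⟨rfl, ?_⟩
        by_contra ht
        apply hsc
        refine ⟨0, ?_⟩
        have h3 : (1 : Matrix ι ι F) = 0 := by
          rcases smul_eq_zero.1 h1 with h | h
          · exact absurd h ht
          · exact h
        rw [← mul_one k, h3, mul_zero, smul_zero]
      · exfalso
        apply hsc
        refine ⟨-(s⁻¹ * t), ?_⟩
        have h3 : s • k = -(t • (1 : Matrix ι ι F)) := eq_neg_of_add_eq_zero_left h1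
        rw [← inv_smul_smul₀ hs k, h3, smul_neg, smul_smul, neg_smul]
    have hsp := hli.span_eq_top_of_card_eq_finrank' (by simp [hK.finrank_eq])
    have hy' : (⟨y, hy⟩ : K) ∈ Submodule.span F (Set.range ![(⟨k, hk⟩ : K), 1]) := by rw [hsp]; trivial
    rw [Matrix.range_cons, Matrix.range_cons, Matrix.range_empty, Set.union_empty] at hy'
    obtain ⟨a, b, hab⟩ := Submodule.mem_span_pair.1 hy'
    exact ⟨a, b, (congrArg Subtype.val hab).symm⟩
  -- the conjugate of `k`
  have hconj : ∀ y : Matrix ι ι F, y ∈ K →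
      (g : Matrix ι ι F) * y * ((g⁻¹ : GL ι F) : Matrix ι ι F) ∈ K := fun y hy => (hg y).1 hy
  obtain ⟨a, b, hab⟩ := hbas _ (hconj k hk)
  obtain ⟨s, d, hsd⟩ := hbas _ (K.mul_mem hk hk)
  have hgg : ((g⁻¹ : GL ι F) : Matrix ι ι F) * (g : Matrix ι ι F) = 1 := by
    rw [← Units.val_mul, inv_mul_cancel, Units.val_one]
  have hgg' : (g : Matrix ι ι F) * ((g⁻¹ : GL ι F) : Matrix ι ι F) = 1 := by
    rw [← Units.val_mul, mul_inv_cancel, Units.val_one]
  -- uniqueness of coordinates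
  have huniq : ∀ a b a' b' : F, a • k + b • (1 : Matrix ι ι F) = a' • k + b' • 1 → a = a' ∧ b = b' := by
    intro a b a' b' h
    have h1 : (a - a') • k = (b' - b) • (1 : Matrix ι ι F) := by
      rw [sub_smul, sub_smul, sub_eq_sub_iff_add_eq_add, h, add_comm]
    by_cases haa : a - a' = 0
    · rw [haa, zero_smul] at h1
      refine ⟨sub_eq_zero.1 haa, ?_⟩
      by_contra hbb
      apply hsc
      refine ⟨0, ?_⟩
      have h3 : (1 : Matrix ι ι F) = 0 := by
        rcases smul_eq_zero.1 h1.symm with h | h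
        · exact absurd (sub_eq_zero.1 h).symm hbb
        · exact h
      rw [← mul_one k, h3, mul_zero, smul_zero]
    · exfalso
      apply hsc
      refine ⟨(a - a')⁻¹ * (b' - b), ?_⟩
      rw [← smul_smul, ← h1, inv_smul_smul₀ haa]
  -- `s ≠ 0`
  have hs : s ≠ 0 := by
    rintro rfl
    rw [zero_smul, zero_add] at hsd
    obtain ⟨e, he⟩ := hperf d
    have h1 : (k - e • 1) * (k - e • 1) = 0 := by
      have h3 : (k - e • 1) * (k - e • 1) = k * k - (2 * e) • k + (e ^ 2) • (1 : Matrix ι ι F) := by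
        simp only [sub_mul, mul_sub, Matrix.smul_mul, Matrix.mul_smul, one_mul, mul_one, two_mul, add_smul, pow_two,
          smul_smul]
        abel
      rw [h3, hsd, he, h2, zero_mul, zero_smul, sub_zero, ← add_smul, ← two_mul, h2, zero_mul, zero_smul]
    have h3 : k - e • 1 ∈ K := K.sub_mem hk (K.smul_mem K.one_mem e)
    have h4 : k - e • 1 = 0 := by
      by_contra h0
      obtain ⟨y, -, hy⟩ := hK.inv _ h3 h0
      apply h0
      calc k - e • 1 = (k - e • 1) * ((k - e • 1) * y) := by rw [hy, mul_one]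
        _ = 0 := by rw [← mul_assoc, h1, zero_mul]
    exact hsc ⟨e, sub_eq_zero.1 h4⟩
  -- the relation for the conjugate
  have hrel : (a * a * s + 2 * a * b) • k + (a * a * d + b * b) • (1 : Matrix ι ι F) =
      (s * a) • k + (s * b + d) • 1 := by
    have h1 : (a • k + b • (1 : Matrix ι ι F)) * (a • k + b • 1) = s • (a • k + b • 1) + d • 1 := by
      rw [← hab]
      calc (g : Matrix ι ι F) * k * ((g⁻¹ : GL ι F) : Matrix ι ι F) *
            ((g : Matrix ι ι F) * k * ((g⁻¹ : GL ι F) : Matrix ι ι F))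
          = (g : Matrix ι ι F) * k * (((g⁻¹ : GL ι F) : Matrix ι ι F) * (g : Matrix ι ι F)) * k *
            ((g⁻¹ : GL ι F) : Matrix ι ι F) := by simp only [mul_assoc]
        _ = (g : Matrix ι ι F) * (k * k) * ((g⁻¹ : GL ι F) : Matrix ι ι F) := by
            rw [hgg, mul_one]; simp only [mul_assoc]
        _ = s • ((g : Matrix ι ι F) * k * ((g⁻¹ : GL ι F) : Matrix ι ι F)) + d • 1 := by
            rw [hsd, mul_add, add_mul, Matrix.mul_smul, Matrix.smul_mul, Matrix.mul_smul, Matrix.smul_mul, mul_one,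
              hgg']
    have h3 : (a • k + b • (1 : Matrix ι ι F)) * (a • k + b • 1) =
        (a * a) • (k * k) + (2 * a * b) • k + (b * b) • 1 := by
      simp only [add_mul, mul_add, Matrix.smul_mul, Matrix.mul_smul, one_mul, mul_one, smul_smul]
      rw [show 2 * a * b = b * a + a * b by ring, add_smul]
      abel
    rw [h3, hsd] at h1
    simp only [smul_add, smul_smul] at h1
    have h4 : (a * a * s + 2 * a * b) • k + (a * a * d + b * b) • (1 : Matrix ι ι F) =
        (a * a * s) • k + (a * a * d) • 1 + (2 * a * b) • k + (b * b) • 1 := by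
      rw [add_smul, add_smul]; abel
    rw [h4, h1, add_smul]
    abel
  obtain ⟨h3, h4⟩ := huniq _ _ _ _ hrel
  have ha0 : a ≠ 0 := by
    rintro rfl
    apply hsc
    refine ⟨b, ?_⟩
    rw [zero_smul, zero_add] at hab
    calc k = ((g⁻¹ : GL ι F) : Matrix ι ι F) * ((g : Matrix ι ι F) * k * ((g⁻¹ : GL ι F) : Matrix ι ι F)) *
          (g : Matrix ι ι F) := by
          simp only [← mul_assoc]
          rw [hgg, one_mul, mul_assoc, hgg, mul_one]
      _ = b • 1 := by rw [hab, Matrix.mul_smul, Matrix.smul_mul, mul_one, hgg]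
  have ha1 : a = 1 := by
    have h5 : a * s * (a - 1) = 0 := by linear_combination h3 - (a * b) * h2
    rcases mul_eq_zero.1 h5 with h | h
    · exact absurd h (mul_ne_zero ha0 hs)
    · exact sub_eq_zero.1 h
  subst ha1
  rw [one_smul] at hab
  -- iterate
  have hit : ∀ n : ℕ, ((g ^ n : GL ι F) : Matrix ι ι F) * k * (((g ^ n)⁻¹ : GL ι F) : Matrix ι ι F) =
      k + ((n : F) * b) • 1 := by
    intro n
    induction n with
    | zero => simp
    | succ n ih =>
      rw [pow_succ', mul_inv_rev, Units.val_mul, Units.val_mul]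
      calc (g : Matrix ι ι F) * ((g ^ n : GL ι F) : Matrix ι ι F) * k *
            ((((g ^ n)⁻¹ : GL ι F) : Matrix ι ι F) * ((g⁻¹ : GL ι F) : Matrix ι ι F))
          = (g : Matrix ι ι F) * (((g ^ n : GL ι F) : Matrix ι ι F) * k *
            (((g ^ n)⁻¹ : GL ι F) : Matrix ι ι F)) * ((g⁻¹ : GL ι F) : Matrix ι ι F) := by simp only [mul_assoc]
        _ = k + ((n + 1 : ℕ) * b : F) • 1 := by
          rw [ih, mul_add, add_mul, hab, Matrix.mul_smul, Matrix.smul_mul, mul_one, hgg', add_assoc, ← add_smul]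
          congr 2
          push_cast
          ring
  have hfin := hit r
  rw [hgr, Units.val_one, one_mul, inv_one, Units.val_one, mul_one, left_eq_add] at hfin
  have hb : b = 0 ∨ (1 : Matrix ι ι F) = 0 := by
    rcases smul_eq_zero.1 hfin with h | h
    · left
      refine (mul_eq_zero.1 h).resolve_left ?_
      intro h0
      obtain ⟨c, hc⟩ := hr.odd_of_ne_two hr2
      rw [hc] at h0
      push_cast at h0
      rw [h2, zero_mul, zero_add] at h0
      exact one_ne_zero h0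
    · exact Or.inr h
  have hb' : b • (1 : Matrix ι ι F) = 0 := by
    rcases hb with h | h
    · rw [h, zero_smul]
    · rw [h, smul_zero]
  rw [hb', add_zero] at hab
  calc (g : Matrix ι ι F) * k = (g : Matrix ι ι F) * k * (((g⁻¹ : GL ι F) : Matrix ι ι F) * (g : Matrix ι ι F)) := by
        rw [hgg, mul_one]
    _ = k * (g : Matrix ι ι F) := by rw [← mul_assoc, hab]

theorem el_val (A : Matrix.SpecialLinearGroup (Fin 2) F) :
    ((spToGL 2 F (el A) : GL (Fin 2 ⊕ Fin 2) F) : Matrix (Fin 2 ⊕ Fin 2) (Fin 2 ⊕ Fin 2) F) =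
      tm ![(A : Matrix (Fin 2) (Fin 2) F), (A : Matrix (Fin 2) (Fin 2) F) ^ 2] := el_coe A

theorem poly_aux {R : Type*} [Ring R] [Algebra F R] {M : R} {t : F} (h2 : (2 : F) = 0) (h : M ^ 2 = t • M - 1) :
    M ^ 2 * M ^ 2 - t • M ^ 2 + 1 = (t * (t - 1)) • M ^ 2 := by
  have h3 : M ^ 3 = t • M ^ 2 - M := by
    calc M ^ 3 = M ^ 2 * M := pow_succ _ _
      _ = t • M ^ 2 - M := by rw [h, sub_mul, one_mul, smul_mul_assoc, ← pow_two, h]
  have h1 : M ^ 2 * M ^ 2 = t • M ^ 3 - M ^ 2 := by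
    calc M ^ 2 * M ^ 2 = (t • M - 1) * M ^ 2 := by rw [h]
      _ = t • M ^ 3 - M ^ 2 := by rw [sub_mul, one_mul, smul_mul_assoc, ← pow_succ']
  have h4 : t • M = M ^ 2 + 1 := by rw [h]; abel
  have h5 : (t * (t - 1)) • M ^ 2 = (t * t) • M ^ 2 - t • M ^ 2 := by rw [← sub_smul]; congr 1; ring
  have h6 : M ^ 2 + M ^ 2 = 0 := by rw [← two_smul F, h2, zero_smul]
  rw [h1, h3, smul_sub, h4, smul_smul, h5]
  have h7 : (t * t) • M ^ 2 - (M ^ 2 + 1) - M ^ 2 - t • M ^ 2 + 1 =
      (t * t) • M ^ 2 - t • M ^ 2 - (M ^ 2 + M ^ 2) := by abel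
  rw [h7, h6, sub_zero]

/-- the polynomial of `A` in `A ⊕ A²` -/
theorem el_poly (h2 : (2 : F) = 0) (A : Matrix.SpecialLinearGroup (Fin 2) F) :
    tm ![(A : Matrix (Fin 2) (Fin 2) F), (A : Matrix (Fin 2) (Fin 2) F) ^ 2] ^ 2 -
        (A.1 0 0 + A.1 1 1) • tm ![(A : Matrix (Fin 2) (Fin 2) F), (A : Matrix (Fin 2) (Fin 2) F) ^ 2] + 1 =
      tm ![0, ((A.1 0 0 + A.1 1 1) * (A.1 0 0 + A.1 1 1 - 1)) • (A : Matrix (Fin 2) (Fin 2) F) ^ 2] := by
  obtain ⟨t, ht⟩ : ∃ t, t = A.1 0 0 + A.1 1 1 := ⟨_, rfl⟩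
  have hch := ch A
  rw [← ht] at hch ⊢
  have hsub : ∀ X Y : Fin 2 → Matrix (Fin 2) (Fin 2) F, tm X - tm Y = tm (fun i => X i - Y i) := by
    intro X Y
    ext (i | i) (j | j) <;> simp only [tm, Matrix.sub_apply, Matrix.fromBlocks_apply₁₁, Matrix.fromBlocks_apply₁₂,
      Matrix.fromBlocks_apply₂₁, Matrix.fromBlocks_apply₂₂, Matrix.diagonal_apply] <;> split_ifs <;> simp
  have hadd : ∀ X Y : Fin 2 → Matrix (Fin 2) (Fin 2) F, tm X + tm Y = tm (fun i => X i + Y i) := by
    intro X Y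
    simp only [tm, Matrix.fromBlocks_add, Matrix.diagonal_add, Matrix.add_apply]
  have hsmul : ∀ (c : F) (X : Fin 2 → Matrix (Fin 2) (Fin 2) F), c • tm X = tm (fun i => c • X i) := by
    intro c X
    simp only [tm, Matrix.fromBlocks_smul, ← Matrix.diagonal_smul, Pi.smul_def, Matrix.smul_apply]
  rw [← tm_one, pow_two (tm _), ← tm_mul, hsmul, hsub, hadd]
  congr 1
  funext i
  fin_cases i
  · change (A : Matrix (Fin 2) (Fin 2) F) * (A : Matrix (Fin 2) (Fin 2) F) - t • (A : Matrix (Fin 2) (Fin 2) F) + 1 = 0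
    rw [← pow_two, hch]
    abel
  · change (A : Matrix (Fin 2) (Fin 2) F) ^ 2 * (A : Matrix (Fin 2) (Fin 2) F) ^ 2 -
      t • (A : Matrix (Fin 2) (Fin 2) F) ^ 2 + 1 = (t * (t - 1)) • (A : Matrix (Fin 2) (Fin 2) F) ^ 2
    exact poly_aux h2 hch

/-- **The regular element does not normalise a self-adjoint quadratic field.** -/
theorem not_mem_field [Finite F] (h2 : (2 : F) = 0) {A : Matrix.SpecialLinearGroup (Fin 2) F} {r : ℕ} (hr : r.Prime)
    (h5 : 5 ≤ r) (hA : A ^ r = 1) (hA1 : A ≠ 1) {K : Subalgebra F (Matrix (Fin 2 ⊕ Fin 2) (Fin 2 ⊕ Fin 2) F)}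
    (hK : IsFieldSubalgebra 2 K) (hs : IsSelfAdjointFor (sympForm 2 F) K) :
    spToGL 2 F (el A) ∉ subalgebraNormalizer K := by
  intro hmem
  have hperf : ∀ c : F, ∃ e : F, e ^ 2 = c := by
    have : CharP F 2 := CharTwo.of_one_ne_zero_of_two_eq_zero one_ne_zero h2
    intro c
    obtain ⟨e, he⟩ := (PerfectRing.bijective_frobenius (R := F) (p := 2)).2 c
    exact ⟨e, he⟩
  have hpow : (spToGL 2 F (el A)) ^ r = 1 := by rw [← map_pow, el_pow hA, map_one]
  have hcomm := fun k hk => comm_of_normalizes h2 hK hmem hr (by omega) hpow (k := k) hk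
  obtain ⟨t, ht⟩ : ∃ t, t = A.1 0 0 + A.1 1 1 := ⟨_, rfl⟩
  have ht0 : t ≠ 0 := ht ▸ tr_ne_zero h2 hr h5 hA hA1
  have ht1 : t ≠ 1 := ht ▸ tr_ne_one h2 hr h5 hA hA1
  obtain ⟨X, hX⟩ : ∃ X, X = tm ![(A : Matrix (Fin 2) (Fin 2) F), (A : Matrix (Fin 2) (Fin 2) F) ^ 2] := ⟨_, rfl⟩
  have hpoly := el_poly h2 A
  rw [← ht, ← hX] at hpoly
  -- the first plane
  have hker : ∀ v : Fin 2 ⊕ Fin 2 → F, (X ^ 2 - t • X + 1) *ᵥ v = 0 ↔ v (Sum.inl 1) = 0 ∧ v (Sum.inr 1) = 0 := by
    intro v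
    rw [hpoly]
    have hdet : ((t * (t - 1)) • (A : Matrix (Fin 2) (Fin 2) F) ^ 2).det ≠ 0 := by
      rw [Matrix.det_smul, Matrix.det_pow, A.2, one_pow, mul_one]
      exact pow_ne_zero _ (mul_ne_zero ht0 (sub_ne_zero.2 ht1))
    constructor
    · intro h
      have e1 := congrFun h (Sum.inl 1)
      have e2 := congrFun h (Sum.inr 1)
      rw [tm_inl] at e1
      rw [tm_inr] at e2
      have h3 : ((t * (t - 1)) • (A : Matrix (Fin 2) (Fin 2) F) ^ 2) *ᵥ ![v (Sum.inl 1), v (Sum.inr 1)] = 0 := by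
        funext j
        fin_cases j
        · simpa [Matrix.mulVec, dotProduct, Fin.sum_univ_two] using e1
        · simpa [Matrix.mulVec, dotProduct, Fin.sum_univ_two] using e2
      have h4 := Matrix.eq_zero_of_mulVec_eq_zero hdet h3
      exact ⟨congrFun h4 0, congrFun h4 1⟩
    · rintro ⟨h1, h3⟩
      funext j
      rcases j with j | j <;> fin_cases j
      · rw [show (⟨0, by omega⟩ : Fin 2) = 0 from rfl, tm_inl]; simp
      · rw [show (⟨1, by omega⟩ : Fin 2) = 1 from rfl, tm_inl, h1, h3]; simp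
      · rw [show (⟨0, by omega⟩ : Fin 2) = 0 from rfl, tm_inr]; simp
      · rw [show (⟨1, by omega⟩ : Fin 2) = 1 from rfl, tm_inr, h1, h3]; simp
  -- `K` preserves the first plane
  have hpres : ∀ k ∈ K, ∀ v : Fin 2 ⊕ Fin 2 → F, (X ^ 2 - t • X + 1) *ᵥ v = 0 →
      (X ^ 2 - t • X + 1) *ᵥ (k *ᵥ v) = 0 := by
    intro k hk v hv
    have h1 : X * k = k * X := by
      have := hcomm k hk
      rwa [el_val, ← hX] at this
    have h3 : (X ^ 2 - t • X + 1) * k = k * (X ^ 2 - t • X + 1) := by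
      rw [add_mul, sub_mul, mul_add, mul_sub, Matrix.smul_mul, Matrix.mul_smul, h1, pow_two, mul_assoc, h1, ← mul_assoc,
        h1, mul_assoc, one_mul, mul_one]
    rw [Matrix.mulVec_mulVec, h3, ← Matrix.mulVec_mulVec, hv, Matrix.mulVec_zero]
  -- basis vectors of the first plane
  let e1 : Fin 2 ⊕ Fin 2 → F := Pi.single (Sum.inl 0) 1
  let f1 : Fin 2 ⊕ Fin 2 → F := Pi.single (Sum.inr 0) 1
  have he1 : (X ^ 2 - t • X + 1) *ᵥ e1 = 0 := (hker e1).2 ⟨by simp [e1], by simp [e1]⟩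
  have hf1 : (X ^ 2 - t • X + 1) *ᵥ f1 = 0 := (hker f1).2 ⟨by simp [f1], by simp [f1]⟩
  -- every element of `K` is scalar
  have hscal : ∀ k ∈ K, ∃ c : F, k = c • (1 : Matrix (Fin 2 ⊕ Fin 2) (Fin 2 ⊕ Fin 2) F) := by
    intro k hk
    have h1 := (hker _).1 (hpres k hk e1 he1)
    have h3 := (hker _).1 (hpres k hk f1 hf1)
    obtain ⟨a, ha⟩ : ∃ a, a = (k *ᵥ e1) (Sum.inl 0) := ⟨_, rfl⟩
    obtain ⟨b, hb⟩ : ∃ b, b = (k *ᵥ e1) (Sum.inr 0) := ⟨_, rfl⟩
    obtain ⟨c, hc⟩ : ∃ c, c = (k *ᵥ f1) (Sum.inl 0) := ⟨_, rfl⟩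
    obtain ⟨d, hd⟩ : ∃ d, d = (k *ᵥ f1) (Sum.inr 0) := ⟨_, rfl⟩
    have hke : k *ᵥ e1 = a • e1 + b • f1 := by
      funext j
      rcases j with j | j <;> fin_cases j
      · simp [e1, f1, ← ha]
      · simpa [e1, f1] using h1.1
      · simp [e1, f1, ← hb]
      · simpa [e1, f1] using h1.2
    have hkf : k *ᵥ f1 = c • e1 + d • f1 := by
      funext j
      rcases j with j | j <;> fin_cases j
      · simp [e1, f1, ← hc]
      · simpa [e1, f1] using h3.1
      · simp [e1, f1, ← hd]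
      · simpa [e1, f1] using h3.2
    have had : a = d := by
      have h4 := hs k hk e1 f1
      rw [hke, hkf] at h4
      have hJ : ∀ u v : Fin 2 ⊕ Fin 2 → F, sympForm 2 F u v =
          ∑ i, (u (Sum.inr i) * v (Sum.inl i) - u (Sum.inl i) * v (Sum.inr i)) := by
        intro u v
        rw [sympForm, Matrix.J, Matrix.fromBlocks_mulVec]
        simp [dotProduct, Fintype.sum_sum_type, Matrix.neg_mulVec, Fin.sum_univ_two]
        ring
      rw [hJ, hJ] at h4
      simpa [e1, f1, Fin.sum_univ_two] using h4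
    obtain ⟨e, he⟩ := hperf (b * c)
    refine ⟨a + e, ?_⟩
    have hk' : k - (a + e) • 1 ∈ K := K.sub_mem hk (K.smul_mem K.one_mem _)
    by_contra hne
    obtain ⟨y, -, hy⟩ := hK.inv _ hk' (fun h0 => hne (sub_eq_zero.1 h0))
    have hy' : y * (k - (a + e) • 1) = 1 := mul_eq_one_comm.1 hy
    have h5 : (k - (a + e) • 1) *ᵥ ((k - (a + e) • 1) *ᵥ e1) = 0 := by
      have h51 : (k - (a + e) • 1) *ᵥ e1 = (- e) • e1 + b • f1 := by
        rw [Matrix.sub_mulVec, Matrix.smul_mulVec, Matrix.one_mulVec, hke, add_sub_right_comm, ← sub_smul]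
        congr 2
        ring
      have h52 : (k - (a + e) • 1) *ᵥ f1 = c • e1 + (- e) • f1 := by
        rw [Matrix.sub_mulVec, Matrix.smul_mulVec, Matrix.one_mulVec, hkf, add_sub_assoc, ← sub_smul, ← had]
        congr 2
        ring
      rw [h51, Matrix.mulVec_add, Matrix.mulVec_smul, Matrix.mulVec_smul, h51, h52]
      funext j
      rcases j with j | j <;> fin_cases j
      · simp [e1, f1]
        linear_combination he + (b * c) * h2
      · simp [e1, f1]
      · simp [e1, f1]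
        linear_combination (- b * e) * h2
      · simp [e1, f1]
    have h6 : e1 = 0 := by
      have h7 := congrArg (fun v => y *ᵥ (y *ᵥ v)) h5
      simp only [Matrix.mulVec_zero, Matrix.mulVec_mulVec] at h7
      rw [← mul_assoc y (k - (a + e) • 1), hy', one_mul, hy', Matrix.one_mulVec] at h7
      exact h7
    have h8 := congrFun h6 (Sum.inl 0)
    simp [e1] at h8
  -- the dimension
  have h9 : finrank F K ≤ 1 := by
    refine finrank_le_one (1 : K) fun w => ?_
    obtain ⟨c, hc⟩ := hscal w w.2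
    exact ⟨c, Subtype.ext hc.symm⟩
  rw [hK.finrank_eq] at h9
  omega

end Cfsg.Agent.H262.ElFour
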