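import Cfsg.Agent.H262.ElFourA

/-!
# TEAM ELUSIVE: `PSp_4(q)`, `q` even: quadratic forms fixed by the regular element
-/

set_option autoImplicit false

namespace Cfsg.Agent.H262.ElFour

open Cfsg Cfsg.Geo Module
open Cfsg.Agent.ClassicalGeometry.SympBasic Cfsg.Agent.H876 Cfsg.Agent.H931 Cfsg.Agent.H262.El
open Cfsg.Agent.H884.El (Miss PP exists_pp)
open scoped Matrix MatrixGroups

universe u

variable {F : Type u} [Field F]

/-- the quadratic form is of plus type -/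
def PlusQ (Q : (Fin 2 ⊕ Fin 2 → F) → F) : Prop :=
  ∃ Q' : QuadraticForm F (Fin 2 ⊕ Fin 2 → F), ⇑Q' = Q ∧ Cfsg.Agent.H955.IsPlus Q'

/-- the case `r ∣ q + 1` -/
theorem plus_of_dvd_succ [Fintype F] {A : Matrix.SpecialLinearGroup (Fin 2) F} {r : ℕ} (hr : r.Prime) (h5 : 5 ≤ r)
    (hA : A ^ r = 1) (hA1 : A ≠ 1) (hrF : (r : F) ≠ 0) (hd : r ∣ Fintype.card F + 1)
    {Q : (Fin 2 ⊕ Fin 2 → F) → F} (hQ : IsNondegenerateQuadraticForm Q)
    (hx : spToGL 2 F (el A) ∈ isometryGroup F Q) : PlusQ Q := by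
  have := Fact.mk hr
  have hsim : spToGL 2 F (el A) ∈ quadSimilarityGroup Q :=
    ⟨1, fun v => by rw [H925.mem_iso_iff.1 hx v, Units.val_one, one_mul]⟩
  have hsq : (Fintype.card F : ZMod r) = -1 := by
    have h1 : ((Fintype.card F + 1 : ℕ) : ZMod r) = 0 := (ZMod.natCast_eq_zero_iff _ _).2 hd
    push_cast at h1
    linear_combination h1
  rcases quad_dichotomy (m := 2) (by norm_num) (by simp) hr hQ hsim (by rw [← map_pow, el_pow hA, map_one])
    (fun v hv => el_noFix hr (by omega) hA hA1 hrF hv) with ⟨h, -⟩ | ⟨-, h1⟩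
  · exact h
  · exfalso
    rw [hsq] at h1
    have h2 : ((4 : ℕ) : ZMod r) = 0 := by
      push_cast
      linear_combination -h1
    have h3 := (ZMod.natCast_eq_zero_iff 4 r).1 h2
    have := Nat.le_of_dvd (by norm_num) h3
    omega

/-- the case `r ∣ q - 1` -/
theorem plus_of_diag {a : Fˣ} (ha2 : (a : F) ^ 2 ≠ 1) (ha4 : (a : F) ^ 4 ≠ 1)
    {A : Matrix.SpecialLinearGroup (Fin 2) F} (hAv : (A : Matrix (Fin 2) (Fin 2) F) = !![(a : F), 0; 0, ((a⁻¹ : Fˣ) : F)])
    {Q : (Fin 2 ⊕ Fin 2 → F) → F} (hQ : IsNondegenerateQuadraticForm Q)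
    (hpol : ∀ u v, QuadraticMap.polar Q u v = sympForm 2 F u v)
    (hx : spToGL 2 F (el A) ∈ isometryGroup F Q) : PlusQ Q := by
  obtain ⟨Q', hQ', -⟩ := Cfsg.Agent.H883.Bridge.exists_quadraticForm hQ
  refine ⟨Q', hQ', ?_⟩
  have hiso := H925.mem_iso_iff.1 hx
  rw [el_val] at hiso
  let e (i : Fin 2) : Fin 2 ⊕ Fin 2 → F := Pi.single (Sum.inl i) 1
  have hA2 : (A : Matrix (Fin 2) (Fin 2) F) ^ 2 = !![(a : F) ^ 2, 0; 0, ((a⁻¹ : Fˣ) : F) ^ 2] := by
    rw [hAv, pow_two, Matrix.mul_fin_two]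
    simp [pow_two]
  have hxe0 : tm ![(A : Matrix (Fin 2) (Fin 2) F), (A : Matrix (Fin 2) (Fin 2) F) ^ 2] *ᵥ e 0 = (a : F) • e 0 := by
    funext j
    rcases j with j | j
    · rw [tm_inl]
      fin_cases j <;> simp [e, hAv]
    · rw [tm_inr]
      fin_cases j <;> simp [e, hAv]
  have hxe1 : tm ![(A : Matrix (Fin 2) (Fin 2) F), (A : Matrix (Fin 2) (Fin 2) F) ^ 2] *ᵥ e 1 =
      ((a : F) ^ 2) • e 1 := by
    funext j
    rcases j with j | j
    · rw [tm_inl]
      fin_cases j <;> simp [e, hA2]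
    · rw [tm_inr]
      fin_cases j <;> simp [e, hA2]
  have hQ0 : Q (e 0) = 0 := by
    have h1 := hiso (e 0)
    rw [hxe0, hQ.smul] at h1
    have h2 : ((a : F) ^ 2 - 1) * Q (e 0) = 0 := by linear_combination h1
    exact (mul_eq_zero.1 h2).resolve_left (sub_ne_zero.2 ha2)
  have hQ1 : Q (e 1) = 0 := by
    have h1 := hiso (e 1)
    rw [hxe1, hQ.smul] at h1
    have h2 : ((a : F) ^ 4 - 1) * Q (e 1) = 0 := by linear_combination h1
    exact (mul_eq_zero.1 h2).resolve_left (sub_ne_zero.2 ha4)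
  have hli : LinearIndependent F ![e 0, e 1] := by
    rw [LinearIndependent.pair_iff]
    intro s t hst
    have h1 := congrFun hst (Sum.inl 0)
    have h2 := congrFun hst (Sum.inl 1)
    simp only [e, Pi.add_apply, Pi.smul_apply, smul_eq_mul] at h1 h2
    simp at h1 h2
    exact ⟨h1, h2⟩
  refine ⟨Submodule.span F (Set.range ![e 0, e 1]), ?_, ?_⟩
  · intro u hu
    rw [Matrix.range_cons, Matrix.range_cons, Matrix.range_empty, Set.union_empty] at hu
    obtain ⟨s, t, rfl⟩ := Submodule.mem_span_pair.1 hu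
    rw [QuadraticMap.map_add (⇑Q'), QuadraticMap.map_smul, QuadraticMap.map_smul, QuadraticMap.polar_smul_left,
      QuadraticMap.polar_smul_right, hQ', hQ0, hQ1, hpol]
    simp only [e]
    rw [sympForm_single_inl_left]
    simp
  · rw [finrank_span_eq_card hli]
    simp

/-- **plus type forms**: the order of the isometry group is prime to the primes of `q² + 1` -/
theorem no_plus [Fintype F] {t : ℕ} (ht : Od (Fintype.card F) 4 t)
    {Q : (Fin 2 ⊕ Fin 2 → F) → F} (hQ : IsNondegenerateQuadraticForm Q) (hP : PlusQ Q)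
    {H : Subgroup (GL (Fin 2 ⊕ Fin 2) F)} (hH : H ≤ isometryGroup F Q) (hd : t ∣ Nat.card H) : False := by
  have := Fact.mk ht.prime
  have hfin : Finite (GL (Fin 2 ⊕ Fin 2) F) := inferInstance
  obtain ⟨y, hy⟩ := exists_prime_orderOf_dvd_card' t hd
  have hyr : (y : GL (Fin 2 ⊕ Fin 2) F) ^ t = 1 := by
    rw [← Subgroup.coe_pow, ← hy, pow_orderOf_eq_one]; rfl
  have hy1 : (y : GL (Fin 2 ⊕ Fin 2) F) ≠ 1 := by
    intro h1
    have hg2 : y = 1 := Subtype.ext h1
    rw [hg2, orderOf_one] at hy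
    exact ht.prime.one_lt.ne hy
  have hsim : (y : GL (Fin 2 ⊕ Fin 2) F) ∈ quadSimilarityGroup Q :=
    ⟨1, fun v => by rw [H925.mem_iso_iff.1 (hH y.2) v, Units.val_one, one_mul]⟩
  have hfix : ∀ v, ((y : GL (Fin 2 ⊕ Fin 2) F) : Matrix (Fin 2 ⊕ Fin 2) (Fin 2 ⊕ Fin 2) F) *ᵥ v = v → v = 0 := by
    intro v hv
    have h1 : fixS (y : GL (Fin 2 ⊕ Fin 2) F) = ⊥ := by
      rcases irr_of_od (by simpa using ht) hyr hy1 (fixS (y : GL (Fin 2 ⊕ Fin 2) F)) (fun v hv => by
        rw [mem_fixS.1 hv]; exact hv) with h | h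
      · exact h
      · exact absurd (fixS_eq_top h) hy1
    have h2 : v ∈ fixS (y : GL (Fin 2 ⊕ Fin 2) F) := mem_fixS.2 hv
    rwa [h1, Submodule.mem_bot] at h2
  obtain ⟨Q', hQ', hP'⟩ := hP
  have hq4 : (Fintype.card F : ZMod t) ^ 4 = 1 := by
    have := pow_orderOf_eq_one (Fintype.card F : ZMod t)
    rwa [ht.ord] at this
  have hne : ∀ j, 0 < j → j < 4 → (Fintype.card F : ZMod t) ^ j ≠ 1 := by
    intro j hj hj4 h
    have h1 := orderOf_dvd_of_pow_eq_one h
    rw [ht.ord] at h1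
    have := Nat.le_of_dvd hj h1
    omega
  rcases quad_dichotomy (m := 2) (by norm_num) (by simp) ht.prime hQ hsim hyr hfix with ⟨-, h1⟩ | ⟨⟨Q'', hQ'', hP''⟩, -⟩
  · rcases mul_eq_zero.1 h1 with h2 | h2
    · exact hne 2 (by norm_num) (by norm_num) (sub_eq_zero.1 h2)
    · apply hne 2 (by norm_num) (by norm_num)
      rw [show 2 - 1 = 1 by norm_num, pow_one] at h2
      have h3 : (Fintype.card F : ZMod t) = -1 := by linear_combination h2
      rw [h3]; ring
  · exact hP'' (DFunLike.coe_injective (hQ''.trans hQ'.symm) ▸ hP')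

/-- a prime `r ≥ 5` dividing `q² - 1` -/
theorem exists_prime_ge {f : ℕ} (hf : 2 ≤ f) : ∃ r : ℕ, r.Prime ∧ 5 ≤ r ∧ (r ∣ 2 ^ f - 1 ∨ r ∣ 2 ^ f + 1) := by
  have h4 : 4 ≤ 2 ^ f := by
    calc 4 = 2 ^ 2 := by norm_num
      _ ≤ 2 ^ f := Nat.pow_le_pow_right (by norm_num) hf
  have heven : 2 ∣ 2 ^ f := dvd_pow_self 2 (by omega)
  have key : ∀ r : ℕ, r.Prime → r ≠ 2 → r ≠ 3 → 5 ≤ r := by
    intro r hr h2 h3
    have := hr.two_le
    by_contra hcon
    interval_cases r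
    · exact h2 rfl
    · exact h3 rfl
    · exact absurd hr (by norm_num)
  by_cases h3 : 3 ∣ 2 ^ f - 1
  · obtain ⟨r, hr, hd⟩ := Nat.exists_prime_and_dvd (n := 2 ^ f + 1) (by omega)
    refine ⟨r, hr, key r hr ?_ ?_, Or.inr hd⟩
    · rintro rfl; omega
    · rintro rfl; omega
  · obtain ⟨r, hr, hd⟩ := Nat.exists_prime_and_dvd (n := 2 ^ f - 1) (by omega)
    refine ⟨r, hr, key r hr ?_ ?_, Or.inl hd⟩
    · rintro rfl; omega
    · rintro rfl; exact h3 hd

/-- **The regular element.** -/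
theorem exists_regular [Fintype F] (heven : ¬ Odd (Fintype.card F)) (h4 : 4 ≤ Fintype.card F) :
    ∃ (r : ℕ) (A : Matrix.SpecialLinearGroup (Fin 2) F), r.Prime ∧ 5 ≤ r ∧ (2 : F) = 0 ∧ A ^ r = 1 ∧ A ≠ 1 ∧
      ∀ Q : (Fin 2 ⊕ Fin 2 → F) → F, IsNondegenerateQuadraticForm Q →
        (∀ u v, QuadraticMap.polar Q u v = sympForm 2 F u v) → spToGL 2 F (el A) ∈ isometryGroup F Q → PlusQ Q := by
  obtain ⟨p, hp⟩ := CharP.exists F
  have hpp : p.Prime := CharP.char_is_prime F p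
  obtain ⟨n, -, hn⟩ := FiniteField.card F p
  have hev : Even (Fintype.card F) := Nat.not_odd_iff_even.1 heven
  have hp2 : p = 2 := by
    rw [hn] at hev
    have h2 : 2 ∣ p := Nat.prime_two.dvd_of_dvd_pow (even_iff_two_dvd.1 hev)
    exact ((Nat.prime_dvd_prime_iff_eq Nat.prime_two hpp).1 h2).symm
  subst hp2
  have h2 : (2 : F) = 0 := CharTwo.two_eq_zero
  have hn2 : 2 ≤ (n : ℕ) := by
    by_contra h
    have : (n : ℕ) = 1 := by have := n.pos; omega
    rw [hn, this] at h4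
    norm_num at h4
  obtain ⟨r, hr, h5, hd⟩ := exists_prime_ge hn2
  rw [← hn] at hd
  have := Fact.mk hr
  have hrF : (r : F) ≠ 0 := by
    intro h0
    have h1 : 2 ∣ r := (CharP.cast_eq_zero_iff F 2 r).1 h0
    have := (Nat.prime_dvd_prime_iff_eq Nat.prime_two hr).1 h1
    omega
  rcases hd with hd | hd
  · -- a diagonal element
    have hcu : Nat.card Fˣ = Fintype.card F - 1 := by
      rw [Nat.card_units, Nat.card_eq_fintype_card]
    obtain ⟨a, ha⟩ := exists_prime_orderOf_dvd_card' (G := Fˣ) r (by rw [hcu]; exact hd)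
    have hpow : ∀ j, 0 < j → j < r → (a : F) ^ j ≠ 1 := by
      intro j hj hjr h
      have h1 : a ^ j = 1 := Units.ext (by rw [Units.val_pow_eq_pow_val, h, Units.val_one])
      have h3 := orderOf_dvd_of_pow_eq_one h1
      rw [ha] at h3
      have := Nat.le_of_dvd hj h3
      omega
    let A : Matrix.SpecialLinearGroup (Fin 2) F := ⟨!![(a : F), 0; 0, ((a⁻¹ : Fˣ) : F)], by
      rw [Matrix.det_fin_two_of, ← Units.val_mul, mul_inv_cancel]; simp⟩
    have hAj : ∀ j : ℕ, ((A ^ j : Matrix.SpecialLinearGroup (Fin 2) F) : Matrix (Fin 2) (Fin 2) F) =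
        !![((a ^ j : Fˣ) : F), 0; 0, (((a⁻¹) ^ j : Fˣ) : F)] := by
      intro j
      induction j with
      | zero =>
        rw [pow_zero, Matrix.SpecialLinearGroup.coe_one, Matrix.one_fin_two]
        simp
      | succ j ih =>
        rw [pow_succ, Matrix.SpecialLinearGroup.coe_mul, ih]
        change _ * !![(a : F), 0; 0, ((a⁻¹ : Fˣ) : F)] = _
        rw [Matrix.mul_fin_two, pow_succ, pow_succ]
        simp
    refine ⟨r, A, hr, h5, h2, ?_, ?_, fun Q hQ hpol hx => ?_⟩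
    · apply Subtype.ext
      have h1 : a ^ r = 1 := by rw [← ha]; exact pow_orderOf_eq_one a
      have h3 := hAj r
      rw [inv_pow, h1, inv_one, Units.val_one, ← Matrix.one_fin_two] at h3
      rw [h3, Matrix.SpecialLinearGroup.coe_one]
    · intro h
      have h1 := congrArg (fun B : Matrix.SpecialLinearGroup (Fin 2) F => (B : Matrix (Fin 2) (Fin 2) F) 0 0) h
      simp only [Matrix.SpecialLinearGroup.coe_one, Matrix.one_apply_eq] at h1
      apply hpow 1 (by norm_num) (by omega)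
      rw [pow_one]
      exact h1
    · exact plus_of_diag (hpow 2 (by norm_num) (by omega)) (hpow 4 (by norm_num) (by omega)) rfl hQ hpol hx
  · obtain ⟨A, hA⟩ := exists_prime_orderOf_dvd_card' (G := Matrix.SpecialLinearGroup (Fin 2) F) r
      (Cfsg.Agent.S2430.card_SL (F := F) ▸ Dvd.dvd.mul_left hd _)
    have hAr : A ^ r = 1 := by rw [← hA, pow_orderOf_eq_one]
    have hA1 : A ≠ 1 := by
      rintro rfl
      rw [orderOf_one] at hA
      exact hr.one_lt.ne hA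
    exact ⟨r, A, hr, h5, h2, hAr, hA1, fun Q hQ _ hx => plus_of_dvd_succ hr h5 hAr hA1 hrF hd hQ hx⟩

end Cfsg.Agent.H262.ElFour
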