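import Mathlib

/-!
# An element of order `15` (helper262, TEAM ELUSIVE)
-/

set_option autoImplicit false
set_option linter.style.haveILetI false

namespace Cfsg.Agent.H262.ElFour

/-- a normal subgroup whose Sylow `5`-subgroup has order `5`, of index divisible by `3`: an element of order `15` -/
theorem exists_fifteen {M : Type*} [Group M] [Finite M] (S : Subgroup M) [S.Normal] (h5 : 5 ∣ Nat.card S)
    (h25 : ¬ 25 ∣ Nat.card S) (h3 : 3 ∣ S.index) : ∃ x : M, orderOf x = 15 := by
  have hp5 : Fact (Nat.Prime 5) := ⟨by norm_num⟩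
  have hp3 : Fact (Nat.Prime 3) := ⟨by norm_num⟩
  obtain ⟨P⟩ : Nonempty (Sylow 5 S) := inferInstance
  have hP5 : Nat.card P = 5 := by
    have h1 : 5 ∣ Nat.card P := P.dvd_card_of_dvd_card h5
    obtain ⟨n, hn⟩ := P.isPGroup'.exists_card_eq
    have hn1 : n ≠ 0 := by
      rintro rfl
      rw [hn] at h1
      norm_num at h1
    have hn2 : n < 2 := by
      by_contra hcon
      apply h25
      have h2 : 5 ^ 2 ∣ Nat.card P := by rw [hn]; exact pow_dvd_pow 5 (by omega)
      exact (show 25 = 5 ^ 2 by norm_num) ▸ h2.trans (Subgroup.card_subgroup_dvd_card _)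
    have : n = 1 := by omega
    rw [hn, this, pow_one]
  let Q : Subgroup M := (P : Subgroup S).map S.subtype
  have hQ : Nat.card Q = 5 := by
    rw [Subgroup.card_map_of_injective S.subtype_injective]
    exact hP5
  -- Frattini
  have hfr := Sylow.normalizer_sup_eq_top P
  have hd : 3 ∣ Nat.card (Subgroup.normalizer (Q : Set M)) := by
    have h1 : S.index = S.relIndex (Subgroup.normalizer (Q : Set M)) := by
      rw [← Subgroup.relIndex_top_right, ← hfr, Subgroup.relIndex_sup_right]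
    rw [h1] at h3
    exact h3.trans (Subgroup.relIndex_dvd_card _ _)
  obtain ⟨x, hx⟩ := exists_prime_orderOf_dvd_card' 3 hd
  obtain ⟨y, hy⟩ := exists_prime_orderOf_dvd_card' (G := Q) 5 (by rw [hQ])
  have hx' : orderOf (x : M) = 3 := by rw [Subgroup.orderOf_coe, hx]
  have hy' : orderOf (y : M) = 5 := by rw [Subgroup.orderOf_coe, hy]
  have hgen : ∀ z ∈ Q, z ∈ Subgroup.zpowers (y : M) := by
    have h1 : Subgroup.zpowers (y : M) ≤ Q := Subgroup.zpowers_le.2 y.2
    have h2 := Subgroup.eq_of_le_of_card_ge h1 (by rw [hQ, Nat.card_zpowers, hy'])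
    intro z hz
    rw [h2]
    exact hz
  -- the action
  have hconj : (x : M) * y * (x : M)⁻¹ ∈ Q := (Subgroup.mem_normalizer_iff.1 x.2 y).1 y.2
  obtain ⟨k, hk⟩ := (mem_powers_iff_mem_zpowers (x := (y : M))).2 (hgen _ hconj)
  have hk' : (y : M) ^ k = (x : M) * y * (x : M)⁻¹ := hk
  have hit : ∀ n : ℕ, (x : M) ^ n * y * ((x : M) ^ n)⁻¹ = (y : M) ^ (k ^ n) := by
    intro n
    induction n with
    | zero => simp
    | succ n ih =>
      have h5' : ∀ i : ℕ, (x : M) * (y : M) ^ i * (x : M)⁻¹ = ((y : M) ^ i) ^ k := by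
        intro i
        rw [← conj_pow, ← hk', ← pow_mul, ← pow_mul, mul_comm]
      rw [pow_succ', mul_inv_rev,
        show (x : M) * (x : M) ^ n * y * (((x : M) ^ n)⁻¹ * (x : M)⁻¹) = x * ((x : M) ^ n * y * ((x : M) ^ n)⁻¹) * (x : M)⁻¹
          by group, ih, h5', ← pow_mul, ← pow_succ]
  have h1 := hit 3
  have hx3 : (x : M) ^ 3 = 1 := by rw [← hx']; exact pow_orderOf_eq_one _
  rw [hx3, one_mul, inv_one, mul_one] at h1
  have h2 : k ^ 3 % 5 = 1 := by
    have h9 : (y : M) ^ (k ^ 3) = (y : M) ^ 1 := by rw [← h1, pow_one]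
    rw [pow_inj_mod, hy'] at h9
    exact h9
  have hk1 : k % 5 = 1 := by
    have : ∀ j < 5, j ^ 3 % 5 = 1 → j = 1 := by decide
    refine this (k % 5) (Nat.mod_lt _ (by norm_num)) ?_
    rw [← Nat.pow_mod]
    exact h2
  have hcomm : Commute (x : M) y := by
    have h4 : (y : M) ^ k = y := by
      rw [← pow_mod_orderOf, hy', hk1, pow_one]
    rw [h4] at hk'
    exact (mul_inv_eq_iff_eq_mul.1 hk'.symm)
  refine ⟨x * y, ?_⟩
  rw [hcomm.orderOf_mul_eq_mul_orderOf_of_coprime (by rw [hx', hy']; norm_num), hx', hy']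

end Cfsg.Agent.H262.ElFour
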