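import Cfsg.Agent.H262.ElFourB
import Cfsg.Agent.H262.ElFourC
import Cfsg.Agent.H264.FKS.SpFour
import Cfsg.Agent.S2469
import Cfsg.Agent.H396.Der

/-!
# TEAM ELUSIVE: proper subgroups of `PSp_4(q)`, `q ≥ 4` even, up to automorphisms (for S3553)

`der_psp_four` : every proper subgroup `R` of `PSp_4(q)`, `q ≥ 4` even, satisfies `Der`: no automorphic image of some
element of prime order lies in `R`.
-/

set_option autoImplicit false

namespace Cfsg.Agent.H262.ElFour

open Cfsg Cfsg.Geo Cfsg.Agent.OrdDiv Cfsg.Agent.H436 Cfsg.Agent.H915.GN Cfsg.Agent.H264.GN Cfsg.Agent.H262.El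
  Cfsg.Agent.H931 Cfsg.Agent.H876 Cfsg.Agent.H264.FKS
open Cfsg.Agent.H884.El (PP exists_pp)

theorem no_fifteen {F : Type} [Field F] [Fintype F] (hF : Fintype.card F = 8) (x : PSp 2 F) : orderOf x ≠ 15 := by
  intro hx
  have hp2 : Fact (Nat.Prime 2) := ⟨Nat.prime_two⟩
  have hchar : CharP F 2 := by
    obtain ⟨p, hp⟩ := CharP.exists F
    have hpp : p.Prime := CharP.char_is_prime F p
    obtain ⟨n, -, hn⟩ := FiniteField.card F p
    rw [hF] at hn
    have h1 : p ∣ 2 ^ 3 := by
      rw [show (2 : ℕ) ^ 3 = 8 by norm_num, hn]; exact dvd_pow_self p n.ne_zero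
    have h2 := (Nat.prime_dvd_prime_iff_eq hpp Nat.prime_two).1 (hpp.dvd_of_dvd_pow h1)
    rwa [h2] at hp
  have hcard : Nat.card (PSp 2 F) = 1056706560 := by
    have h1 := psp_eq (F := F) (m := 2) le_rfl
    rw [hF] at h1
    have h2 : fPSp.den 2 8 = 1 := by decide
    have h3 : fPSp.num 2 8 = 1056706560 := by decide +kernel
    rw [h2, h3, one_mul] at h1
    exact h1
  have ho3 : orderOf ((Fintype.card F : ℕ) : ZMod 3) = 2 := by
    rw [hF]
    exact orderOf_eq_prime (by decide) (by decide)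
  have ho5 : orderOf ((Fintype.card F : ℕ) : ZMod 5) = 4 := by
    rw [hF, show (4 : ℕ) = 2 ^ (1 + 1) by norm_num]
    exact orderOf_eq_prime_pow (by decide) (by decide)
  have h := (Cfsg.Agent.S2469.result (F := F) 2 2 le_rfl (fun _ => by rw [hF]; norm_num) 3 5 (by norm_num) (by norm_num)
    (by norm_num) (by norm_num) (by norm_num) (by norm_num) (by norm_num) (by rw [hcard]; norm_num)
    (by rw [hcard]; norm_num) 2 4 1 2 ho3.symm ho5.symm (Or.inr ⟨by decide, by norm_num⟩)
    (Or.inr ⟨by decide, by norm_num⟩) (by norm_num)).2 ⟨by norm_num, ?_⟩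
  · exact h ⟨x, hx⟩
  · rintro ⟨t, ht, h⟩
    have : t = 2 := by omega
    subst this
    exact absurd ht (by decide)

/-- the residual maximal subgroups miss a prime -/
theorem miss_of_res {F : Type} [Field F] [Fintype F] (heven : ¬ Odd (Fintype.card F)) (h4 : 4 ≤ Fintype.card F)
    {M : Subgroup (PSp 2 F)} (hM : IsCoatom M) (h : InSymplecticResidualClass (pre M)) : H884.El.Miss M := by
  obtain ⟨P, m, hP, hm, hF, ⟨e⟩⟩ := S5791.result heven h4 (pre M) (isMaximalIn_pre hM) h
  obtain ⟨S, h1, h2, h3, h4', ⟨e'⟩⟩ := exists_socle (spToGL 2 F) spToGL_injective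
    (QuotientGroup.mk' (Subgroup.center (Matrix.symplecticGroup (Fin 2) F))) (QuotientGroup.mk'_surjective _)
    hker_sp (M := M) hP
  have hp2 : Nat.Prime 2 := Nat.prime_two
  have hcS : Nat.card S = (2 ^ (2 * m + 1)) ^ 2 * (2 ^ (2 * m + 1) - 1) * ((2 ^ (2 * m + 1)) ^ 2 + 1) := by
    rw [Nat.card_congr (e'.trans e).toEquiv, (S1163.result hm hF).1]
  have hO : Nat.card (Cfsg.Out S) = 2 * m + 1 := by
    rw [H934.OutB.card_out_congr (e'.trans e)]
    exact S2126.result hm hF
  have hMd : Nat.card M ∣ (2 * m + 1) *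
      ((2 ^ (2 * m + 1)) ^ 2 * (2 ^ (2 * m + 1) - 1) * ((2 ^ (2 * m + 1)) ^ 2 + 1)) := by
    have h5 := dvd_aut S h4'
    rwa [← H934.OutB.card_out_mul S h3, hO, hcS] at h5
  set q := 2 ^ (2 * m + 1) with hq
  have hq8 : 2 ^ 3 ≤ q := Nat.pow_le_pow_right (by norm_num) (by omega)
  have hT := named_psp F (n := 2) le_rfl (fun _ => by omega)
  rw [hF] at hT
  have hnS : ∀ r : ℕ, Prim q 2 r → ¬ r ∣ q ^ 2 * (q - 1) * (q ^ 2 + 1) := by
    intro r hr h5
    have h9 := lt_of_prim hr
    rcases hr.prime.dvd_mul.1 h5 with h6 | h6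
    · rcases hr.prime.dvd_mul.1 h6 with h7 | h7
      · exact hr.not_dvd (hr.prime.dvd_of_dvd_pow h7)
      · have h8 := (hr.dvd_iff 1).1 (by rwa [pow_one])
        omega
    · have h8 := Nat.dvd_sub h6 ((hr.dvd_iff 2).2 dvd_rfl)
      have : q ≤ q ^ 2 := Nat.le_self_pow (by norm_num) _
      rw [show q ^ 2 + 1 - (q ^ 2 - 1) = 2 by omega] at h8
      have := Nat.le_of_dvd (by norm_num) h8
      omega
  have hrT : ∀ r : ℕ, Prim q 2 r → r ∣ Nat.card (PSp 2 F) := by
    intro r hr
    have h9 := lt_of_prim hr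
    refine IsNamed.dvd hT hr.prime ((dvd_prB hr (k := 1) (by norm_num) le_rfl (by norm_num)).mul_left _) fun h6 => ?_
    have h7 : r ∣ Nat.gcd 2 (q - 1) := h6
    have := Nat.le_of_dvd (by norm_num) (h7.trans (Nat.gcd_dvd_left _ _))
    omega
  by_cases hm1 : m = 1
  · subst hm1
    have h38 : Prim q 2 3 := prim_eight_two
    refine ⟨3, Nat.prime_three, hrT 3 h38, fun h3M => ?_⟩
    have hcS' : Nat.card S = 29120 := by rw [hcS, hq]; norm_num
    have h5 := S.card_mul_index
    have h6 : 3 ∣ S.index := by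
      rw [← h5] at h3M
      refine (Nat.prime_three.dvd_mul.1 h3M).resolve_left ?_
      rw [hcS']
      norm_num
    obtain ⟨x, hx⟩ := exists_fifteen S (by rw [hcS']; norm_num) (by rw [hcS']; norm_num) h6
    exact no_fifteen (F := F) (by rw [hF, hq]; norm_num) (x : PSp 2 F) (by rw [Subgroup.orderOf_coe, hx])
  · obtain ⟨r, hr⟩ := exists_prim (q := 2) (e := (2 * m + 1) * 2) le_rfl (by omega) (by omega)
    have hr2 : Prim q 2 r := prim_pow (by omega) hr
    have hlt := lt_of_prim hr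
    refine ⟨r, hr.prime, hrT r hr2, fun h5 => ?_⟩
    rcases hr.prime.dvd_mul.1 (h5.trans hMd) with h6 | h6
    · have := Nat.le_of_dvd (by omega) h6
      omega
    · exact hnS r hr2 h6

/-- **`PSp_4(q)`, `q ≥ 4` even**, up to automorphisms. -/
theorem der_psp_four {F : Type} [Field F] [Fintype F] (heven : ¬ Odd (Fintype.card F)) (h4 : 4 ≤ Fintype.card F)
    (R : Subgroup (PSp 2 F)) (hR : R ≠ ⊤) : H396.Der (PSp 2 F) R := by
  by_cases hmiss : H884.El.Miss R
  · obtain ⟨r, hr, h1, h2⟩ := hmiss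
    exact H396.der_of_prime hr h1 h2
  obtain ⟨r, A, hr, h5, h2, hA, hA1, hQ⟩ := exists_regular (F := F) heven h4
  have hmk1 : (QuotientGroup.mk (el A) : PSp 2 F) ≠ 1 := by
    intro h1
    have h3 : el A ∈ Subgroup.center (Matrix.symplecticGroup (Fin 2) F) := (QuotientGroup.eq_one_iff _).1 h1
    obtain ⟨c, hc⟩ := (LieClassical.SympCenter.mem_center_iff 2 (el A)).1 h3
    -- a scalar symplectic matrix in characteristic two is trivial
    rw [el_coe] at hc
    have e1 := congrFun (congrFun hc (Sum.inl 0)) (Sum.inl 0)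
    have e2 := congrFun (congrFun hc (Sum.inl 0)) (Sum.inr 0)
    have e3 := congrFun (congrFun hc (Sum.inr 0)) (Sum.inl 0)
    have e4 := congrFun (congrFun hc (Sum.inr 0)) (Sum.inr 0)
    simp [tm] at e1 e2 e3 e4
    apply tr_ne_zero h2 hr h5 hA hA1
    rw [e1, e4]
    linear_combination c * h2
  have hpow : (QuotientGroup.mk (el A) : PSp 2 F) ^ r = 1 := by
    rw [← QuotientGroup.mk_pow, el_pow hA]
    rfl
  refine ⟨(QuotientGroup.mk (el A) : PSp 2 F), ?_, fun φ hφ => ?_⟩
  · rcases (Nat.dvd_prime hr).1 (orderOf_dvd_of_pow_eq_one hpow) with h3 | h3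
    · exact absurd (orderOf_eq_one_iff.1 h3) hmk1
    · rw [h3]
      exact hr
  -- the inverse image of `R`
  let R' : Subgroup (PSp 2 F) := R.comap φ.toMonoidHom
  have hcR : Nat.card R' = Nat.card R := by
    have h1 : R'.map φ.toMonoidHom = R := Subgroup.map_comap_eq_self_of_surjective φ.surjective R
    rw [← h1, Subgroup.card_map_of_injective φ.injective]
  have hR' : R' ≠ ⊤ := by
    intro h
    apply hR
    have h1 : R'.map φ.toMonoidHom = R := Subgroup.map_comap_eq_self_of_surjective φ.surjective R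
    rw [← h1, h]
    exact Subgroup.map_top_of_surjective _ φ.surjective
  obtain ⟨M, hM, hRM⟩ := (eq_top_or_exists_le_coatom R').resolve_left hR'
  have hxM : (QuotientGroup.mk (el A) : PSp 2 F) ∈ M := hRM hφ
  have hMm : ¬ H884.El.Miss M := by
    rintro ⟨s, hs, h1, h3⟩
    refine hmiss ⟨s, hs, h1, fun h6 => h3 ?_⟩
    rw [← hcR] at h6
    exact h6.trans (Subgroup.card_dvd_of_le hRM)
  have hxp : spToGL 2 F (el A) ∈ pre M := mem_pre.2 hxM
  rcases psp_miss (m := 2) (F := F) le_rfl (by omega) (by omega) (by omega) hM.1 with h | h | h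
  · exact hMm h
  · exact hMm (miss_of_res heven h4 hM h)
  · rcases h with ⟨-, -, Q, hnd, hpol, hle⟩ | ⟨-, K, hK, hs, hle⟩
    · -- a quadratic form
      have hPQ := hQ Q hnd hpol (hle hxp)
      obtain ⟨t, ht⟩ : ∃ t, Od (Fintype.card F) 4 t := by
        obtain ⟨t, ht⟩ := exists_pp (q := Nat.card F) (e := 4) (by rw [Nat.card_eq_fintype_card]; omega) (by norm_num)
          (by rintro ⟨-, h⟩; omega)
        exact ⟨t, od_of_pp ht (by norm_num)⟩
      refine no_plus ht hnd hPQ hle ?_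
      have ht2 : t ≠ 2 := by
        rintro rfl
        have := ht.lt
        omega
      have hdT : t ∣ Nat.card (PSp 2 F) := dvd_card_PSp (by norm_num) ht.prime ht2
        (dvd_card_spGL (by norm_num) ht dvd_rfl (by norm_num) le_rfl)
      have hdM : t ∣ Nat.card M := by
        by_contra hcon
        exact hMm ⟨t, ht.prime, hdT, hcon⟩
      exact hdM.trans (card_pre_eq M)
    · exact not_mem_field h2 hr h5 hA hA1 hK hs (hle hxp)

end Cfsg.Agent.H262.ElFour
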