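import Mathlib
import Cfsg.Agent.H436.Names

/-!
# TEAM ELUSIVE: `G₂(4)` is not a subgroup of `PΩ₈⁺(3)`

The index would be a power of `3`: Guralnick's theorem on subgroups of prime power index.
-/

set_option autoImplicit false

namespace Cfsg.Agent.H262.ElSurv

open Cfsg Cfsg.Agent.OrdDiv Cfsg.Agent.H436

/-- the conclusion of Guralnick's theorem (`S3608`) -/
def GurConcl (G : Type*) [Group G] (p k : ℕ) : Prop :=
  (5 ≤ p ^ k ∧ Nonempty (G ≃* alternatingGroup (Fin (p ^ k)))) ∨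
    (∃ (d : ℕ) (F : Type) (_ : Field F) (_ : Fintype F), 2 ≤ d ∧
      Fintype.card F ^ d - 1 = p ^ k * (Fintype.card F - 1) ∧
      Nonempty (G ≃* Matrix.ProjectiveSpecialLinearGroup (Fin d) F)) ∨
    (p ^ k = 11 ∧ (Nonempty (G ≃* Matrix.ProjectiveSpecialLinearGroup (Fin 2) (ZMod 11)) ∨ Cfsg.IsM11 G)) ∨
    (p ^ k = 23 ∧ Cfsg.IsM23 G) ∨
    (p ^ k = 27 ∧ Nonempty (G ≃* Cfsg.PSp 2 (ZMod 3)))

theorem ord_oplus : ordN (.oplus 4 3) = 4952179814400 := by decide +kernel

theorem ord_g2 : ordN (.g2 4) = 251596800 := by decide +kernel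

theorem card_alt {n : ℕ} (hn : 5 ≤ n) : 2 * Nat.card ↥(alternatingGroup (Fin n)) = n.factorial := by
  have : Nontrivial (Fin n) := Fin.nontrivial_iff_two_le.2 (by omega)
  rw [nat_card_alternatingGroup, Nat.card_fin]
  have : 2 ∣ n.factorial := Nat.dvd_factorial (by norm_num) (by omega)
  omega

/-- the test for `PSL_d(q)`, `d ≥ 3` -/
theorem test : ∀ q ∈ Finset.range 141, 2 ≤ q → ∀ d ∈ Finset.range 16, 3 ≤ d → ∀ k ∈ Finset.range 10, 1 ≤ k →
    ¬ q ^ d - 1 = 3 ^ k * (q - 1) := by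
  decide +kernel

theorem test2 : ∀ k ∈ Finset.range 10, 1 ≤ k → ¬ Nat.gcd 2 (3 ^ k - 1 - 1) * (3 ^ k - 1 - 1) * 4952179814400 =
    glN 2 (3 ^ k - 1) := by
  decide +kernel

theorem gur_kill {T : Type*} [Group T] [Finite T] (hT : Nat.card T = 4952179814400) {k : ℕ} (hk : 1 ≤ k)
    (hk9 : k ≤ 9) (h : GurConcl T 3 k) : False := by
  rcases h with ⟨h5, ⟨e⟩⟩ | ⟨d, F, _, _, hd, hq, ⟨e⟩⟩ | ⟨h, -⟩ | ⟨h, -⟩ | ⟨h, ⟨e⟩⟩
  · have h1 := card_alt h5
    rw [← Nat.card_congr e.toEquiv, hT] at h1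
    have hk2 : 2 ≤ k := by
      by_contra hcon
      have : k = 1 := by omega
      subst this
      norm_num at h5
    rcases Nat.eq_or_lt_of_le hk2 with h2 | h2
    · rw [← h2] at h1
      revert h1
      decide +kernel
    · have h3 : 27 ≤ 3 ^ k := by
        calc 27 = 3 ^ 3 := by norm_num
          _ ≤ 3 ^ k := Nat.pow_le_pow_right (by norm_num) h2
      have h4 := Nat.factorial_le h3
      rw [← h1] at h4
      revert h4
      decide +kernel
  · have hq2 : 2 ≤ Fintype.card F := Fintype.one_lt_card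
    obtain ⟨q, hqd⟩ : ∃ q, q = Fintype.card F := ⟨_, rfl⟩
    have h1 := psl_eq (F := F) hd
    rw [← Nat.card_congr e.toEquiv, hT] at h1
    rw [← hqd] at hq hq2 h1
    rcases Nat.eq_or_lt_of_le hd with hd2 | hd3
    · subst hd2
      have h2 : q ^ 2 - 1 = (q + 1) * (q - 1) := by
        have := Nat.sq_sub_sq q 1
        rwa [one_pow] at this
      rw [h2] at hq
      have h3 : q + 1 = 3 ^ k := Nat.eq_of_mul_eq_mul_right (by omega) hq
      have h4 : q = 3 ^ k - 1 := by omega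
      rw [h4] at h1
      exact test2 k (Finset.mem_range.2 (by omega)) hk h1
    · -- `q ^ (d - 1) ≤ 3 ^ 9`
      have h2 : q ^ (d - 1) * (q - 1) ≤ 3 ^ 9 * (q - 1) := by
        calc q ^ (d - 1) * (q - 1) = q ^ (d - 1) * q - q ^ (d - 1) := by rw [Nat.mul_sub, mul_one]
          _ = q ^ d - q ^ (d - 1) := by rw [← pow_succ, Nat.sub_add_cancel (by omega)]
          _ ≤ q ^ d - 1 := Nat.sub_le_sub_left (Nat.one_le_pow _ _ (by omega)) _
          _ = 3 ^ k * (q - 1) := hq
          _ ≤ 3 ^ 9 * (q - 1) := Nat.mul_le_mul_right _ (Nat.pow_le_pow_right (by norm_num) hk9)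
      have h3 : q ^ (d - 1) ≤ 3 ^ 9 := Nat.le_of_mul_le_mul_right h2 (by omega)
      have h4 : q ≤ 140 := by
        by_contra hcon
        have h5 : 141 ^ 2 ≤ q ^ (d - 1) :=
          (Nat.pow_le_pow_left (by omega) 2).trans (Nat.pow_le_pow_right (by omega) (by omega))
        have := h5.trans h3
        norm_num at this
      have h5 : d ≤ 15 := by
        by_contra hcon
        have h5 : 2 ^ 15 ≤ q ^ (d - 1) :=
          (Nat.pow_le_pow_left hq2 15).trans (Nat.pow_le_pow_right (by omega) (by omega))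
        have := h5.trans h3
        norm_num at this
      exact test q (Finset.mem_range.2 (by omega)) hq2 d (Finset.mem_range.2 (by omega)) hd3 k
        (Finset.mem_range.2 (by omega)) hk hq
  · interval_cases k <;> revert h <;> decide
  · interval_cases k <;> revert h <;> decide
  · have := Fact.mk Nat.prime_three
    have h1 := psp_eq (F := ZMod 3) (m := 2) le_rfl
    rw [← Nat.card_congr e.toEquiv, hT, ZMod.card] at h1
    revert h1
    decide +kernel

/-- **`G₂(4)` is not in `PΩ₈⁺(3)`.** -/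
theorem no_g24' {T : Type*} [Group T] [Finite T] (hT : IsNamed (.oplus 4 3) T) {R : Subgroup T} (hR : R ≠ ⊤)
    (S : Subgroup R) (hS : IsNamed (.g2 4) S)
    (hG : ∀ k, 1 ≤ k → R.index = 3 ^ k → GurConcl T 3 k) : False := by
  have h1 : Nat.card T = 4952179814400 := by rw [hT.ord, ord_oplus]
  have h2 : 251596800 ∣ Nat.card R := by
    rw [← ord_g2, ← hS.ord]; exact S.card_subgroup_dvd_card
  obtain ⟨a, ha⟩ := h2
  have h3 : a * R.index = 3 ^ 9 := by
    have h4 := R.card_mul_index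
    rw [ha, h1] at h4
    have h5 : 251596800 * (a * R.index) = 251596800 * 3 ^ 9 := by rw [← mul_assoc, h4]; norm_num
    exact Nat.eq_of_mul_eq_mul_left (by norm_num) h5
  obtain ⟨k, hk9, hk⟩ := (Nat.dvd_prime_pow Nat.prime_three).1 (Dvd.intro_left _ h3)
  have hk1 : 1 ≤ k := by
    by_contra hcon
    have : k = 0 := by omega
    subst this
    rw [pow_zero, Subgroup.index_eq_one] at hk
    exact hR hk
  exact gur_kill h1 hk1 hk9 (hG k hk1 hk)

end Cfsg.Agent.H262.ElSurv
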