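import Cfsg.Agent.H262.ElG24
import Cfsg.Agent.S3608

/-!
# TEAM ELUSIVE: `G₂(4)` is not a subgroup of `PΩ₈⁺(3)` (final form, with `S3608`)
-/

set_option autoImplicit false

namespace Cfsg.Agent.H262.ElSurv

open Cfsg Cfsg.Agent.OrdDiv Cfsg.Agent.H436

/-- **`G₂(4)` is not in `PΩ₈⁺(3)`.** -/
theorem no_g24 {T : Type*} [Group T] [Finite T] (hs : IsSimpleGroup T) (hna : ¬ IsMulCommutative T)
    (hT : IsNamed (.oplus 4 3) T) {R : Subgroup T} (hR : R ≠ ⊤)
    (S : Subgroup R) (hS : IsNamed (.g2 4) S) : False :=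
  no_g24' hT hR S hS fun k hk h => Cfsg.Agent.S3608.result hs hna R 3 k Nat.prime_three hk h

end Cfsg.Agent.H262.ElSurv
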