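import Cfsg.Agent.H262.ElFix
import Cfsg.Agent.H883.Bridge
import Cfsg.Agent.H954.TSing4
import Cfsg.Agent.H931.SpProper
import Cfsg.Agent.S2430

/-!
# TEAM ELUSIVE, symplectic row: the orthogonal subgroups in characteristic two
-/

set_option autoImplicit false

namespace Cfsg.Agent.H262.El

open Cfsg Cfsg.Geo Module
open scoped Matrix MatrixGroups

variable {ι : Type} [Fintype ι] [DecidableEq ι] {F : Type*} [Field F]

/-- number of singular vectors modulo `r` for a similarity of order `r` without fixed vectors -/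
theorem card_sing_modEq [Finite F] {r : ℕ} (hr : r.Prime) {Q : (ι → F) → F} {x : GL ι F}
    (hxQ : x ∈ quadSimilarityGroup Q) (hQ0 : Q 0 = 0) (hxr : x ^ r = 1)
    (hfix : ∀ v, (x : Matrix ι ι F) *ᵥ v = v → v = 0) : Nat.card {v : ι → F // Q v = 0} ≡ 1 [MOD r] := by
  classical
  have := Fact.mk hr
  have : Fintype F := Fintype.ofFinite F
  have : Fintype {v : ι → F // Q v = 0} := Fintype.ofFinite _
  obtain ⟨c, hc⟩ := hxQ
  let g : Function.End {v : ι → F // Q v = 0} := fun v =>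
    ⟨(x : Matrix ι ι F) *ᵥ v.1, by rw [hc, v.2, mul_zero]⟩
  have hg : g ^ r ^ 1 = 1 := by
    have h1 : ∀ k : ℕ, ∀ w, ((g ^ k) w : {v : ι → F // Q v = 0}).1 =
        ((x ^ k : GL ι F) : Matrix ι ι F) *ᵥ w.1 := by
      intro k
      induction k with
      | zero =>
        intro w
        rw [pow_zero, pow_zero, Units.val_one, Matrix.one_mulVec]
        rfl
      | succ k ih =>
        intro w
        rw [pow_succ, pow_mulVec]
        exact ih (g w)
    funext w
    apply Subtype.ext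
    rw [pow_one, h1, hxr, Units.val_one, Matrix.one_mulVec]
    rfl
  have hmod := Equiv.Perm.card_fixedPoints_modEq (f := g) (p := r) (n := 1) hg
  have h2 : Fintype.card g.fixedPoints = 1 := by
    rw [Fintype.card_eq_one_iff]
    refine ⟨⟨⟨0, hQ0⟩, ?_⟩, ?_⟩
    · apply Subtype.ext
      exact Matrix.mulVec_zero _
    · rintro ⟨⟨v, hv⟩, hv'⟩
      apply Subtype.ext
      apply Subtype.ext
      apply hfix
      exact congrArg Subtype.val hv'
  rw [h2] at hmod
  rw [Nat.card_eq_fintype_card]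
  exact hmod

/-- the two possible numbers of singular vectors, modulo `r` -/
theorem quad_dichotomy [Fintype F] {m r : ℕ} (hm : 1 ≤ m) (hι : Fintype.card ι = 2 * m) (hr : r.Prime)
    {Q : (ι → F) → F} (hQ : IsNondegenerateQuadraticForm Q) {x : GL ι F}
    (hxQ : x ∈ quadSimilarityGroup Q) (hxr : x ^ r = 1)
    (hfix : ∀ v, (x : Matrix ι ι F) *ᵥ v = v → v = 0) :
    ((∃ Q' : QuadraticForm F (ι → F), ⇑Q' = Q ∧ Cfsg.Agent.H955.IsPlus Q') ∧
      ((Fintype.card F : ZMod r) ^ m - 1) * ((Fintype.card F : ZMod r) ^ (m - 1) + 1) = 0) ∨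
    ((∃ Q' : QuadraticForm F (ι → F), ⇑Q' = Q ∧ ¬ Cfsg.Agent.H955.IsPlus Q') ∧
      ((Fintype.card F : ZMod r) ^ m + 1) * ((Fintype.card F : ZMod r) ^ (m - 1) - 1) = 0) := by
  obtain ⟨Q', hQ', hnd⟩ := Cfsg.Agent.H883.Bridge.exists_quadraticForm hQ
  have hQ0 : Q 0 = 0 := by rw [← hQ', QuadraticMap.map_zero]
  have h1 := card_sing_modEq hr hxQ hQ0 hxr hfix
  have hd : finrank F (ι → F) = 2 * m := by rw [Module.finrank_fintype_fun_eq_card, hι]
  have hle : Fintype.card F ^ (m - 1) ≤ Fintype.card F ^ m :=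
    Nat.pow_le_pow_right Fintype.card_pos (by omega)
  have hle2 : Fintype.card F ^ m ≤ Fintype.card F ^ (2 * m - 1) :=
    Nat.pow_le_pow_right Fintype.card_pos (by omega)
  have hsp : (Fintype.card F : ZMod r) ^ (2 * m - 1) =
      (Fintype.card F : ZMod r) ^ m * (Fintype.card F : ZMod r) ^ (m - 1) := by
    rw [← pow_add]
    congr 1
    omega
  by_cases hP : Cfsg.Agent.H955.IsPlus Q'
  · left
    refine ⟨⟨Q', hQ', hP⟩, ?_⟩
    have h2 := Cfsg.Agent.H954.TSing.card_sing_plus hnd hm hd hP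
    rw [← hQ'] at h1
    have h3 : (Nat.card {v : ι → F // Q' v = 0} : ZMod r) = 1 := by
      have := (ZMod.natCast_eq_natCast_iff _ _ _).2 h1
      rw [Nat.cast_one] at this
      exact this
    rw [h2, Nat.cast_sub (by omega), Nat.cast_add] at h3
    push_cast at h3
    rw [hsp] at h3
    linear_combination h3
  · right
    refine ⟨⟨Q', hQ', hP⟩, ?_⟩
    have h2 := Cfsg.Agent.H954.TSing.card_sing_minus hnd hm hd hP
    rw [← hQ'] at h1
    have h3 : (Nat.card {v : ι → F // Q' v = 0} : ZMod r) = 1 := by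
      have := (ZMod.natCast_eq_natCast_iff _ _ _).2 h1
      rw [Nat.cast_one] at this
      exact this
    rw [h2, Nat.cast_sub (by omega), Nat.cast_add] at h3
    push_cast at h3
    rw [hsp] at h3
    linear_combination h3

/-! ### An element of order `r ∣ q + 1` without fixed vectors -/

/-- `m` copies of a matrix in `SL₂` -/
def sl (m : ℕ) (A : Matrix (Fin 2) (Fin 2) F) : Matrix (Fin m ⊕ Fin m) (Fin m ⊕ Fin m) F :=
  Matrix.fromBlocks (A 0 0 • 1) (A 0 1 • 1) (A 1 0 • 1) (A 1 1 • 1)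

theorem sl_mul (m : ℕ) (A B : Matrix (Fin 2) (Fin 2) F) : sl m (A * B) = sl m A * sl m B := by
  simp only [sl, Matrix.fromBlocks_multiply, Matrix.mul_apply, Fin.sum_univ_two, add_smul,
    Matrix.smul_mul, Matrix.one_mul, smul_smul]

theorem sl_one (m : ℕ) : sl m (1 : Matrix (Fin 2) (Fin 2) F) = 1 := by
  simp [sl]

theorem sl_mem (m : ℕ) (A : Matrix.SpecialLinearGroup (Fin 2) F) :
    sl m (A : Matrix (Fin 2) (Fin 2) F) ∈ Matrix.symplecticGroup (Fin m) F := by
  have h := A.2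
  rw [Matrix.det_fin_two] at h
  rw [sl, SymplecticGroup.fromBlocks_mem_iff]
  refine ⟨?_, ?_, ?_⟩
  · simp [smul_smul, mul_comm]
  · simp [smul_smul, mul_comm]
  · simp only [Matrix.transpose_smul, Matrix.transpose_one, Matrix.smul_mul, Matrix.one_mul, smul_smul,
      ← sub_smul]
    rw [show A.1 0 0 * A.1 1 1 - A.1 1 0 * A.1 0 1 = 1 by linear_combination h, one_smul]

/-- the homomorphism from `SL₂` -/
noncomputable def slHom (m : ℕ) : Matrix.SpecialLinearGroup (Fin 2) F →* Matrix.symplecticGroup (Fin m) F where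
  toFun A := ⟨sl m (A : Matrix (Fin 2) (Fin 2) F), sl_mem m A⟩
  map_one' := Subtype.ext ((congrArg (sl m) Matrix.SpecialLinearGroup.coe_one).trans (sl_one m))
  map_mul' A B := Subtype.ext ((congrArg (sl m) (Matrix.SpecialLinearGroup.coe_mul A B)).trans (sl_mul m _ _))

theorem sub_one_eq (M : Matrix (Fin 2) (Fin 2) F) : M - 1 = !![M 0 0 - 1, M 0 1; M 1 0, M 1 1 - 1] := by
  conv_lhs => rw [Matrix.eta_fin_two M, Matrix.one_fin_two]
  simp

theorem sub_one_sq {M : Matrix (Fin 2) (Fin 2) F} (htr : M 0 0 + M 1 1 = 2)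
    (h : M 0 0 * M 1 1 - M 0 1 * M 1 0 = 1) : (M - 1) * (M - 1) = 0 := by
  rw [sub_one_eq, Matrix.mul_fin_two]
  have e1 : (M 0 0 - 1) * (M 0 0 - 1) + M 0 1 * M 1 0 = 0 := by linear_combination (M 0 0) * htr - h
  have e2 : (M 0 0 - 1) * M 0 1 + M 0 1 * (M 1 1 - 1) = 0 := by linear_combination (M 0 1) * htr
  have e3 : M 1 0 * (M 0 0 - 1) + (M 1 1 - 1) * M 1 0 = 0 := by linear_combination (M 1 0) * htr
  have e4 : M 1 0 * M 0 1 + (M 1 1 - 1) * (M 1 1 - 1) = 0 := by linear_combination (M 1 1) * htr - h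
  rw [e1, e2, e3, e4]
  ext i j
  fin_cases i <;> fin_cases j <;> rfl

/-- an element of `SL₂(q)` of odd order prime to the characteristic has no fixed vectors -/
theorem sl2_no_fix {r : ℕ} {M : Matrix (Fin 2) (Fin 2) F} (hdet : M.det = 1) (hA : M ^ r = 1) (hA1 : M ≠ 1)
    (hr : (r : F) ≠ 0) : (M - 1).det ≠ 0 := by
  intro h0
  rw [Matrix.det_fin_two] at hdet
  rw [sub_one_eq, Matrix.det_fin_two_of] at h0
  have htr : M 0 0 + M 1 1 = 2 := by linear_combination hdet - h0
  have hsq := sub_one_sq htr hdet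
  have hpow : ∀ k : ℕ, M ^ k = 1 + (k : F) • (M - 1) := by
    intro k
    induction k with
    | zero => simp
    | succ k ih =>
      have h1 : M = 1 + (M - 1) := by abel
      calc M ^ (k + 1) = M ^ k * M := pow_succ _ _
        _ = (1 + (k : F) • (M - 1)) * (1 + (M - 1)) := by rw [ih, ← h1]
        _ = 1 + ((k + 1 : ℕ) : F) • (M - 1) := by
          rw [add_mul, one_mul, mul_add, mul_one, Matrix.smul_mul, hsq, smul_zero, add_zero]
          push_cast
          rw [add_smul, one_smul]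
          abel
  have h1 := hpow r
  rw [hA, left_eq_add] at h1
  rcases smul_eq_zero.1 h1 with h2 | h2
  · exact hr h2
  · exact hA1 (sub_eq_zero.1 h2)

/-- **An element of order `r` without fixed vectors in `Sp_2m(q)`, `r ∣ q + 1`.** -/
theorem exists_no_fix [Fintype F] {m r : ℕ} (hr : r.Prime) (hrF : (r : F) ≠ 0) (hd : r ∣ Fintype.card F + 1) :
    ∃ x ∈ spGL m F, x ^ r = 1 ∧ ∀ v, (x : Matrix (Fin m ⊕ Fin m) (Fin m ⊕ Fin m) F) *ᵥ v = v → v = 0 := by
  have := Fact.mk hr
  have hcard := Cfsg.Agent.S2430.card_SL (F := F)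
  obtain ⟨A, hA⟩ := exists_prime_orderOf_dvd_card' (G := Matrix.SpecialLinearGroup (Fin 2) F) r
    (hcard ▸ Dvd.dvd.mul_left hd _)
  have hAr : A ^ r = 1 := by rw [← hA, pow_orderOf_eq_one]
  have hA1 : A ≠ 1 := by
    rintro rfl
    rw [orderOf_one] at hA
    exact hr.one_lt.ne hA
  refine ⟨Cfsg.Agent.H876.spToGL m F (slHom m A), Cfsg.Agent.H931.spToGL_mem _, ?_, ?_⟩
  · rw [← map_pow, ← map_pow, hAr, map_one, map_one]
  · intro v hv
    have hv' : sl m (A : Matrix (Fin 2) (Fin 2) F) *ᵥ v = v := hv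
    have hdet := sl2_no_fix (M := (A : Matrix (Fin 2) (Fin 2) F)) A.2
      (by rw [← Matrix.SpecialLinearGroup.coe_pow, hAr, Matrix.SpecialLinearGroup.coe_one])
      (fun h => hA1 (Subtype.ext (h.trans Matrix.SpecialLinearGroup.coe_one.symm))) hrF
    have key : ∀ i, ((A : Matrix (Fin 2) (Fin 2) F) - 1) *ᵥ ![v (Sum.inl i), v (Sum.inr i)] = 0 := by
      intro i
      have h1 := congrFun hv' (Sum.inl i)
      have h2 := congrFun hv' (Sum.inr i)
      rw [sl, Matrix.fromBlocks_mulVec] at h1 h2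
      simp only [Sum.elim_inl, Sum.elim_inr, Pi.add_apply, Matrix.smul_mulVec, Matrix.one_mulVec, Pi.smul_apply,
        Function.comp_apply, smul_eq_mul] at h1 h2
      have e1 : ((A : Matrix (Fin 2) (Fin 2) F) 0 0 - 1) * v (Sum.inl i) +
          (A : Matrix (Fin 2) (Fin 2) F) 0 1 * v (Sum.inr i) = 0 := by linear_combination h1
      have e2 : (A : Matrix (Fin 2) (Fin 2) F) 1 0 * v (Sum.inl i) +
          ((A : Matrix (Fin 2) (Fin 2) F) 1 1 - 1) * v (Sum.inr i) = 0 := by linear_combination h2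
      rw [sub_one_eq]
      funext j
      fin_cases j
      · simpa [Matrix.mulVec, dotProduct, Fin.sum_univ_two] using e1
      · simpa [Matrix.mulVec, dotProduct, Fin.sum_univ_two] using e2
    funext k
    have h0 : ∀ i, ![v (Sum.inl i), v (Sum.inr i)] = 0 := fun i =>
      Matrix.eq_zero_of_mulVec_eq_zero hdet (key i)
    rcases k with i | i
    · exact congrFun (h0 i) 0
    · exact congrFun (h0 i) 1

end Cfsg.Agent.H262.El
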