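import Cfsg.Agent.H262.ElOrd
import Cfsg.Agent.H262.ElQuad
import Cfsg.Agent.H262.ElTransv
import Cfsg.Agent.H931.SpWrap
import Cfsg.Agent.H955.Sp

/-!
# TEAM ELUSIVE, symplectic row: the geometric classes
-/

set_option autoImplicit false

namespace Cfsg.Agent.H262.El

open Cfsg Cfsg.Geo Module
open Cfsg.Agent.ClassicalGeometry.SympBasic Cfsg.Agent.H876 Cfsg.Agent.H931
open scoped Matrix MatrixGroups

variable {F : Type*} [Field F] {m : ℕ}

/-- some element of prime order of `Sp_2m(q)` has no conjugate in `H` -/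
def Kill (m : ℕ) (F : Type*) [Field F] (H : Subgroup (GL (Fin m ⊕ Fin m) F)) : Prop :=
  ∃ x ∈ spGL m F, ∃ r : ℕ, r.Prime ∧ x ^ r = 1 ∧ ∀ g ∈ spGL m F, g * x * g⁻¹ ∉ H

theorem Kill.mono {H K : Subgroup (GL (Fin m ⊕ Fin m) F)} (h : Kill m F K) (hHK : H ≤ K) : Kill m F H := by
  obtain ⟨x, hx, r, hr, hxr, h⟩ := h
  exact ⟨x, hx, r, hr, hxr, fun g hg hm => h g hg (hHK hm)⟩

theorem kill_of_prime [Finite F] {H : Subgroup (GL (Fin m ⊕ Fin m) F)} {r : ℕ} (hr : r.Prime)
    (hd : r ∣ Nat.card (spGL m F)) (h : ∀ y ∈ spGL m F, y ^ r = 1 → y ≠ 1 → y ∉ H) : Kill m F H := by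
  have := Fact.mk hr
  obtain ⟨x, hx⟩ := exists_prime_orderOf_dvd_card' (G := spGL m F) r hd
  have hxr : (x : GL (Fin m ⊕ Fin m) F) ^ r = 1 := by
    have h1 : x ^ r = 1 := by rw [← hx, pow_orderOf_eq_one]
    have h2 := congrArg Subtype.val h1
    simpa using h2
  have hx1 : (x : GL (Fin m ⊕ Fin m) F) ≠ 1 := by
    intro h1
    have : x = 1 := Subtype.ext h1
    rw [this, orderOf_one] at hx
    exact hr.one_lt.ne hx
  refine ⟨x, x.2, r, hr, hxr, fun g hg => h _ ((spGL m F).mul_mem ((spGL m F).mul_mem hg x.2)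
    ((spGL m F).inv_mem hg)) ?_ ?_⟩
  · rw [conj_pow, hxr, mul_one, mul_inv_cancel]
  · intro h1
    apply hx1
    have : g⁻¹ * (g * x * g⁻¹) * g = x := by group
    rw [← this, h1]
    group

theorem tGL_isTv {v : Fin m ⊕ Fin m → F} {c : F} (hv : v ≠ 0) (hc : c ≠ 0) : IsTv (tGL v c) := by
  obtain ⟨u, w, hu, hw, h⟩ := tGL_isRankOne hv hc
  refine ⟨u, w, hu, hw, ?_, h⟩
  have hx : ∀ x, (w ⬝ᵥ x) • u = (c * sympForm m F x v) • v := by
    intro x
    have h1 := tGL_mulVec v x c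
    rw [Cfsg.Agent.H918.IsRankOneElt.mulVec h] at h1
    exact add_left_cancel h1
  -- `u` is a multiple of `v`
  obtain ⟨x, hx0⟩ : ∃ x, sympForm m F x v ≠ 0 := by
    by_contra hcon
    push Not at hcon
    exact hv (eq_zero_of_forall_sympForm_left hcon)
  have h1 := hx x
  have h2 : w ⬝ᵥ x ≠ 0 := by
    intro h0
    rw [h0, zero_smul] at h1
    exact smul_ne_zero (mul_ne_zero hc hx0) hv h1.symm
  have h3 : u = ((w ⬝ᵥ x)⁻¹ * (c * sympForm m F x v)) • v := by
    rw [mul_smul, ← h1, smul_smul, inv_mul_cancel₀ h2, one_smul]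
  have h4 := hx u
  have h5 : sympForm m F u v = 0 := by
    rw [h3, sympForm_smul_left, sympForm_self, mul_zero]
  rw [h5, mul_zero, zero_smul] at h4
  exact (smul_eq_zero.1 h4).resolve_right hu

theorem kill_of_tv [Finite F] (hm : 1 ≤ m) {H : Subgroup (GL (Fin m ⊕ Fin m) F)}
    (h : ∀ y ∈ spGL m F, IsTv y → y ∉ H) : Kill m F H := by
  obtain ⟨p, hp⟩ := CharP.exists F
  have hpp : p.Prime := CharP.char_is_prime F p
  have hv0 : (Pi.single (Sum.inl ⟨0, by omega⟩) 1 : Fin m ⊕ Fin m → F) ≠ 0 := by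
    intro h0
    have := congrFun h0 (Sum.inl ⟨0, by omega⟩)
    simp at this
  have ht := tGL_isTv hv0 (one_ne_zero (α := F))
  refine ⟨_, tGL_mem _ _, p, hpp, ht.pow_char, fun g hg => h _ ((spGL m F).mul_mem ((spGL m F).mul_mem hg
    (tGL_mem _ _)) ((spGL m F).inv_mem hg)) (ht.conj g)⟩

theorem kill_of_noFix [Fintype F] {H : Subgroup (GL (Fin m ⊕ Fin m) F)} {r : ℕ} (hr : r.Prime)
    (hrF : (r : F) ≠ 0) (hd : r ∣ Fintype.card F + 1)
    (h : ∀ y ∈ spGL m F, y ^ r = 1 → (∀ v, (y : Matrix (Fin m ⊕ Fin m) (Fin m ⊕ Fin m) F) *ᵥ v = v → v = 0) →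
      y ∉ H) : Kill m F H := by
  obtain ⟨x, hx, hxr, hfix⟩ := exists_no_fix (m := m) hr hrF hd
  refine ⟨x, hx, r, hr, hxr, fun g hg => h _ ((spGL m F).mul_mem ((spGL m F).mul_mem hg hx)
    ((spGL m F).inv_mem hg)) ?_ ?_⟩
  · rw [conj_pow, hxr, mul_one, mul_inv_cancel]
  · intro v hv
    have h1 : ((g⁻¹ : GL (Fin m ⊕ Fin m) F) : Matrix (Fin m ⊕ Fin m) (Fin m ⊕ Fin m) F) *ᵥ v = 0 := by
      apply hfix
      rw [Matrix.mulVec_mulVec, ← Units.val_mul]
      have h2 : x * g⁻¹ = g⁻¹ * (g * x * g⁻¹) := by group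
      rw [h2, Units.val_mul, ← Matrix.mulVec_mulVec, hv]
    calc v = ((g : Matrix (Fin m ⊕ Fin m) (Fin m ⊕ Fin m) F) * ((g⁻¹ : GL (Fin m ⊕ Fin m) F) :
          Matrix (Fin m ⊕ Fin m) (Fin m ⊕ Fin m) F)) *ᵥ v := by
          rw [← Units.val_mul, mul_inv_cancel, Units.val_one, Matrix.one_mulVec]
      _ = 0 := by rw [← Matrix.mulVec_mulVec, h1, Matrix.mulVec_zero]

/-- the fixed space of an element of order prime to the characteristic is nondegenerate -/
theorem even_fixS {x : GL (Fin m ⊕ Fin m) F} (hx : x ∈ spGL m F) {r : ℕ} (hr : (r : F) ≠ 0) (hxr : x ^ r = 1) :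
    Even (finrank F (fixS x)) := by
  apply even_of_isNondegenerateOn (f := sympForm m F) Cfsg.Agent.H924.isSymplecticForm_sympForm
  intro w hw hw0
  have hfk : ∀ k : ℕ, ∀ u, sympForm m F (((x ^ k : GL (Fin m ⊕ Fin m) F) : Matrix (Fin m ⊕ Fin m) (Fin m ⊕ Fin m) F) *ᵥ u) w =
      sympForm m F u w := by
    intro k
    induction k with
    | zero => intro u; simp
    | succ k ih =>
      intro u
      rw [pow_mulVec, ih]
      conv_lhs => rw [← mem_fixS.1 hw]
      exact mem_spGL_iff.1 hx u w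
  obtain ⟨u, hu⟩ : ∃ u, sympForm m F u w ≠ 0 := by
    by_contra hcon
    push Not at hcon
    exact hw0 (eq_zero_of_forall_sympForm_left hcon)
  set s : Fin m ⊕ Fin m → F := ∑ k ∈ Finset.range r, ((x ^ k : GL (Fin m ⊕ Fin m) F) : Matrix (Fin m ⊕ Fin m) (Fin m ⊕ Fin m) F) *ᵥ u with hs
  have hsx : s ∈ fixS x := by
    rw [mem_fixS, hs, Matrix.mulVec_sum]
    have h1 : ∀ k : ℕ, (x : Matrix (Fin m ⊕ Fin m) (Fin m ⊕ Fin m) F) *ᵥ (((x ^ k : GL (Fin m ⊕ Fin m) F) :
        Matrix (Fin m ⊕ Fin m) (Fin m ⊕ Fin m) F) *ᵥ u) =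
        ((x ^ (k + 1) : GL (Fin m ⊕ Fin m) F) : Matrix (Fin m ⊕ Fin m) (Fin m ⊕ Fin m) F) *ᵥ u := by
      intro k
      rw [Matrix.mulVec_mulVec, ← Units.val_mul, pow_succ']
    simp only [h1]
    have h2 := Finset.sum_range_succ' (fun k => ((x ^ k : GL (Fin m ⊕ Fin m) F) : Matrix (Fin m ⊕ Fin m) (Fin m ⊕ Fin m) F) *ᵥ u) r
    have h3 := Finset.sum_range_succ (fun k => ((x ^ k : GL (Fin m ⊕ Fin m) F) : Matrix (Fin m ⊕ Fin m) (Fin m ⊕ Fin m) F) *ᵥ u) r
    rw [h3] at h2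
    simp only [hxr, pow_zero] at h2
    exact (add_right_cancel h2).symm
  have hsw : sympForm m F s w ≠ 0 := by
    have hsum : ∀ t : Finset ℕ, sympForm m F (∑ k ∈ t, ((x ^ k : GL (Fin m ⊕ Fin m) F) : Matrix (Fin m ⊕ Fin m) (Fin m ⊕ Fin m) F) *ᵥ u) w =
        ∑ k ∈ t, sympForm m F (((x ^ k : GL (Fin m ⊕ Fin m) F) : Matrix (Fin m ⊕ Fin m) (Fin m ⊕ Fin m) F) *ᵥ u) w := by
      intro t
      induction t using Finset.induction_on with
      | empty => simp
      | insert a t ha ih => rw [Finset.sum_insert ha, Finset.sum_insert ha, sympForm_add_left, ih]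
    rw [hs, hsum, Finset.sum_congr rfl fun k _ => hfk k u, Finset.sum_const, Finset.card_range, nsmul_eq_mul]
    exact mul_ne_zero hr hu
  refine ⟨⟨s, hsx, hsw⟩, ⟨s, hsx, ?_⟩⟩
  rw [sympForm_swap]
  exact neg_ne_zero.2 hsw

/-- for `m` odd an element of order `r` has no fixed vectors if `q` has order `m` modulo `r` -/
theorem noFix_of_odd [Fintype F] {r : ℕ} (hodd : Odd m) (hr : Od (Fintype.card F) m r)
    {x : GL (Fin m ⊕ Fin m) F} (hx : x ∈ spGL m F) (hxr : x ^ r = 1) (hx1 : x ≠ 1) (hrF : (r : F) ≠ 0) :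
    fixS x = ⊥ := by
  have h1 := finrank_fixS hr hxr
  have h2 := finrank_fixS_lt hx1
  have h3 := even_fixS hx hrF hxr
  rw [card_sum_fin] at h1 h2
  rw [← Submodule.finrank_eq_zero (R := F)]
  obtain ⟨c, hc⟩ := h1
  obtain ⟨d, hd⟩ := h3
  obtain ⟨e, he⟩ := hodd
  by_contra h0
  have hc1 : c = 1 := by
    have hc0 : c ≠ 0 := by
      rintro rfl
      omega
    have : c < 2 := by
      by_contra hcon
      have h5 : m * 2 ≤ m * c := Nat.mul_le_mul_left m (by omega)
      omega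
    omega
  subst hc1
  omega

theorem cast_ne_zero_of_od [Fintype F] {n r : ℕ} (h : Od (Fintype.card F) n r) : (r : F) ≠ 0 := by
  intro h0
  obtain ⟨p, hp⟩ := CharP.exists F
  have hpp : p.Prime := CharP.char_is_prime F p
  have h1 : p ∣ r := (CharP.cast_eq_zero_iff F p r).1 h0
  have h2 : p = r := (Nat.prime_dvd_prime_iff_eq hpp h.prime).1 h1
  apply h.ndvd
  obtain ⟨n, -, hn⟩ := FiniteField.card F p
  rw [hn, ← h2]
  exact dvd_pow_self p n.pos.ne'

/-- **Orthogonal groups in characteristic two.** -/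
theorem kill_quad [Fintype F] (hm : 2 ≤ m) (hF : ¬ Odd (Fintype.card F))
    {Q : (Fin m ⊕ Fin m → F) → F} (hQ : IsNondegenerateQuadraticForm Q)
    (hbig : (∃ r, Od (Fintype.card F) (2 * m) r) ∨ Odd m) : Kill m F (quadSimilarityGroup Q ⊓ spGL m F) := by
  have hev : Even (Fintype.card F) := Nat.not_odd_iff_even.1 hF
  have hι : Fintype.card (Fin m ⊕ Fin m) = 2 * m := card_sum_fin
  -- a prime divisor of `q + 1`
  obtain ⟨s, hs, hsd⟩ := Nat.exists_prime_and_dvd (n := Fintype.card F + 1) (by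
    have := Fintype.card_pos (α := F); omega)
  have hs2 : s ≠ 2 := by
    rintro rfl
    obtain ⟨a, ha⟩ := hev
    obtain ⟨b, hb⟩ := hsd
    omega
  have hchar : CharP F 2 := by
    obtain ⟨p, hp⟩ := CharP.exists F
    have hpp : p.Prime := CharP.char_is_prime F p
    obtain ⟨n, -, hn⟩ := FiniteField.card F p
    rw [hn] at hev
    have h2 : 2 ∣ p := Nat.prime_two.dvd_of_dvd_pow (even_iff_two_dvd.1 hev)
    have h3 : 2 = p := (Nat.prime_dvd_prime_iff_eq Nat.prime_two hpp).1 h2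
    rw [h3]
    exact hp
  have hsF : (s : F) ≠ 0 := by
    intro h0
    have h1 : 2 ∣ s := (CharP.cast_eq_zero_iff F 2 s).1 h0
    exact hs2 ((Nat.prime_dvd_prime_iff_eq Nat.prime_two hs).1 h1).symm
  have hs' := Fact.mk hs
  have hsq : (Fintype.card F : ZMod s) = -1 := by
    have h1 : ((Fintype.card F + 1 : ℕ) : ZMod s) = 0 := (ZMod.natCast_eq_zero_iff _ _).2 hsd
    push_cast at h1
    linear_combination h1
  have h2s : (2 : ZMod s) ≠ 0 := by
    intro h0
    have h1 : ((2 : ℕ) : ZMod s) = 0 := by exact_mod_cast h0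
    have h3 := (ZMod.natCast_eq_zero_iff 2 s).1 h1
    exact hs2 ((Nat.prime_dvd_prime_iff_eq hs Nat.prime_two).1 h3)
  have hplus : ∀ {Q₁ Q₂ : QuadraticForm F (Fin m ⊕ Fin m → F)}, ⇑Q₁ = Q → ⇑Q₂ = Q → Q₁ = Q₂ := by
    intro Q₁ Q₂ h1 h2
    exact DFunLike.coe_injective (h1.trans h2.symm)
  obtain ⟨Q', hQ', hnd⟩ := Cfsg.Agent.H883.Bridge.exists_quadraticForm hQ
  have hdvd : ∀ {n r : ℕ}, Od (Fintype.card F) n r → n ∣ 2 * m → r ∣ Nat.card (spGL m F) := by
    intro n r hr hn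
    rw [Cfsg.Agent.H955.card_spGL, Nat.card_eq_fintype_card]
    apply Dvd.dvd.mul_left
    refine dvd_trans ?_ (Finset.dvd_prod_of_mem _ (Finset.mem_range.2 (by omega : m - 1 < m)))
    rw [hr.dvd_iff Fintype.card_pos]
    rwa [show 2 * (m - 1 + 1) = 2 * m by omega]
  by_cases hP : Cfsg.Agent.H955.IsPlus Q'
  · -- plus type
    by_cases hmo : Odd m
    · -- an element of order `s` dividing `q + 1`
      apply kill_of_noFix hs hsF hsd
      rintro y hy hyr hfix ⟨hyQ, -⟩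
      rcases quad_dichotomy (m := m) (by omega) hι hs hQ hyQ hyr hfix with ⟨-, h1⟩ | ⟨⟨Q'', hQ'', hP'⟩, -⟩
      · rw [hsq, hmo.neg_one_pow, (Nat.Odd.sub_odd hmo odd_one).neg_one_pow] at h1
        have h3 : (2 : ZMod s) * 2 = 0 := by linear_combination -h1
        rcases mul_eq_zero.1 h3 with h4 | h4 <;> exact h2s h4
      · exact hP' (hplus hQ'' hQ' ▸ hP)
    · obtain ⟨r, hr⟩ := hbig.resolve_right hmo
      have := Fact.mk hr.prime
      apply kill_of_prime hr.prime (hdvd hr dvd_rfl)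
      rintro y hy hyr hy1 ⟨hyQ, -⟩
      have hfix : ∀ v, (y : Matrix (Fin m ⊕ Fin m) (Fin m ⊕ Fin m) F) *ᵥ v = v → v = 0 := by
        intro v hv
        have h1 : fixS y = ⊥ := by
          rcases irr_of_od (by rw [hι]; exact hr) hyr hy1 (fixS y) (fun v hv => by
            rw [mem_fixS.1 hv]; exact hv) with h | h
          · exact h
          · exact absurd (fixS_eq_top h) hy1
        have h2 : v ∈ fixS y := mem_fixS.2 hv
        rwa [h1, Submodule.mem_bot] at h2
      rcases quad_dichotomy (m := m) (by omega) hι hr.prime hQ hyQ hyr hfix with ⟨-, h1⟩ | ⟨⟨Q'', hQ'', hP'⟩, -⟩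
      · rcases mul_eq_zero.1 h1 with h2 | h2
        · have h3 : 2 * m ∣ m := by
            rw [← hr.ord]
            exact orderOf_dvd_of_pow_eq_one (sub_eq_zero.1 h2)
          have := Nat.le_of_dvd (by omega) h3
          omega
        · have h3 : 2 * m ∣ 2 * (m - 1) := by
            rw [← hr.ord]
            apply orderOf_dvd_of_pow_eq_one
            have h4 : (Fintype.card F : ZMod r) ^ (m - 1) = -1 := by linear_combination h2
            rw [mul_comm, pow_mul, h4]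
            ring
          have := Nat.le_of_dvd (by omega) h3
          omega
      · exact hP' (hplus hQ'' hQ' ▸ hP)
  · -- minus type
    by_cases hme : Even m
    · apply kill_of_noFix hs hsF hsd
      rintro y hy hyr hfix ⟨hyQ, -⟩
      rcases quad_dichotomy (m := m) (by omega) hι hs hQ hyQ hyr hfix with ⟨⟨Q'', hQ'', hP'⟩, -⟩ | ⟨-, h1⟩
      · exact hP (hplus hQ' hQ'' ▸ hP')
      · have hmo : Odd (m - 1) := Nat.Even.sub_odd (by omega) hme odd_one
        rw [hsq, hme.neg_one_pow, hmo.neg_one_pow] at h1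
        have h3 : (2 : ZMod s) * 2 = 0 := by linear_combination -h1
        rcases mul_eq_zero.1 h3 with h4 | h4 <;> exact h2s h4
    · have hmo : Odd m := Nat.not_even_iff_odd.1 hme
      have hm3 : 3 ≤ m := by
        rcases hmo with ⟨k, hk⟩
        omega
      obtain ⟨f, hf⟩ : ∃ f : ℕ, 1 ≤ f ∧ Fintype.card F = 2 ^ f := by
        obtain ⟨n, -, hn⟩ := FiniteField.card F 2
        exact ⟨n, n.pos, hn⟩
      obtain ⟨r, hr⟩ : ∃ r, Od (Fintype.card F) m r := by
        by_cases h6 : f * m = 6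
        · have hmf : m = 3 ∧ f = 2 := by
            have h1 : m ∣ 6 := Dvd.intro_left f h6
            have h2 : m ≤ 6 := Nat.le_of_dvd (by norm_num) h1
            rcases hmo with ⟨k, hk⟩
            interval_cases m <;> omega
          refine ⟨7, ?_⟩
          rw [hf.2, hmf.1, hmf.2]
          refine ⟨by norm_num, ?_, by norm_num⟩
          have : Fact (Nat.Prime 3) := ⟨by norm_num⟩
          exact orderOf_eq_prime (by decide) (by decide)
        · obtain ⟨r, hr'⟩ := Cfsg.Agent.H163.PG.exists_ppd (p := 2) (f := f) (k := m) le_rfl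
            (by nlinarith [hf.1]) (fun h => h6 h.2)
          refine ⟨r, ?_⟩
          rw [hf.2]
          exact Od.of_ppd Nat.prime_two hf.1 (by omega) hr'
      · have := Fact.mk hr.prime
        apply kill_of_prime hr.prime (hdvd hr (Dvd.intro_left 2 rfl))
        rintro y hy hyr hy1 ⟨hyQ, -⟩
        have h0 := noFix_of_odd hmo hr hy hyr hy1 (cast_ne_zero_of_od hr)
        have hfix : ∀ v, (y : Matrix (Fin m ⊕ Fin m) (Fin m ⊕ Fin m) F) *ᵥ v = v → v = 0 := by
          intro v hv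
          have h2 : v ∈ fixS y := mem_fixS.2 hv
          rwa [h0, Submodule.mem_bot] at h2
        have hqm : (Fintype.card F : ZMod r) ^ m = 1 := by
          have := pow_orderOf_eq_one (Fintype.card F : ZMod r)
          rwa [hr.ord] at this
        rcases quad_dichotomy (m := m) (by omega) hι hr.prime hQ hyQ hyr hfix with ⟨⟨Q'', hQ'', hP'⟩, -⟩ | ⟨-, h1⟩
        · exact hP (hplus hQ' hQ'' ▸ hP')
        · rw [hqm] at h1
          rcases mul_eq_zero.1 h1 with h3 | h3
          · have h4 : ((2 : ℕ) : ZMod r) = 0 := by push_cast; linear_combination h3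
            have h5 := (ZMod.natCast_eq_zero_iff 2 r).1 h4
            have h6 := Nat.le_of_dvd two_pos h5
            have := hr.lt
            omega
          · have h4 : m ∣ m - 1 := by
              conv_lhs => rw [← hr.ord]
              exact orderOf_dvd_of_pow_eq_one (sub_eq_zero.1 h3)
            have := Nat.le_of_dvd (by omega) h4
            omega

end Cfsg.Agent.H262.El
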