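import Cfsg.Agent.H262.ElSympPSp
import Cfsg.Agent.H884.ElT

/-!
# TEAM ELUSIVE, symplectic row, prime version: quadratic extension fields
-/

set_option autoImplicit false

namespace Cfsg.Agent.H262.El

open Cfsg Cfsg.Geo Module Cfsg.Agent.H884.El
open Cfsg.Agent.ClassicalGeometry.SympBasic Cfsg.Agent.H876 Cfsg.Agent.H931
open Cfsg.Agent.H951 (fx cm Inv)
open scoped Matrix MatrixGroups

universe u v

section gen

variable {F : Type u} [Field F] [Fintype F] {V : Type v} [AddCommGroup V] [Module F V] [FiniteDimensional F V]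
  {x : Module.End F V} {r : ℕ}

/-- invariant forms vanish on irreducible subspaces of odd dimension. -/
theorem form_zero (hr : r.Prime) (hr2 : r ≠ 2) (hrF : (r : F) ≠ 0) (hx : x ^ r = 1) {W : Submodule F V}
    (hirr : H951.Irr x W) (hWcm : W ≤ cm x) (hodd : Odd (finrank F W)) (c : LinearMap.BilinForm F V)
    (hinv : ∀ u v, c (x u) (x v) = c u v) : ∀ u ∈ W, ∀ v ∈ W, c u v = 0 := by
  have hprime := Fact.mk hr
  have hfin : Finite V := Module.finite_of_finite F
  obtain ⟨hW0, hW, hWi⟩ := hirr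
  let N : Submodule F V :=
    { carrier := {v | v ∈ W ∧ ∀ u ∈ W, c u v = 0}
      add_mem' := fun {a b} ha hb => ⟨W.add_mem ha.1 hb.1, fun u hu => by
        rw [map_add, ha.2 u hu, hb.2 u hu, add_zero]⟩
      zero_mem' := ⟨W.zero_mem, fun u _ => map_zero _⟩
      smul_mem' := fun a v hv => ⟨W.smul_mem a hv.1, fun u hu => by
        rw [map_smul, hv.2 u hu, smul_zero]⟩ }
  have hNW : N ≤ W := fun v hv => hv.1
  have hNi : Inv x N := by
    rintro v ⟨hv, hv2⟩
    refine ⟨hW v hv, fun u hu => ?_⟩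
    obtain ⟨u', hu', rfl⟩ : ∃ u' ∈ W, x u' = u := by
      refine ⟨(x ^ (r - 1)) u, hW.pow _ u hu, ?_⟩
      rw [← Module.End.mul_apply, ← pow_succ', Nat.sub_add_cancel hr.one_le, hx]
      rfl
    rw [hinv]
    exact hv2 u' hu'
  rcases hWi N hNW hNi with hN | hN
  · exfalso
    have hnd : ∀ v ∈ W, (∀ u ∈ W, c u v = 0) → v = 0 := by
      intro v hv hv2
      have : v ∈ N := ⟨hv, hv2⟩
      rw [hN] at this
      exact (Submodule.mem_bot F).1 this
    have hev := H200.LinFix.even_of_irr (l := r) hr2 hrF (y := x) hx (W := W) hWcm hW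
      (fun s hs hi => hWi s hs hi) hW0 c (fun u _ v _ => hinv u v) hnd
    exact (Nat.not_even_iff_odd.2 hodd) hev
  · intro u hu v hv
    rw [← hN] at hv
    exact hv.2 u hu

end gen

variable {F : Type u} [Field F] {m : ℕ}

/-- the symplectic form as a bilinear form -/
noncomputable def bf (m : ℕ) (F : Type u) [Field F] : LinearMap.BilinForm F (Fin m ⊕ Fin m → F) :=
  LinearMap.mk₂ F (sympForm m F) (fun a b c => sympForm_add_left a b c)
    (fun c a b => by rw [sympForm_smul_left, smul_eq_mul]) (fun a b c => sympForm_add_right a b c)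
    (fun c a b => by rw [sympForm_smul_right, smul_eq_mul])

theorem bf_apply (u v : Fin m ⊕ Fin m → F) : bf m F u v = sympForm m F u v := rfl

theorem two_mul_finrank_le {U : Submodule F (Fin m ⊕ Fin m → F)} (hU : ∀ u ∈ U, ∀ v ∈ U, sympForm m F u v = 0) :
    2 * finrank F U ≤ 2 * m := by
  have hnd : (bf m F).Nondegenerate := by
    constructor
    · intro v hv
      exact eq_zero_of_forall_sympForm_right hv
    · intro v hv
      exact eq_zero_of_forall_sympForm_left hv
  have h1 := LinearMap.BilinForm.finrank_orthogonal hnd U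
  have h2 : U ≤ (bf m F).orthogonal U := by
    intro v hv u hu
    exact hU u hu v hv
  have h3 := Submodule.finrank_mono h2
  have h4 : finrank F (Fin m ⊕ Fin m → F) = 2 * m := by
    rw [Module.finrank_fintype_fun_eq_card, card_sum_fin]
  have h5 : finrank F U ≤ finrank F (Fin m ⊕ Fin m → F) := Submodule.finrank_le U
  omega

/-- **no quadratic field** is normalised by an element of prime order `r`, `ord_r(q)` odd and greater than `m / 2`. -/
theorem no_quadratic_symp [Fintype F] {g : GL (Fin m ⊕ Fin m) F} (hg : g ∈ spGL m F) {r e : ℕ}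
    (hr : PP (Nat.card F) e r) (he : Odd e) (he3 : 3 ≤ e) (hn : 2 * m < 4 * e) (hgr : g ^ r = 1) (hg1 : g ≠ 1)
    {K : Subalgebra F (Matrix (Fin m ⊕ Fin m) (Fin m ⊕ Fin m) F)} (hK : IsFieldSubalgebra 2 K)
    (hgK : g ∈ subalgebraNormalizer K) : False := by
  have hne : Nonempty (Fin m ⊕ Fin m) := by
    by_contra h
    rw [not_nonempty_iff] at h
    exact hg1 (Subsingleton.elim _ _)
  have hr2 : r ≠ 2 := by have := hr.lt (by omega); omega
  have hrF : (r : F) ≠ 0 := hr.ne0 (by omega)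
  have hprime := Fact.mk hr.prime
  have hcomm := comm_field Nat.prime_two hK hgK hr.prime hr2 hgr
  obtain ⟨J, hJK, hJ, hgen⟩ := Cfsg.Agent.H884.HermGL.exists_gen hK
  set x : Module.End F (Fin m ⊕ Fin m → F) := lin g with hxdef
  have hx : x ^ r = 1 := by rw [hxdef, ← H251.GeoCard.toLin_pow, hgr]; exact lin_one
  set T : Module.End F (Fin m ⊕ Fin m → F) := Matrix.toLin' J with hTdef
  have hTx : ∀ v, T (x v) = x (T v) := by
    intro v
    rw [hTdef, hxdef, lin, Matrix.toLin'_apply, Matrix.toLin'_apply, Matrix.toLin'_apply, Matrix.toLin'_apply,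
      Matrix.mulVec_mulVec, Matrix.mulVec_mulVec, hcomm J hJK]
  have heven : ∀ W : Submodule F (Fin m ⊕ Fin m → F), (∀ w ∈ W, T w ∈ W) → Even (finrank F W) := by
    intro W hW
    refine even_of_field hK fun k hk w hw => ?_
    obtain ⟨s, t, rfl⟩ := hgen k hk
    rw [Matrix.add_mulVec, Matrix.smul_mulVec, Matrix.smul_mulVec, Matrix.one_mulVec]
    refine W.add_mem (W.smul_mem _ hw) (W.smul_mem _ ?_)
    have := hW w hw
    rwa [hTdef, Matrix.toLin'_apply] at this
  have hTinj : Function.Injective T := by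
    have hJ0 : J ≠ 0 := fun h => hJ 0 (by rw [h, zero_smul])
    obtain ⟨J', hJ'K, hJJ'⟩ := hK.inv J hJK hJ0
    have hJ'J : J' * J = 1 := by rw [hK.comm J' hJ'K J hJK]; exact hJJ'
    intro a b hab
    rw [hTdef, Matrix.toLin'_apply, Matrix.toLin'_apply] at hab
    rw [← Matrix.one_mulVec a, ← hJ'J, ← Matrix.mulVec_mulVec, hab, Matrix.mulVec_mulVec, hJ'J, Matrix.one_mulVec]
  obtain ⟨W, hWcm, hirr⟩ := H951.exists_irr (x := x) H951.inv_cm (cm_ne_bot (lin_ne_one hg1))
  have hWd : finrank F W = e := by rw [hirr.finrank_eq hrF hx hWcm, ord_eq hr]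
  have hz : ∀ c : LinearMap.BilinForm F (Fin m ⊕ Fin m → F), (∀ u v, c (x u) (x v) = c u v) →
      ∀ u ∈ W, ∀ v ∈ W, c u v = 0 := fun c hc =>
    form_zero hr.prime hr2 hrF hx hirr hWcm (by rw [hWd]; exact he) c hc
  have hfx : ∀ u v, sympForm m F (x u) (x v) = sympForm m F u v := by
    intro u v
    rw [hxdef, lin, Matrix.toLin'_apply, Matrix.toLin'_apply]
    exact mem_spGL_iff.1 hg u v
  have z1 : ∀ u ∈ W, ∀ v ∈ W, sympForm m F u v = 0 := hz (bf m F) hfx
  have z2 : ∀ u ∈ W, ∀ v ∈ W, sympForm m F u (T v) = 0 :=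
    hz (LinearMap.BilinForm.comp (bf m F) LinearMap.id T) (fun u v => by
      change sympForm m F (x u) (T (x v)) = sympForm m F u (T v)
      rw [hTx, hfx])
  have z3 : ∀ u ∈ W, ∀ v ∈ W, sympForm m F (T u) (T v) = 0 :=
    hz (LinearMap.BilinForm.comp (bf m F) T T) (fun u v => by
      change sympForm m F (T (x u)) (T (x v)) = sympForm m F (T u) (T v)
      rw [hTx, hTx, hfx])
  have z4 : ∀ u ∈ W, ∀ v ∈ W, sympForm m F (T u) v = 0 := by
    intro u hu v hv
    rw [sympForm_swap, z2 v hv u hu, neg_zero]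
  have hTWi : Inv x (W.map T) := by
    rintro _ ⟨w, hw, rfl⟩
    exact ⟨x w, hirr.2.1 w hw, hTx w⟩
  have hTWd : finrank F (W.map T) = e := by
    rw [← hWd]
    exact (Submodule.equivMapOfInjective T hTinj W).finrank_eq.symm
  have hinf : W ⊓ W.map T = ⊥ := by
    rcases hirr.2.2 (W ⊓ W.map T) inf_le_left (hirr.2.1.inf hTWi) with h | h
    · exact h
    · exfalso
      have h1 : W ≤ W.map T := by
        have h0 : W ⊓ W.map T ≤ W.map T := inf_le_right
        rwa [h] at h0
      have h2 : W = W.map T := Submodule.eq_of_le_of_finrank_eq h1 (by rw [hWd, hTWd])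
      have h3 := heven W (fun w hw => by
        rw [h2]
        exact Submodule.mem_map_of_mem hw)
      rw [hWd] at h3
      exact (Nat.not_even_iff_odd.2 he) h3
  have hUd : finrank F ↥(W ⊔ W.map T) = 2 * e := by
    have := Submodule.finrank_sup_add_finrank_inf_eq W (W.map T)
    rw [hinf, finrank_bot, hWd, hTWd] at this
    omega
  have hle := two_mul_finrank_le (m := m) (U := W ⊔ W.map T) (by
    intro a ha b hb
    obtain ⟨a1, ha1, a2, ⟨a3, ha3, rfl⟩, rfl⟩ := Submodule.mem_sup.1 ha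
    obtain ⟨b1, hb1, b2, ⟨b3, hb3, rfl⟩, rfl⟩ := Submodule.mem_sup.1 hb
    rw [sympForm_add_left, sympForm_add_right, sympForm_add_right, z1 a1 ha1 b1 hb1, z2 a1 ha1 b3 hb3,
      z4 a3 ha3 b1 hb1, z3 a3 ha3 b3 hb3]
    ring)
  omega

end Cfsg.Agent.H262.El
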