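import Cfsg.Agent.H262.ElSympGeo

/-!
# TEAM ELUSIVE, symplectic row: `Sp_6(2)`
-/

set_option autoImplicit false

namespace Cfsg.Agent.H262.El

open Cfsg Cfsg.Geo Module
open Cfsg.Agent.ClassicalGeometry.SympBasic Cfsg.Agent.H876 Cfsg.Agent.H931
open scoped Matrix MatrixGroups

variable {F : Type*} [Field F]

theorem od_two_three : Od 2 3 7 := by
  refine ⟨by norm_num, ?_, by norm_num⟩
  have : Fact (Nat.Prime 3) := ⟨by norm_num⟩
  exact orderOf_eq_prime (by decide) (by decide)

theorem od_two_four : Od 2 4 5 := by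
  refine ⟨by norm_num, ?_, by norm_num⟩
  have h := orderOf_eq_prime_pow (x := ((2 : ℕ) : ZMod 5)) (p := 2) (n := 1) (by decide) (by decide)
  rw [h]
  norm_num

/-- **Members of the geometric classes of `Sp_6(2)`.** -/
theorem kill_class_six [Fintype F] (hF : Fintype.card F = 2)
    {M : Subgroup (GL (Fin 3 ⊕ Fin 3) F)} (hM : InSymplecticClass 3 F M) : Kill 3 F M := by
  have hι : Fintype.card (Fin 3 ⊕ Fin 3) = 6 := card_sum_fin
  have h7 : Od (Fintype.card F) 3 7 := by rw [hF]; exact od_two_three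
  have h5 : Od (Fintype.card F) 4 5 := by rw [hF]; exact od_two_four
  have hodd : ¬ Odd (Fintype.card F) := by rw [hF]; decide
  have hd7 := dvd_card_spGL (F := F) (m := 3) (by omega) h7 (k := 3) (by norm_num) (by omega) le_rfl
  have hd5 := dvd_card_spGL (F := F) (m := 3) (by omega) h5 (k := 2) (by norm_num) (by omega) (by omega)
  have key7 : ∀ y ∈ spGL 3 F, y ^ 7 = 1 → y ≠ 1 → ∀ W : Submodule F (Fin 3 ⊕ Fin 3 → F),
      (∀ v ∈ W, (y : Matrix (Fin 3 ⊕ Fin 3) (Fin 3 ⊕ Fin 3) F) *ᵥ v ∈ W) → 3 ∣ finrank F W := by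
    intro y hy hyr hy1 W hW
    have h0 := noFix_of_odd (m := 3) (by decide) h7 hy hyr hy1 (cast_ne_zero_of_od h7)
    have h1 := finrank_inv h7 hyr W hW
    rwa [h0, inf_bot_eq, finrank_bot, Nat.sub_zero] at h1
  have k1 : ∀ W : Submodule F (Fin 3 ⊕ Fin 3 → F), W ≠ ⊥ → W ≠ ⊤ → Kill 3 F (subspaceStabilizer W) := by
    intro W hW0 hW1
    have hle := Submodule.finrank_le W
    rw [Module.finrank_fintype_fun_eq_card, hι] at hle
    by_cases h3 : 3 ∣ finrank F W
    · have hW3 : finrank F W = 3 := by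
        have h4 : finrank F W ≠ 0 := fun h => hW0 (Submodule.finrank_eq_zero.1 h)
        have h5 : finrank F W ≠ 6 := fun h => hW1 (Submodule.eq_top_of_finrank_eq (by
          rw [h, Module.finrank_fintype_fun_eq_card, hι]))
        omega
      refine kill_of_prime h5.prime hd5 fun y hy hyr hy1 hyW => ?_
      have h1 := finrank_fixS h5 hyr
      have h2 := finrank_fixS_lt hy1
      rw [hι] at h1 h2
      have h4 := finrank_inv h5 hyr W (fun v hv => (Cfsg.Agent.H918.mem_subspaceStabilizer.1 hyW v).1 hv)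
      have h6 : finrank F (W ⊓ fixS y : Submodule F (Fin 3 ⊕ Fin 3 → F)) ≤ finrank F (fixS y) :=
        Submodule.finrank_mono inf_le_right
      omega
    · exact kill_of_prime h7.prime hd7 fun y hy hyr hy1 hyW => h3 (key7 y hy hyr hy1 W
        (fun v hv => (Cfsg.Agent.H918.mem_subspaceStabilizer.1 hyW v).1 hv))
  rcases hM with hM | hM | hM | hM | hM
  · rcases hM with hM | hM | hM | hM | hM | hM | hM
    · obtain ⟨W, hW0, hW, rfl⟩ := hM
      exact (k1 W hW0 (totallySingular_ne_top (by omega) hW)).mono inf_le_left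
    · obtain ⟨W, hW0, hW, hW2, rfl⟩ := hM
      refine (k1 W hW0 ?_).mono inf_le_left
      rintro rfl
      rw [finrank_top, Module.finrank_fintype_fun_eq_card, hι] at hW2
      omega
    · obtain ⟨t, k, D, hD, rfl⟩ := hM
      refine Kill.mono ?_ inf_le_left
      refine kill_of_prime h7.prime hd7 fun y hy hyr hy1 hyD => ?_
      have h2 := hD.decomp.two_le
      have htk : t * k = 6 := by rw [Cfsg.Agent.H918.decomp_card hD.decomp, hι]
      have hk := hD.decomp.pos
      have ht : t ≤ 6 := by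
        rw [← htk]
        exact Nat.le_mul_of_pos_right t hk
      have h1 := fixes_of_decomposition hD.decomp hyD h7.prime (by omega) hyr ⟨0, by omega⟩
      have h3 := key7 y hy hyr hy1 _ h1
      rw [hD.decomp.finrank_eq] at h3
      have h4 := even_of_isNondegenerateOn Cfsg.Agent.H924.isSymplecticForm_sympForm
          (hD.nondegenerate ⟨0, by omega⟩)
      rw [hD.decomp.finrank_eq] at h4
      obtain ⟨l, rfl⟩ := h4
      obtain ⟨c, hc⟩ := h3
      have h6 : 6 ≤ l + l := by omega
      have : 2 * (l + l) ≤ t * (l + l) := Nat.mul_le_mul_right _ h2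
      omega
    · obtain ⟨D, ho, -⟩ := hM
      exact absurd ho hodd
    · obtain ⟨F₀, s, P, ζ, hs, hcard, -⟩ := hM
      exfalso
      rw [hF] at hcard
      have h1 : 1 < Nat.card F₀ := Finite.one_lt_card
      have h2 : 2 ^ 2 ≤ Nat.card F₀ ^ s := (Nat.pow_le_pow_left h1 2).trans
        (Nat.pow_le_pow_right (by omega) hs.two_le)
      omega
    · obtain ⟨R, p', k, -, -, -, hp, ho, hcard, -⟩ := hM
      rw [← hcard] at ho
      exact absurd ho hodd
    · obtain ⟨Q, ho, hQ, -, rfl⟩ := hM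
      exact kill_quad (by omega) ho hQ (Or.inr (by decide))
  · obtain ⟨s, K, hs, hK, -, -, rfl⟩ := hM
    exact (kill_field (by omega) hs hK).mono inf_le_left
  · obtain ⟨K, ho, -⟩ := hM
    exact absurd ho hodd
  · obtain ⟨n₁, n₂, e, P, f₁, f₂, ho, -⟩ := hM
    exact absurd ho hodd
  · obtain ⟨k, t, e, P, f₁, ho, -⟩ := hM
    exact absurd ho hodd

/-- **Members of the geometric classes of `Sp_2m(q)`, `m ≥ 2`.** -/
theorem kill_class' {m : ℕ} [Fintype F] (hm : 2 ≤ m)
    {M : Subgroup (GL (Fin m ⊕ Fin m) F)} (hM : InSymplecticClass m F M) : Kill m F M := by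
  by_cases h32 : m = 3 ∧ Fintype.card F = 2
  · obtain ⟨rfl, hF⟩ := h32
    exact kill_class_six hF hM
  · exact kill_class hm h32 hM

end Cfsg.Agent.H262.El
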