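import Cfsg.Agent.H262.ElTvA

/-!
# Irreducible groups generated by symplectic transvections, odd characteristic: connectedness and the
elimination of `SL₂(5) ≤ SL₂(9)`
-/

set_option autoImplicit false

namespace Cfsg.Agent.H262.Tv

open Cfsg Module
open Cfsg.Agent.ClassicalGeometry.SympBasic Cfsg.Agent.H876 Cfsg.Agent.H931
open scoped Matrix MatrixGroups

variable {F : Type*} [Field F] {m : ℕ}

local notation "fo" => sympForm m F

/-- the hypotheses: `H ≤ Sp_2m(q)`, `q` odd, `m ≥ 2`, the transvections in `H` generate an irreducible group -/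
structure Dat (H : Subgroup (GL (Fin m ⊕ Fin m) F)) : Prop where
  le : H ≤ spGL m F
  two : (2 : F) ≠ 0
  dim : 2 ≤ m
  irr : ∀ W : Submodule F (Fin m ⊕ Fin m → F), (∀ b c, tGL b c ∈ H → ∀ v ∈ W, ap (tGL b c) v ∈ W) → W = ⊥ ∨ W = ⊤
  ne : ∃ b, ∃ c : F, b ≠ 0 ∧ c ≠ 0 ∧ tGL b c ∈ H

variable {H : Subgroup (GL (Fin m ⊕ Fin m) F)}

/-- centers of transvections -/
def Cen (H : Subgroup (GL (Fin m ⊕ Fin m) F)) (a : Fin m ⊕ Fin m → F) : Prop :=
  a ≠ 0 ∧ ∃ c : F, c ≠ 0 ∧ tGL a c ∈ H

/-- adjacency -/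
def Adj (H : Subgroup (GL (Fin m ⊕ Fin m) F)) (a b : Fin m ⊕ Fin m → F) : Prop :=
  Cen H a ∧ Cen H b ∧ fo a b ≠ 0

theorem Adj.symm {a b : Fin m ⊕ Fin m → F} (h : Adj H a b) : Adj H b a :=
  ⟨h.2.1, h.1, by rw [sympForm_swap]; exact neg_ne_zero.2 h.2.2⟩

theorem Cen.of_ne {a : Fin m ⊕ Fin m → F} {c : F} (ha : a ≠ 0) (hc : c ≠ 0) (h : tGL a c ∈ H) : Cen H a :=
  ⟨ha, c, hc, h⟩

theorem t_mem_add {a : Fin m ⊕ Fin m → F} {c d : F} (hc : tGL a c ∈ H) (hd : tGL a d ∈ H) : tGL a (c + d) ∈ H := by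
  rw [t_add]
  exact H.mul_mem hc hd

theorem t_mem_neg {a : Fin m ⊕ Fin m → F} {c : F} (hc : tGL a c ∈ H) : tGL a (-c) ∈ H := by
  rw [t_neg]
  exact H.inv_mem hc

theorem t_mem_sub {a : Fin m ⊕ Fin m → F} {c d : F} (hc : tGL a c ∈ H) (hd : tGL a d ∈ H) : tGL a (c - d) ∈ H := by
  rw [sub_eq_add_neg]
  exact t_mem_add hc (t_mem_neg hd)

theorem Dat.conj (D : Dat H) {g : GL (Fin m ⊕ Fin m) F} (hg : g ∈ H) {a : Fin m ⊕ Fin m → F} {c : F}
    (h : tGL a c ∈ H) : tGL (ap g a) c ∈ H := by
  rw [← t_conj (D.le hg)]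
  exact H.mul_mem (H.mul_mem hg h) (H.inv_mem hg)

theorem ap_ne_zero {g : GL (Fin m ⊕ Fin m) F} {a : Fin m ⊕ Fin m → F} (ha : a ≠ 0) : ap g a ≠ 0 := mulVec_ne_zero g ha

theorem Dat.cen_conj (D : Dat H) {g : GL (Fin m ⊕ Fin m) F} (hg : g ∈ H) {a : Fin m ⊕ Fin m → F}
    (h : Cen H a) : Cen H (ap g a) := by
  obtain ⟨h0, c, hc, h⟩ := h
  exact ⟨ap_ne_zero h0, c, hc, D.conj hg h⟩

theorem Dat.fo_ap (D : Dat H) {g : GL (Fin m ⊕ Fin m) F} (hg : g ∈ H) (u v : Fin m ⊕ Fin m → F) :
    fo (ap g u) (ap g v) = fo u v := mem_spGL_iff.1 (D.le hg) u v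

theorem cen_of_t {a : Fin m ⊕ Fin m → F} {c : F} (h : tGL a c ∈ H) {v : Fin m ⊕ Fin m → F}
    (hv : c * fo v a ≠ 0) : Cen H a := by
  refine ⟨?_, c, left_ne_zero_of_mul hv, h⟩
  rintro rfl
  rw [sympForm_zero_right, mul_zero] at hv
  exact hv rfl

/-- the graph of centers is connected -/
theorem Dat.connected (D : Dat H) {a b : Fin m ⊕ Fin m → F} (ha : Cen H a) (hb : Cen H b) :
    Relation.ReflTransGen (Adj H) a b := by
  set W : Submodule F (Fin m ⊕ Fin m → F) := Submodule.span F {y | Relation.ReflTransGen (Adj H) a y} with hW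
  have haW : a ∈ W := Submodule.subset_span Relation.ReflTransGen.refl
  have hcen : ∀ y, Relation.ReflTransGen (Adj H) a y → Cen H y := by
    intro y hy
    rcases Relation.ReflTransGen.cases_tail hy with rfl | ⟨z, -, hz⟩
    · exact ha
    · exact hz.2.1
  rcases D.irr W (by
    intro e c hec v hv
    rw [ap_t]
    by_cases h0 : c * fo v e = 0
    · rw [h0, zero_smul, add_zero]
      exact hv
    · have he := cen_of_t hec h0
      refine W.add_mem hv (W.smul_mem _ ?_)
      -- `e` is adjacent to some `y` in the component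
      obtain ⟨y, hy, hye⟩ : ∃ y, Relation.ReflTransGen (Adj H) a y ∧ fo y e ≠ 0 := by
        by_contra hcon
        push Not at hcon
        apply right_ne_zero_of_mul h0
        rw [hW] at hv
        induction hv using Submodule.span_induction with
        | mem x hx => exact hcon x hx
        | zero => exact sympForm_zero_left e
        | add x y _ _ hx hy =>
          by_cases h1 : c * fo x e = 0
          · by_cases h2 : c * fo y e = 0
            · exfalso
              apply h0
              rw [sympForm_add_left, mul_add, h1, h2, add_zero]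
            · have h3 := (mul_eq_zero.1 h1).resolve_left (left_ne_zero_of_mul h2)
              rw [sympForm_add_left, h3, hy h2, add_zero]
          · by_cases h2 : c * fo y e = 0
            · have h3 := (mul_eq_zero.1 h2).resolve_left (left_ne_zero_of_mul h1)
              rw [sympForm_add_left, hx h1, h3, add_zero]
            · rw [sympForm_add_left, hx h1, hy h2, add_zero]
        | smul s x _ hx =>
          by_cases h1 : c * fo x e = 0
          · exfalso
            apply h0
            rw [sympForm_smul_left, mul_left_comm, h1, mul_zero]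
          · rw [sympForm_smul_left, hx h1, mul_zero]
      exact Submodule.subset_span (hy.tail ⟨hcen y hy, he, hye⟩)) with h | h
  · rw [h, Submodule.mem_bot] at haW
    exact absurd haW ha.1
  · -- `b` is adjacent to some `y` in the component
    obtain ⟨y, hy, hyb⟩ : ∃ y, Relation.ReflTransGen (Adj H) a y ∧ fo y b ≠ 0 := by
      by_contra hcon
      push Not at hcon
      apply hb.1
      apply eq_zero_of_forall_sympForm_left
      intro u
      have hu : u ∈ W := by rw [h]; trivial
      rw [hW] at hu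
      induction hu using Submodule.span_induction with
      | mem x hx => exact hcon x hx
      | zero => exact sympForm_zero_left b
      | add x y _ _ hx hy => rw [sympForm_add_left, hx, hy, add_zero]
      | smul s x _ hx => rw [sympForm_smul_left, hx, mul_zero]
    exact hy.tail ⟨hcen y hy, hb, hyb⟩

theorem Dat.exists_adj (D : Dat H) {a : Fin m ⊕ Fin m → F} (ha : Cen H a) : ∃ b, Adj H a b := by
  by_contra hcon
  push Not at hcon
  rcases D.irr (Submodule.span F {a}) (by
    intro e c hec v hv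
    rw [ap_t]
    by_cases h0 : c * fo v e = 0
    · rw [h0, zero_smul, add_zero]
      exact hv
    · exfalso
      obtain ⟨s, rfl⟩ := Submodule.mem_span_singleton.1 hv
      apply hcon e
      refine ⟨ha, cen_of_t hec h0, ?_⟩
      rw [sympForm_smul_left] at h0
      exact right_ne_zero_of_mul (right_ne_zero_of_mul h0)) with h | h
  · exact ha.1 (Submodule.span_singleton_eq_bot.1 h)
  · have h1 : finrank F (Submodule.span F ({a} : Set (Fin m ⊕ Fin m → F))) ≤ 1 :=
      (finrank_span_le_card (R := F) ({a} : Set (Fin m ⊕ Fin m → F))).trans (by simp)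
    rw [h, finrank_top, Module.finrank_fintype_fun_eq_card, Fintype.card_sum, Fintype.card_fin] at h1
    have := D.dim
    omega

/-- at most one transvection group element up to sign -/
def Small (H : Subgroup (GL (Fin m ⊕ Fin m) F)) (a : Fin m ⊕ Fin m → F) : Prop :=
  ∃ w : F, ∀ c, tGL a c ∈ H → c = 0 ∨ c = w ∨ c = -w

theorem Dat.small_adj [Finite F] (D : Dat H) (h3 : (3 : F) = 0) {x y : Fin m ⊕ Fin m → F} (hxy : Adj H x y)
    (hx : Small H x) : Small H y := by
  obtain ⟨w, hw⟩ := hx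
  obtain ⟨⟨hx0, c0, hc0, hc0H⟩, ⟨hy0, d1, hd1, hd1H⟩, hφ⟩ := hxy
  set φ := fo x y with hφd
  have hw0 : w ≠ 0 := by
    rintro rfl
    rcases hw c0 hc0H with h | h | h
    · exact hc0 h
    · exact hc0 h
    · rw [neg_zero] at h
      exact hc0 h
  have hwH : tGL x w ∈ H := by
    rcases hw c0 hc0H with h | h | h
    · exact absurd h hc0
    · rw [← h]; exact hc0H
    · have := t_mem_neg hc0H
      rwa [h, neg_neg] at this
  have hsq : ∀ d, d ≠ 0 → tGL y d ∈ H → (w * d * φ ^ 2) ^ 2 = 1 ∨ (w * d * φ ^ 2) ^ 2 = -1 := by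
    intro d hd hdH
    rcases key D.two hφ hw0 hd hwH hdH with h | ⟨h, -⟩
    · left
      have hγ0 : w * d * φ ^ 2 ≠ 0 := mul_ne_zero (mul_ne_zero hw0 hd) (pow_ne_zero 2 hφ)
      rcases hw _ h with h1 | h1 | h1
      · exact absurd h1 (mul_ne_zero hw0 hγ0)
      · have h2 : w * d * φ ^ 2 = 1 := mul_left_cancel₀ hw0 (h1.trans (mul_one w).symm)
        rw [h2, one_pow]
      · have h2 : w * d * φ ^ 2 = -1 := mul_left_cancel₀ hw0 (h1.trans (by ring))
        rw [h2]
        ring
    · exact Or.inr h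
  refine ⟨d1, fun d hdH => ?_⟩
  by_contra hcon
  push Not at hcon
  obtain ⟨hd0, hd1', hd2'⟩ := hcon
  have e1 := hsq d1 hd1 hd1H
  have e2 := hsq d hd0 hdH
  have e3 := hsq (d1 + d) (fun h => hd2' (by linear_combination h)) (t_mem_add hd1H hdH)
  have e4 := hsq (d1 - d) (fun h => hd1' (by linear_combination -h)) (t_mem_sub hd1H hdH)
  set g1 := w * d1 * φ ^ 2 with hg1
  set g2 := w * d * φ ^ 2 with hg2
  have h5 : w * (d1 + d) * φ ^ 2 = g1 + g2 := by rw [hg1, hg2]; ring
  have h6 : w * (d1 - d) * φ ^ 2 = g1 - g2 := by rw [hg1, hg2]; ring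
  rw [h5] at e3
  rw [h6] at e4
  have two := D.two
  have one : (1 : F) ≠ 0 := one_ne_zero
  have h7 : (g1 + g2) ^ 2 + (g1 - g2) ^ 2 = 2 * g1 ^ 2 + 2 * g2 ^ 2 := by ring
  have h8 : (g1 + g2) ^ 2 * (g1 - g2) ^ 2 = (g1 ^ 2 - g2 ^ 2) ^ 2 := by ring
  rcases e1 with e1 | e1 <;> rcases e2 with e2 | e2 <;> rcases e3 with e3 | e3 <;> rcases e4 with e4 | e4 <;>
    rw [e1, e2, e3, e4] at h7 h8
  all_goals first
    | exact one (by linear_combination h8)
    | exact one (by linear_combination -h8)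
    | exact one (by linear_combination h8 + 2 * h3)
    | exact two (by linear_combination h7)
    | exact two (by linear_combination -h7)

theorem Dat.small_all [Finite F] (D : Dat H) (h3 : (3 : F) = 0) {x y : Fin m ⊕ Fin m → F} (hx : Small H x)
    (hxc : Cen H x) (hyc : Cen H y) : Small H y := by
  have h := D.connected hxc hyc
  induction h with
  | refl => exact hx
  | tail _ hyz ih => exact D.small_adj h3 hyz (ih hyz.1)

end Cfsg.Agent.H262.Tv
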