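import Cfsg.Agent.H262.ElTvB

/-!
# Irreducible groups generated by symplectic transvections, odd characteristic: elimination of
`SL₂(5) ≤ SL₂(9)`
-/

set_option autoImplicit false

namespace Cfsg.Agent.H262.Tv

open Cfsg Module
open Cfsg.Agent.ClassicalGeometry.SympBasic Cfsg.Agent.H876 Cfsg.Agent.H931
open scoped Matrix MatrixGroups

variable {F : Type*} [Field F] {m : ℕ}

local notation "fo" => sympForm m F

variable {H : Subgroup (GL (Fin m ⊕ Fin m) F)}

/-- in a bad pair the transvection group is small -/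
theorem Dat.bad_small [Finite F] (D : Dat H) {a b : Fin m ⊕ Fin m → F} (hab : fo a b ≠ 0) {c d : F} (hc : c ≠ 0)
    (hd : d ≠ 0) (ha : tGL a c ∈ H) (hb : tGL b d ∈ H) (h3 : (3 : F) = 0)
    (hγ : (c * d * (fo a b) ^ 2) ^ 2 = -1) (hbad : tGL a (c * (c * d * (fo a b) ^ 2)) ∉ H) : Small H a := by
  set φ := fo a b with hφ
  refine ⟨c, fun c' hc'H => ?_⟩
  by_contra hcon
  push Not at hcon
  obtain ⟨hc0, hc1, hc2⟩ := hcon
  -- squares
  have hsq : ∀ x : F, x ≠ 0 → tGL a x ∈ H → (x * d * φ ^ 2) ^ 2 ≠ -1 → tGL a (x * (x * d * φ ^ 2)) ∈ H := by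
    intro x hx hxH h
    rcases key D.two hab hx hd hxH hb with h1 | ⟨h1, -⟩
    · exact h1
    · exact absurd h1 h
  have hδ : d * φ ^ 2 ≠ 0 := mul_ne_zero hd (pow_ne_zero 2 hab)
  have hfac : ∀ x : F, (x * d * φ ^ 2) ^ 2 = -1 → x = c ∨ x = -c := by
    intro x hx
    have h1 : (d * φ ^ 2) ^ 2 * ((x - c) * (x + c)) = 0 := by linear_combination hx - hγ
    rcases mul_eq_zero.1 h1 with h2 | h2
    · exact absurd h2 (pow_ne_zero 2 hδ)
    · rcases mul_eq_zero.1 h2 with h4 | h4
      · exact Or.inl (sub_eq_zero.1 h4)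
      · exact Or.inr (eq_neg_of_add_eq_zero_left h4)
  have e1 := hsq c' hc0 hc'H (fun h => by
    rcases hfac c' h with h | h
    · exact hc1 h
    · exact hc2 h)
  have e2 := hsq (c' + c) (fun h => hc2 (by linear_combination h)) (t_mem_add hc'H ha) (fun h => by
    rcases hfac _ h with h | h
    · exact hc0 (by linear_combination h)
    · exact hc1 (by linear_combination h - c * h3))
  have e3 := hsq (c' - c) (fun h => hc1 (by linear_combination h)) (t_mem_sub hc'H ha) (fun h => by
    rcases hfac _ h with h | h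
    · exact hc2 (by linear_combination h + c * h3)
    · exact hc0 (by linear_combination h))
  have e4 := t_mem_sub (t_mem_sub (t_mem_add e2 e3) e1) e1
  apply hbad
  have e5 := t_mem_neg e4
  have e6 : -((c' + c) * ((c' + c) * d * φ ^ 2) + (c' - c) * ((c' - c) * d * φ ^ 2) -
      c' * (c' * d * φ ^ 2) - c' * (c' * d * φ ^ 2)) = c * (c * d * φ ^ 2) := by
    linear_combination (-c * (c * d * φ ^ 2)) * h3
  rwa [e6] at e5

/-- a third center in general position to a hyperbolic plane -/
theorem Dat.exists_third (D : Dat H) {a b : Fin m ⊕ Fin m → F} (hab : fo a b ≠ 0) {c d : F} (hc : c ≠ 0)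
    (hd : d ≠ 0) (ha : tGL a c ∈ H) (hb : tGL b d ∈ H) :
    ∃ (e : Fin m ⊕ Fin m → F) (g : F), g ≠ 0 ∧ tGL e g ∈ H ∧ fo e a ≠ 0 ∧ fo e b ≠ 0 ∧
      e ∉ Submodule.span F ({a, b} : Set (Fin m ⊕ Fin m → F)) := by
  classical
  set W := Submodule.span F ({a, b} : Set (Fin m ⊕ Fin m → F)) with hW
  have haW : a ∈ W := Submodule.subset_span (by simp)
  have hbW : b ∈ W := Submodule.subset_span (by simp)
  have h1 : ∃ (e : Fin m ⊕ Fin m → F) (g : F), tGL e g ∈ H ∧ ∃ v ∈ W, ap (tGL e g) v ∉ W := by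
    by_contra hcon
    push Not at hcon
    rcases D.irr W hcon with h | h
    · rw [h, Submodule.mem_bot] at haW
      rw [haW, sympForm_zero_left] at hab
      exact hab rfl
    · have h2 : finrank F W ≤ 2 := by
        refine (finrank_span_le_card (R := F) ({a, b} : Set (Fin m ⊕ Fin m → F))).trans ?_
        rw [Set.toFinset_insert, Set.toFinset_singleton]
        exact Finset.card_le_two
      rw [h, finrank_top, Module.finrank_fintype_fun_eq_card, Fintype.card_sum, Fintype.card_fin] at h2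
      have := D.dim
      omega
  obtain ⟨e, g, heH, v, hv, hve⟩ := h1
  rw [ap_t] at hve
  have hg0 : g * fo v e ≠ 0 := by
    intro h0
    rw [h0, zero_smul, add_zero] at hve
    exact hve hv
  have heW : e ∉ W := fun h => hve (W.add_mem hv (W.smul_mem _ h))
  have hg : g ≠ 0 := left_ne_zero_of_mul hg0
  have hve' : fo v e ≠ 0 := right_ne_zero_of_mul hg0
  have hor : fo e a ≠ 0 ∨ fo e b ≠ 0 := by
    by_contra hcon
    push Not at hcon
    apply hve'
    obtain ⟨s, t, rfl⟩ := Submodule.mem_span_pair.1 hv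
    rw [sympForm_swap, sympForm_add_right, sympForm_smul_right, sympForm_smul_right, hcon.1, hcon.2]
    simp
  by_cases h2 : fo e a = 0
  · have h3 : fo e b ≠ 0 := by
      rcases hor with h | h
      · exact absurd h2 h
      · exact h
    refine ⟨ap (tGL b d) e, g, hg, D.conj hb heH, ?_, ?_, ?_⟩
    · rw [ap_t, sympForm_add_left, sympForm_smul_left, h2, zero_add, sympForm_swap b a]
      exact mul_ne_zero (mul_ne_zero hd h3) (neg_ne_zero.2 hab)
    · rw [ap_t, sympForm_add_left, sympForm_smul_left, sympForm_self, mul_zero, add_zero]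
      exact h3
    · intro h
      rw [ap_t] at h
      apply heW
      have := W.sub_mem h (W.smul_mem (d * fo e b) hbW)
      rwa [add_sub_cancel_right] at this
  · by_cases h3 : fo e b = 0
    · refine ⟨ap (tGL a c) e, g, hg, D.conj ha heH, ?_, ?_, ?_⟩
      · rw [ap_t, sympForm_add_left, sympForm_smul_left, sympForm_self, mul_zero, add_zero]
        exact h2
      · rw [ap_t, sympForm_add_left, sympForm_smul_left, h3, zero_add]
        exact mul_ne_zero (mul_ne_zero hc h2) hab
      · intro h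
        rw [ap_t] at h
        apply heW
        have := W.sub_mem h (W.smul_mem (c * fo e a) haW)
        rwa [add_sub_cancel_right] at this
    · exact ⟨e, g, hg, heH, h2, h3, heW⟩

/-- the product of the transvections with centers `y - e'` and `y + e'` -/
noncomputable def sg (e' : Fin m ⊕ Fin m → F) (g : F) (y : Fin m ⊕ Fin m → F) : GL (Fin m ⊕ Fin m) F :=
  tGL (y - e') g * tGL (y + e') (-g)

theorem ap_sg {y e' : Fin m ⊕ Fin m → F} (hy : fo y e' = 0) (g : F) (v : Fin m ⊕ Fin m → F) :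
    ap (sg e' g y) v = v - (2 * g * fo v y) • e' - (2 * g * fo v e') • y := by
  have hy' : fo e' y = 0 := by rw [sympForm_swap, hy, neg_zero]
  rw [sg, ap_mul, ap_t, ap_t]
  simp only [sympForm_add_left, sympForm_smul_left, sympForm_sub_right, sympForm_add_right, sympForm_self, hy, hy']
  generalize fo v y = x
  generalize fo v e' = z
  module

/-- commutators of Siegel elements are transvections -/
theorem sg_comm {y z e' : Fin m ⊕ Fin m → F} (hy : fo y e' = 0) (hz : fo z e' = 0) (g : F) :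
    sg e' g y * sg e' g z = tGL e' (8 * g ^ 2 * fo z y) * (sg e' g z * sg e' g y) := by
  apply gl_ext
  intro v
  change ap _ v = ap _ v
  have hy' : fo e' y = 0 := by rw [sympForm_swap, hy, neg_zero]
  have hz' : fo e' z = 0 := by rw [sympForm_swap, hz, neg_zero]
  have hyz : fo y z = - fo z y := sympForm_swap y z
  rw [ap_mul, ap_mul (tGL e' _), ap_mul, ap_sg hz, ap_sg hy, ap_sg hy, ap_sg hz, ap_t]
  simp only [sympForm_sub_left, sympForm_smul_left, sympForm_self, hy, hz, hy', hz', hyz]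
  generalize fo v z = p
  generalize fo v e' = q
  generalize fo v y = r
  generalize fo z y = s
  module

/-- **The bad case does not occur.** -/
theorem Dat.good [Finite F] (D : Dat H) {a b : Fin m ⊕ Fin m → F} (hab : fo a b ≠ 0) {c d : F} (hc : c ≠ 0)
    (hd : d ≠ 0) (ha : tGL a c ∈ H) (hb : tGL b d ∈ H) : tGL a (c * (c * d * (fo a b) ^ 2)) ∈ H := by
  by_contra hbad
  rcases key D.two hab hc hd ha hb with h | ⟨hγ, h3, z, hzH, hz⟩
  · exact hbad h
  have hsmall := D.bad_small hab hc hd ha hb h3 hγ hbad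
  obtain ⟨e, g, hg, heH, hea, heb, heW⟩ := D.exists_third hab hc hd ha hb
  set φ := fo a b with hφ
  have hba : fo b a = -φ := sympForm_swap b a
  set x : Fin m ⊕ Fin m → F := (fo e b / φ) • a + (fo a e / φ) • b with hx
  set e' : Fin m ⊕ Fin m → F := e - x with he'
  have hexe : x + e' = e := by rw [he']; abel
  have hae : fo a e = - fo e a := sympForm_swap a e
  have hxa : fo x a = fo e a := by
    rw [hx, sympForm_add_left, sympForm_smul_left, sympForm_smul_left, sympForm_self, hba, hae]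
    field_simp
    ring
  have hxb : fo x b = fo e b := by
    rw [hx, sympForm_add_left, sympForm_smul_left, sympForm_smul_left, sympForm_self, ← hφ]
    field_simp
    ring
  have he'a : fo e' a = 0 := by rw [he', sympForm_sub_left, hxa, sub_self]
  have he'b : fo e' b = 0 := by rw [he', sympForm_sub_left, hxb, sub_self]
  have hxe' : fo x e' = 0 := by
    rw [hx, sympForm_add_left, sympForm_smul_left, sympForm_smul_left, sympForm_swap a e', sympForm_swap b e',
      he'a, he'b]
    ring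
  have he'0 : e' ≠ 0 := by
    intro h0
    apply heW
    rw [← hexe, h0, add_zero, hx]
    exact Submodule.add_mem _ (Submodule.smul_mem _ _ (Submodule.subset_span (by simp)))
      (Submodule.smul_mem _ _ (Submodule.subset_span (by simp)))
  -- the set of good vectors
  let X : (Fin m ⊕ Fin m → F) → Prop := fun y => fo y e' = 0 ∧ tGL (y + e') g ∈ H ∧ tGL (y - e') g ∈ H
  have hXx : X x := by
    refine ⟨hxe', by rw [hexe]; exact heH, ?_⟩
    have h1 := D.conj hzH heH
    have h2 : ap z e = (-1 : F) • (x - e') := by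
      rw [hz, he', hx, hae]
      module
    rw [h2, t_smul] at h1
    rwa [neg_one_sq, one_mul] at h1
  have hXa : ∀ y, X y → X (ap (tGL a c) y) := by
    rintro y ⟨h1, h2, h4⟩
    have h5 : ap (tGL a c) e' = e' := by rw [ap_t, he'a, mul_zero, zero_smul, add_zero]
    refine ⟨?_, ?_, ?_⟩
    · rw [← h5, D.fo_ap ha, h1]
    · have := D.conj ha h2
      rwa [ap, Matrix.mulVec_add, ← ap, ← ap, h5] at this
    · have := D.conj ha h4
      rwa [ap, Matrix.mulVec_sub, ← ap, ← ap, h5] at this
  have hXb : ∀ y, X y → X (ap (tGL b d) y) := by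
    rintro y ⟨h1, h2, h4⟩
    have h5 : ap (tGL b d) e' = e' := by rw [ap_t, he'b, mul_zero, zero_smul, add_zero]
    refine ⟨?_, ?_, ?_⟩
    · rw [← h5, D.fo_ap hb, h1]
    · have := D.conj hb h2
      rwa [ap, Matrix.mulVec_add, ← ap, ← ap, h5] at this
    · have := D.conj hb h4
      rwa [ap, Matrix.mulVec_sub, ← ap, ← ap, h5] at this
  have hXX : ∀ y z, X y → X z → tGL e' (8 * g ^ 2 * fo z y) ∈ H := by
    rintro y z ⟨h1, h2, h4⟩ ⟨h5, h6, h7⟩
    have h8 := sg_comm h1 h5 g
    have hy : sg e' g y ∈ H := H.mul_mem h4 (t_mem_neg h2)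
    have hz : sg e' g z ∈ H := H.mul_mem h7 (t_mem_neg h6)
    have h9 : tGL e' (8 * g ^ 2 * fo z y) = sg e' g y * sg e' g z * (sg e' g z * sg e' g y)⁻¹ := by
      rw [h8, mul_inv_cancel_right]
    rw [h9]
    exact H.mul_mem (H.mul_mem hy hz) (H.inv_mem (H.mul_mem hz hy))
  set α := fo e a with hα
  set β := fo e b with hβ
  set κ : F := 8 * g ^ 2 with hκ
  have h8 : (8 : F) ≠ 0 := by
    intro h
    apply one_ne_zero (α := F)
    linear_combination 3 * h3 - h
  have hκ0 : κ ≠ 0 := mul_ne_zero h8 (pow_ne_zero 2 hg)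
  have hax : fo a x = -α := by rw [sympForm_swap, hxa]
  have hbx : fo b x = -β := by rw [sympForm_swap, hxb]
  -- three elements
  have m1 : tGL e' (κ * (c * α ^ 2)) ∈ H := by
    have h1 := t_mem_neg (hXX x _ hXx (hXa x hXx))
    rw [ap_t, sympForm_add_left, sympForm_smul_left, sympForm_self, hxa, hax] at h1
    have e1 : -(κ * (0 + c * α * -α)) = κ * (c * α ^ 2) := by ring
    rwa [e1] at h1
  have m2 : tGL e' (κ * (d * β ^ 2)) ∈ H := by
    have h1 := t_mem_neg (hXX x _ hXx (hXb x hXx))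
    rw [ap_t, sympForm_add_left, sympForm_smul_left, sympForm_self, hxb, hbx] at h1
    have e1 : -(κ * (0 + d * β * -β)) = κ * (d * β ^ 2) := by ring
    rwa [e1] at h1
  have m3 : tGL e' (κ * (c * d * α * β * φ)) ∈ H := by
    have h1 := t_mem_neg (hXX x _ hXx (hXb _ (hXa x hXx)))
    rw [ap_t, ap_t] at h1
    simp only [sympForm_add_left, sympForm_smul_left, sympForm_self, hxa, hxb, hax, hbx, ← hφ] at h1
    have h2 := t_mem_sub (t_mem_sub h1 m1) m2
    have e1 : -(κ * (0 + c * α * -α + d * (β + c * α * φ) * -β)) - κ * (c * α ^ 2) - κ * (d * β ^ 2) =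
        κ * (c * d * α * β * φ) := by ring
    rwa [e1] at h2
  have hsm : Small H e' := D.small_all h3 hsmall (Cen.of_ne (fun h => by
      rw [h, sympForm_zero_left] at hφ
      exact hab hφ) hc ha)
    (Cen.of_ne he'0 (mul_ne_zero hκ0 (mul_ne_zero hc (pow_ne_zero 2 hea))) m1)
  obtain ⟨w, hw⟩ := hsm
  have hn1 : κ * (c * α ^ 2) ≠ 0 := mul_ne_zero hκ0 (mul_ne_zero hc (pow_ne_zero 2 hea))
  have hn2 : κ * (d * β ^ 2) ≠ 0 := mul_ne_zero hκ0 (mul_ne_zero hd (pow_ne_zero 2 heb))
  have hn3 : κ * (c * d * α * β * φ) ≠ 0 :=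
    mul_ne_zero hκ0 (mul_ne_zero (mul_ne_zero (mul_ne_zero (mul_ne_zero hc hd) hea) heb) hab)
  have s1 : (κ * (c * α ^ 2)) ^ 2 = w ^ 2 := by
    rcases hw _ m1 with h | h | h
    · exact absurd h hn1
    · rw [h]
    · rw [h, neg_sq]
  have s2 : (κ * (d * β ^ 2)) ^ 2 = w ^ 2 := by
    rcases hw _ m2 with h | h | h
    · exact absurd h hn2
    · rw [h]
    · rw [h, neg_sq]
  have s3 : (κ * (c * d * α * β * φ)) ^ 2 = w ^ 2 := by
    rcases hw _ m3 with h | h | h
    · exact absurd h hn3
    · rw [h]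
    · rw [h, neg_sq]
  have hw0 : w ≠ 0 := by
    rintro rfl
    rw [zero_pow two_ne_zero] at s1
    exact pow_ne_zero 2 hn1 s1
  -- `γ² = 1`
  have e1 : (κ * (c * d * α * β * φ)) ^ 2 * (κ * (c * d * α * β * φ)) ^ 2 =
      (κ * (c * α ^ 2)) ^ 2 * (κ * (d * β ^ 2)) ^ 2 * (c * d * φ ^ 2) ^ 2 := by ring
  rw [s1, s2, s3, hγ] at e1
  have e2 : 2 * (w ^ 2 * w ^ 2) = 0 := by linear_combination e1
  rcases mul_eq_zero.1 e2 with h | h
  · exact D.two h
  · rcases mul_eq_zero.1 h with h | h <;> exact pow_ne_zero 2 hw0 h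

end Cfsg.Agent.H262.Tv
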