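import Cfsg.Agent.H262.ElTvC

/-!
# Irreducible groups generated by symplectic transvections, odd characteristic: the field and the
rational structure
-/

set_option autoImplicit false

namespace Cfsg.Agent.H262.Tv

open Cfsg Module
open Cfsg.Agent.ClassicalGeometry.SympBasic Cfsg.Agent.H876 Cfsg.Agent.H931
open scoped Matrix MatrixGroups

variable {F : Type*} [Field F] {m : ℕ}

local notation "fo" => sympForm m F

variable {H : Subgroup (GL (Fin m ⊕ Fin m) F)}

/-- closed under multiplication by `r ≠ 0` implies closed under division by `r` -/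
theorem div_closed [Finite F] {P : F → Prop} {r : F} (hr : r ≠ 0) (h : ∀ s, P s → P (r * s)) {s : F} (hs : P s) :
    P (r⁻¹ * s) := by
  have : Fintype F := Fintype.ofFinite F
  have h1 : ∀ n : ℕ, P (r ^ n * s) := by
    intro n
    induction n with
    | zero => rwa [pow_zero, one_mul]
    | succ n ih =>
      rw [pow_succ', mul_assoc]
      exact h _ ih
  have h2 : r⁻¹ = r ^ (Fintype.card F - 2) := by
    have h3 := FiniteField.pow_card_sub_one_eq_one r hr
    have h4 : Fintype.card F - 1 = (Fintype.card F - 2) + 1 := by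
      have := Fintype.one_lt_card (α := F)
      omega
    rw [h4, pow_succ] at h3
    exact (eq_inv_of_mul_eq_one_left h3).symm
  rw [h2]
  exact h1 _

/-- closure properties of the transvections with a given center -/
theorem Dat.mul_mem_edge [Finite F] (D : Dat H) {x y : Fin m ⊕ Fin m → F} (hxy : fo x y ≠ 0) {c d : F} (hc : c ≠ 0)
    (hd : d ≠ 0) (hx : tGL x c ∈ H) (hy : tGL y d ∈ H) {s t : F} (hs : tGL x (s * c) ∈ H)
    (ht : tGL x (t * c) ∈ H) : tGL x (s * t * c) ∈ H := by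
  set φ := fo x y with hφ
  set γ := c * d * φ ^ 2 with hγ
  have hγ0 : γ ≠ 0 := mul_ne_zero (mul_ne_zero hc hd) (pow_ne_zero 2 hxy)
  have hsq : ∀ u : F, tGL x (u * c) ∈ H → tGL x (u ^ 2 * γ * c) ∈ H := by
    intro u hu
    by_cases hu0 : u = 0
    · rw [hu0, zero_pow two_ne_zero, zero_mul, zero_mul, t_zero]
      exact H.one_mem
    · have h1 := D.good hxy (mul_ne_zero hu0 hc) hd hu hy
      have e1 : u * c * (u * c * d * φ ^ 2) = u ^ 2 * γ * c := by rw [hγ]; ring
      rwa [e1] at h1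
  have hprod : ∀ u v : F, tGL x (u * c) ∈ H → tGL x (v * c) ∈ H → tGL x (u * v * γ * c) ∈ H := by
    intro u v hu hv
    have h1 : tGL x ((u + v) * c) ∈ H := by
      rw [add_mul]
      exact t_mem_add hu hv
    have h2 := t_mem_sub (t_mem_sub (hsq _ h1) (hsq u hu)) (hsq v hv)
    have e1 : (u + v) ^ 2 * γ * c - u ^ 2 * γ * c - v ^ 2 * γ * c = 2 * (u * v * γ * c) := by ring
    rw [e1] at h2
    have h3 := div_closed (P := fun w => tGL x w ∈ H) D.two (fun w hw => by
      rw [two_mul]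
      exact t_mem_add hw hw) h2
    change tGL x (2⁻¹ * (2 * (u * v * γ * c))) ∈ H at h3
    rwa [inv_mul_cancel_left₀ D.two] at h3
  have hγdiv : tGL x (γ⁻¹ * (t * c)) ∈ H := by
    refine div_closed (P := fun w => tGL x w ∈ H) hγ0 (fun w hw => ?_) ht
    have e1 : w = (w / c) * c := by field_simp
    rw [e1] at hw
    have h1 := hprod (w / c) 1 hw (by rwa [one_mul])
    have e2 : w / c * 1 * γ * c = γ * w := by field_simp
    rwa [e2] at h1
  have e1 : γ⁻¹ * (t * c) = (γ⁻¹ * t) * c := by ring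
  rw [e1] at hγdiv
  have h1 := hprod s (γ⁻¹ * t) hs hγdiv
  have e2 : s * (γ⁻¹ * t) * γ * c = s * t * c := by field_simp
  rwa [e2] at h1

theorem Dat.edge_transfer [Finite F] (D : Dat H) {x y : Fin m ⊕ Fin m → F} (hxy : fo x y ≠ 0) {c d : F}
    (hc : c ≠ 0) (hd : d ≠ 0) (hx : tGL x c ∈ H) (hy : tGL y d ∈ H) {s : F} (hs : tGL x (s * c) ∈ H) :
    tGL y (s * d) ∈ H := by
  by_cases hs0 : s = 0
  · rw [hs0, zero_mul, t_zero]
    exact H.one_mem
  have hyx : fo y x ≠ 0 := by rw [sympForm_swap]; exact neg_ne_zero.2 hxy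
  set φ := fo y x with hφ
  set γ := d * c * φ ^ 2 with hγ
  have hγ0 : γ ≠ 0 := mul_ne_zero (mul_ne_zero hd hc) (pow_ne_zero 2 hyx)
  have h1 : tGL y (γ * d) ∈ H := by
    have := D.good hyx hd hc hy hx
    rwa [mul_comm] at this
  have h2 : tGL y (s * γ * d) ∈ H := by
    have := D.good hyx hd (mul_ne_zero hs0 hc) hy hs
    have e1 : d * (d * (s * c) * φ ^ 2) = s * γ * d := by rw [hγ]; ring
    rwa [e1] at this
  have h3 : tGL y (γ⁻¹ * (s * γ * d)) ∈ H := by
    refine div_closed (P := fun w => tGL y w ∈ H) hγ0 (fun w hw => ?_) h2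
    have e1 : w = (w / d) * d := by field_simp
    rw [e1] at hw
    have h4 := D.mul_mem_edge hyx hd hc hy hx h1 hw
    have e2 : γ * (w / d) * d = γ * w := by field_simp
    rwa [e2] at h4
  have e3 : γ⁻¹ * (s * γ * d) = s * d := by field_simp
  rwa [e3] at h3

/-- the multiplier field -/
def In (H : Subgroup (GL (Fin m ⊕ Fin m) F)) (s : F) : Prop :=
  ∀ (x : Fin m ⊕ Fin m → F) (c : F), tGL x c ∈ H → tGL x (s * c) ∈ H

/-- the multiplier field as a subfield -/
def mf [Finite F] (H : Subgroup (GL (Fin m ⊕ Fin m) F)) : Subfield F where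
  carrier := {s | In H s}
  mul_mem' {s t} hs ht x c h := by
    rw [mul_assoc]
    exact hs x _ (ht x c h)
  one_mem' x c h := by rwa [one_mul]
  add_mem' {s t} hs ht x c h := by
    rw [add_mul]
    exact t_mem_add (hs x c h) (ht x c h)
  zero_mem' x c h := by
    rw [zero_mul, t_zero]
    exact H.one_mem
  neg_mem' {s} hs x c h := by
    rw [neg_mul]
    exact t_mem_neg (hs x c h)
  inv_mem' s hs x c h := by
    by_cases hs0 : s = 0
    · rw [hs0, inv_zero, zero_mul, t_zero]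
      exact H.one_mem
    · exact div_closed (P := fun w => tGL x w ∈ H) hs0 (fun w hw => hs x w hw) h

theorem mem_mf [Finite F] {s : F} : s ∈ mf H ↔ In H s := Iff.rfl

theorem Dat.in_of [Finite F] (D : Dat H) {x : Fin m ⊕ Fin m → F} (hx0 : x ≠ 0) {c s : F} (hc : c ≠ 0)
    (hx : tGL x c ∈ H) (hs : tGL x (s * c) ∈ H) : s ∈ mf H := by
  -- all elements with center `y`
  have key : ∀ y, Relation.ReflTransGen (Adj H) x y → y = x ∨ ∀ d, d ≠ 0 → tGL y d ∈ H → tGL y (s * d) ∈ H := by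
    intro y hy
    induction hy with
    | refl => exact Or.inl rfl
    | tail _ hyz ih =>
      right
      intro d hd hdH
      rcases ih with rfl | ih
      · exact D.edge_transfer hyz.2.2 hc hd hx hdH hs
      · obtain ⟨⟨-, c', hc', hc'H⟩, -, hφ⟩ := hyz
        exact D.edge_transfer hφ hc' hd hc'H hdH (ih c' hc' hc'H)
  have hxc : Cen H x := Cen.of_ne hx0 hc hx
  have key2 : ∀ y, Cen H y → ∀ d, d ≠ 0 → tGL y d ∈ H → tGL y (s * d) ∈ H := by
    intro y hyc d hd hdH
    rcases key y (D.connected hxc hyc) with rfl | h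
    · obtain ⟨z, hz⟩ := D.exists_adj hxc
      obtain ⟨-, ⟨-, e, he, heH⟩, hφ⟩ := hz
      have h1 := D.edge_transfer hφ hc he hx heH hs
      exact D.edge_transfer (by rw [sympForm_swap]; exact neg_ne_zero.2 hφ) he hd heH hdH h1
    · exact h d hd hdH
  intro y d hdH
  by_cases hd : d = 0
  · rw [hd, mul_zero, t_zero]
    exact H.one_mem
  by_cases hy : y = 0
  · subst hy
    have h1 : tGL (0 : Fin m ⊕ Fin m → F) (s * d) = 1 := by
      apply gl_ext
      intro v
      change ap _ v = ap _ v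
      rw [ap_t, ap_one, smul_zero, add_zero]
    rw [h1]
    exact H.one_mem
  exact key2 y (Cen.of_ne hy hd hdH) d hd hdH

/-- the values on edges -/
theorem Dat.val_mem [Finite F] (D : Dat H) {x y : Fin m ⊕ Fin m → F} {c d : F} (hx : tGL x c ∈ H)
    (hy : tGL y d ∈ H) : c * d * (fo x y) ^ 2 ∈ mf H := by
  by_cases h0 : c * d * (fo x y) ^ 2 = 0
  · rw [h0]
    exact (mf H).zero_mem
  have hc : c ≠ 0 := fun h => h0 (by rw [h]; ring)
  have hd : d ≠ 0 := fun h => h0 (by rw [h]; ring)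
  have hφ : fo x y ≠ 0 := fun h => h0 (by rw [h]; ring)
  have hx0 : x ≠ 0 := by
    rintro rfl
    exact hφ (sympForm_zero_left y)
  refine D.in_of hx0 hc hx ?_
  have h1 := D.good hφ hc hd hx hy
  rwa [mul_comm] at h1

/-! ### The rational structure -/

section rat

variable [Finite F] (H)

/-- the normalised centers -/
def Om (κ : F) (x : Fin m ⊕ Fin m → F) : Prop := x ≠ 0 ∧ tGL x κ ∈ H

/-- the relation -/
def Rr (κ : F) (x y : Fin m ⊕ Fin m → F) : Prop :=
  Om H κ x ∧ Om H κ y ∧ κ * fo x y ∈ mf H ∧ κ * fo x y ≠ 0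

variable {H} {κ : F}

theorem Rr.symm {x y : Fin m ⊕ Fin m → F} (h : Rr H κ x y) : Rr H κ y x := by
  obtain ⟨h1, h2, h3, h4⟩ := h
  have e : κ * fo y x = -(κ * fo x y) := by rw [sympForm_swap y x]; ring
  exact ⟨h2, h1, by rw [e]; exact (mf H).neg_mem h3, by rw [e]; exact neg_ne_zero.2 h4⟩

theorem Dat.sq_mem (D : Dat H) {x y : Fin m ⊕ Fin m → F} (hx : Om H κ x) (hy : Om H κ y) :
    (κ * fo x y) ^ 2 ∈ mf H := by
  have h1 := D.val_mem hx.2 hy.2
  have e : κ * κ * (fo x y) ^ 2 = (κ * fo x y) ^ 2 := by ring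
  rwa [e] at h1

/-- moving a normalised center -/
theorem Dat.om_move (D : Dat H) {y z : Fin m ⊕ Fin m → F} (hy : Om H κ y) (hz : Om H κ z) {s : F}
    (hs : s ∈ mf H) : Om H κ (z + (s * (κ * fo z y)) • y) := by
  have h1 := hs y κ hy.2
  have h2 : ap (tGL y (s * κ)) z = z + (s * (κ * fo z y)) • y := by
    rw [ap_t]
    congr 2
    ring
  rw [← h2]
  exact ⟨ap_ne_zero hz.1, D.conj h1 hz.2⟩

theorem Dat.tri (D : Dat H) {x y z : Fin m ⊕ Fin m → F} (hxy : Rr H κ x y) (hyz : Rr H κ y z) :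
    κ * fo x z ∈ mf H := by
  obtain ⟨hx, hy, h1, h2⟩ := hxy
  obtain ⟨h3, h4⟩ := hyz.symm.2.2
  have hz := hyz.2.1
  have hu := D.om_move hy hz (mf H).one_mem
  have e1 := D.sq_mem hx hu
  have e2 := D.sq_mem hx hz
  have h5 : (κ * fo z y) * (κ * fo x y) ∈ mf H := (mf H).mul_mem h3 h1
  have h50 : (κ * fo z y) * (κ * fo x y) ≠ 0 := mul_ne_zero h4 h2
  have h2m : (2 : F) ∈ mf H := by
    have := (mf H).add_mem (mf H).one_mem (mf H).one_mem
    rwa [one_add_one_eq_two] at this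
  have h6 : 2 * (κ * fo x z) * ((κ * fo z y) * (κ * fo x y)) ∈ mf H := by
    have h7 := (mf H).sub_mem ((mf H).sub_mem e1 e2) ((mf H).mul_mem h5 h5)
    have e3 : (κ * fo x (z + (1 * (κ * fo z y)) • y)) ^ 2 - (κ * fo x z) ^ 2 -
        (κ * fo z y) * (κ * fo x y) * ((κ * fo z y) * (κ * fo x y)) =
        2 * (κ * fo x z) * ((κ * fo z y) * (κ * fo x y)) := by
      rw [sympForm_add_right, sympForm_smul_right]
      ring
    rwa [e3] at h7
  have h8 := (mf H).div_mem h6 ((mf H).mul_mem h2m h5)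
  have e4 : 2 * (κ * fo x z) * ((κ * fo z y) * (κ * fo x y)) / (2 * ((κ * fo z y) * (κ * fo x y))) =
      κ * fo x z := by
    rw [div_eq_iff (mul_ne_zero D.two h50)]
    ring
  rwa [e4] at h8

theorem Dat.three (D : Dat H) {x y z w : Fin m ⊕ Fin m → F} (hxy : Rr H κ x y) (hyz : Rr H κ y z)
    (hzw : Rr H κ z w) : ∃ u, Rr H κ x u ∧ Rr H κ u w := by
  by_cases h0 : κ * fo x z = 0
  swap
  · exact ⟨z, ⟨hxy.1, hyz.2.1, D.tri hxy hyz, h0⟩, hzw⟩
  have hyw := D.tri hyz hzw
  obtain ⟨hx, hy, h1, h2⟩ := hxy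
  obtain ⟨h3, h4⟩ := hyz.symm.2.2
  have hz := hyz.2.1
  obtain ⟨-, hw, h5, h6⟩ := hzw
  have hκ : κ ≠ 0 := left_ne_zero_of_mul h2
  have h0' : fo x z = 0 := (mul_eq_zero.1 h0).resolve_left hκ
  have main : ∀ s : F, s ∈ mf H → s ≠ 0 →
      κ * fo z w + s * (κ * fo z y) * (κ * fo y w) ≠ 0 → ∃ u, Rr H κ x u ∧ Rr H κ u w := by
    intro s hs hs0 hne
    have hu := D.om_move hy hz hs
    have e1 : κ * fo x (z + (s * (κ * fo z y)) • y) = s * (κ * fo z y) * (κ * fo x y) := by
      rw [sympForm_add_right, sympForm_smul_right, h0']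
      ring
    have e2 : κ * fo (z + (s * (κ * fo z y)) • y) w = κ * fo z w + s * (κ * fo z y) * (κ * fo y w) := by
      rw [sympForm_add_left, sympForm_smul_left]
      ring
    refine ⟨_, ⟨hx, hu, ?_, ?_⟩, ⟨hu, hw, ?_, ?_⟩⟩
    · rw [e1]
      exact (mf H).mul_mem ((mf H).mul_mem hs h3) h1
    · rw [e1]
      exact mul_ne_zero (mul_ne_zero hs0 h4) h2
    · rw [e2]
      exact (mf H).add_mem h5 ((mf H).mul_mem ((mf H).mul_mem hs h3) hyw)
    · rw [e2]
      exact hne
  by_cases h7 : κ * fo z w + 1 * (κ * fo z y) * (κ * fo y w) = 0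
  · refine main (-1) ((mf H).neg_mem (mf H).one_mem) (neg_ne_zero.2 one_ne_zero) ?_
    intro h8
    apply h6
    have h9 : 2 * (κ * fo z w) = 0 := by linear_combination h7 + h8
    exact (mul_eq_zero.1 h9).resolve_left D.two
  · exact main 1 (mf H).one_mem one_ne_zero h7

theorem Dat.diam (D : Dat H) {x y : Fin m ⊕ Fin m → F} (h : Relation.ReflTransGen (Rr H κ) x y) :
    y = x ∨ Rr H κ x y ∨ ∃ u, Rr H κ x u ∧ Rr H κ u y := by
  induction h with
  | refl => exact Or.inl rfl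
  | tail _ hyz ih =>
    rcases ih with rfl | ih | ⟨u, h1, h2⟩
    · exact Or.inr (Or.inl hyz)
    · exact Or.inr (Or.inr ⟨_, ih, hyz⟩)
    · obtain ⟨v, h3, h4⟩ := D.three h1 h2 hyz
      exact Or.inr (Or.inr ⟨v, h3, h4⟩)

theorem Dat.val_of_path (D : Dat H) {x y : Fin m ⊕ Fin m → F} (h : Relation.ReflTransGen (Rr H κ) x y) :
    κ * fo x y ∈ mf H := by
  rcases D.diam h with rfl | h | ⟨u, h1, h2⟩
  · rw [sympForm_self, mul_zero]
    exact (mf H).zero_mem
  · exact h.2.2.1
  · exact D.tri h1 h2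

theorem path_symm {x y : Fin m ⊕ Fin m → F} (h : Relation.ReflTransGen (Rr H κ) x y) :
    Relation.ReflTransGen (Rr H κ) y x := by
  induction h with
  | refl => exact Relation.ReflTransGen.refl
  | tail _ hyz ih => exact Relation.ReflTransGen.head hyz.symm ih

theorem om_of_path {x y : Fin m ⊕ Fin m → F} (hx : Om H κ x) (h : Relation.ReflTransGen (Rr H κ) x y) :
    Om H κ y := by
  rcases Relation.ReflTransGen.cases_tail h with rfl | ⟨z, -, hz⟩
  · exact hx
  · exact hz.2.1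

/-- transvections in `H` preserve the component -/
theorem Dat.path_move (D : Dat H) (hκ : κ ≠ 0) {a x b : Fin m ⊕ Fin m → F} {c : F} (ha : Om H κ a)
    (hx : Relation.ReflTransGen (Rr H κ) a x) (hb : tGL b c ∈ H) :
    Relation.ReflTransGen (Rr H κ) a (ap (tGL b c) x) := by
  have hxo := om_of_path ha hx
  by_cases h0 : c * fo x b = 0
  · rw [ap_t, h0, zero_smul, add_zero]
    exact hx
  have hc : c ≠ 0 := left_ne_zero_of_mul h0
  have hxb : fo x b ≠ 0 := right_ne_zero_of_mul h0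
  have hb0 : b ≠ 0 := by
    rintro rfl
    exact hxb (sympForm_zero_right x)
  set lam : F := (κ * fo x b)⁻¹ with hlam
  have hlam0 : lam ≠ 0 := inv_ne_zero (mul_ne_zero hκ hxb)
  -- the normalised multiple of `b`
  have hv := D.val_mem hxo.2 hb
  have hv0 : κ * c * (fo x b) ^ 2 ≠ 0 := mul_ne_zero (mul_ne_zero hκ hc) (pow_ne_zero 2 hxb)
  have hvi := (mf H).inv_mem hv
  have hb' : Om H κ (lam • b) := by
    refine ⟨smul_ne_zero hlam0 hb0, ?_⟩
    rw [t_smul]
    have h1 := hvi b c hb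
    have e1 : (κ * c * (fo x b) ^ 2)⁻¹ * c = lam ^ 2 * κ := by
      rw [hlam]
      field_simp
    rwa [e1] at h1
  have hg : κ * fo x (lam • b) = 1 := by
    rw [sympForm_smul_right, hlam]
    field_simp
  have hxb' : Rr H κ x (lam • b) := ⟨hxo, hb', by rw [hg]; exact (mf H).one_mem, by rw [hg]; exact one_ne_zero⟩
  have hx' : Om H κ (ap (tGL b c) x) := ⟨ap_ne_zero hxo.1, D.conj hb hxo.2⟩
  have hg' : κ * fo (ap (tGL b c) x) (lam • b) = 1 := by
    have hbb : fo b (lam • b) = 0 := by rw [sympForm_smul_right, sympForm_self, mul_zero]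
    rw [ap_t, sympForm_add_left, sympForm_smul_left, hbb, mul_zero, add_zero, hg]
  have h2 : Rr H κ (ap (tGL b c) x) (lam • b) :=
    ⟨hx', hb', by rw [hg']; exact (mf H).one_mem, by rw [hg']; exact one_ne_zero⟩
  exact (hx.tail hxb').tail h2.symm

end rat

end Cfsg.Agent.H262.Tv
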