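import Cfsg.Agent.H262.ElTvD

/-!
# Irreducible groups generated by symplectic transvections, odd characteristic: the theorem
-/

set_option autoImplicit false

namespace Cfsg.Agent.H262.Tv

open Cfsg Module
open Cfsg.Agent.ClassicalGeometry.SympBasic Cfsg.Agent.H876 Cfsg.Agent.H931
open scoped Matrix MatrixGroups

variable {F : Type*} [Field F] {m : ℕ}

local notation "fo" => sympForm m F

variable {H : Subgroup (GL (Fin m ⊕ Fin m) F)}

/-! ### Full root groups -/

theorem Dat.exists_cen_ne (D : Dat H) {p : Fin m ⊕ Fin m → F} (hp : p ≠ 0) : ∃ w, Cen H w ∧ fo p w ≠ 0 := by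
  by_contra hcon
  push Not at hcon
  rcases D.irr (Submodule.span F {p}) (by
    intro e c hec v hv
    rw [ap_t]
    by_cases h0 : c * fo v e = 0
    · rw [h0, zero_smul, add_zero]
      exact hv
    · exfalso
      obtain ⟨s, rfl⟩ := Submodule.mem_span_singleton.1 hv
      have h1 := hcon e (cen_of_t hec h0)
      rw [sympForm_smul_left, h1, mul_zero, mul_zero] at h0
      exact h0 rfl) with h | h
  · exact hp (Submodule.span_singleton_eq_bot.1 h)
  · have h1 : finrank F (Submodule.span F ({p} : Set (Fin m ⊕ Fin m → F))) ≤ 1 :=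
      (finrank_span_le_card (R := F) ({p} : Set (Fin m ⊕ Fin m → F))).trans (by simp)
    rw [h, finrank_top, Module.finrank_fintype_fun_eq_card, Fintype.card_sum, Fintype.card_fin] at h1
    have := D.dim
    omega

theorem cen_smul {x : Fin m ⊕ Fin m → F} (hx : Cen H x) {s : F} (hs : s ≠ 0) : Cen H (s • x) := by
  obtain ⟨h0, c, hc, h⟩ := hx
  refine ⟨smul_ne_zero hs h0, (s ^ 2)⁻¹ * c, mul_ne_zero (inv_ne_zero (pow_ne_zero 2 hs)) hc, ?_⟩
  rw [t_smul, mul_inv_cancel_left₀ (pow_ne_zero 2 hs)]
  exact h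

section full

variable [Finite F] (hall : ∀ s : F, In H s)

include hall

theorem full_t {x : Fin m ⊕ Fin m → F} (hx : Cen H x) (c : F) : tGL x c ∈ H := by
  obtain ⟨-, d, hd, h⟩ := hx
  have := hall (c / d) x d h
  rwa [div_mul_cancel₀ _ hd] at this

theorem add_adj (D : Dat H) {x y : Fin m ⊕ Fin m → F} (hx : Cen H x) (hy : Cen H y) (h : fo x y ≠ 0) :
    Cen H (x + y) := by
  have h1 := D.cen_conj (full_t hall hy (fo x y)⁻¹) hx
  rwa [ap_t, inv_mul_cancel₀ h, one_smul] at h1

theorem add_core (D : Dat H) {x y z : Fin m ⊕ Fin m → F} (hx : Cen H x) (hy : Cen H y) (hz : Cen H z)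
    (hxy : fo x y = 0) (h1 : fo x z ≠ 0) (h2 : fo z y ≠ 0) (h3 : fo (x + y) z ≠ 0) : Cen H (x + y) := by
  have e1 := add_adj hall D hx hz h1
  have e2 := add_adj hall D e1 hy (by rwa [sympForm_add_left, hxy, zero_add])
  have e3 := add_adj hall D e2 (cen_smul hz (neg_ne_zero.2 (one_ne_zero (α := F)))) (by
    rw [sympForm_smul_right, sympForm_add_left, sympForm_add_left, sympForm_self, add_zero, ← sympForm_add_left]
    exact mul_ne_zero (neg_ne_zero.2 one_ne_zero) h3)
  have e4 : x + z + y + (-1 : F) • z = x + y := by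
    rw [neg_one_smul]
    abel
  rwa [e4] at e3

theorem exists_mid (D : Dat H) {x y : Fin m ⊕ Fin m → F} (hx : Cen H x) (hy : Cen H y) (hne : y ≠ x)
    (hxy : fo x y = 0) : ∃ u, Cen H u ∧ fo x u ≠ 0 ∧ fo u y ≠ 0 := by
  have hR : ∀ {a b : Fin m ⊕ Fin m → F}, Adj H a b → Rr H 1 a b := by
    rintro a b ⟨ha, hb, hab⟩
    refine ⟨⟨ha.1, full_t hall ha 1⟩, ⟨hb.1, full_t hall hb 1⟩, hall _, ?_⟩
    rwa [one_mul]
  have hp : Relation.ReflTransGen (Rr H 1) x y :=
    Relation.ReflTransGen.mono (fun _ _ h => hR h) _ _ (D.connected hx hy)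
  rcases D.diam hp with h | h | ⟨u, h1, h2⟩
  · exact absurd h hne
  · exfalso
    have := h.2.2.2
    rw [hxy, mul_zero] at this
    exact this rfl
  · refine ⟨u, ⟨h2.1.1, 1, one_ne_zero, h2.1.2⟩, ?_, ?_⟩
    · have := h1.2.2.2
      rwa [one_mul] at this
    · have := h2.2.2.2
      rwa [one_mul] at this

/-- the asymmetric case -/
theorem add_asym (D : Dat H) {x y u w : Fin m ⊕ Fin m → F} (hx : Cen H x) (hy : Cen H y) (hu : Cen H u)
    (hw : Cen H w) (hxy : fo x y = 0) (hxu : fo x u ≠ 0) (huy : fo u y ≠ 0) (hwy : fo w y = 0) (hwx : fo w x ≠ 0) :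
    Cen H (x + y) := by
  have hux : fo u x ≠ 0 := by rw [sympForm_swap]; exact neg_ne_zero.2 hxu
  have hyx : fo y x = 0 := by rw [sympForm_swap, hxy, neg_zero]
  have hyw : fo y w = 0 := by rw [sympForm_swap, hwy, neg_zero]
  -- adjust `w` to be adjacent to `u`
  obtain ⟨w', hw', h1, h2, h3⟩ : ∃ w', Cen H w' ∧ fo w' u ≠ 0 ∧ fo w' x = fo w x ∧ fo w' y = 0 := by
    by_cases h0 : fo w u = 0
    · refine ⟨w + x, add_adj hall D hw hx hwx, ?_, ?_, ?_⟩
      · rwa [sympForm_add_left, h0, zero_add]
      · rw [sympForm_add_left, sympForm_self, add_zero]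
      · rw [sympForm_add_left, hwy, hxy, add_zero]
    · exact ⟨w, hw, h0, rfl, hwy⟩
  set μ : F := fo w x / fo u x with hμ
  have hμ0 : μ ≠ 0 := div_ne_zero hwx hux
  have hz : Cen H (w' + μ • u) := add_adj hall D hw' (cen_smul hu hμ0) (by
    rw [sympForm_smul_right]
    exact mul_ne_zero hμ0 h1)
  have e1 : fo (w' + μ • u) x = 2 * fo w x := by
    rw [sympForm_add_left, sympForm_smul_left, h2, hμ, div_mul_cancel₀ _ hux]
    ring
  have e2 : fo (w' + μ • u) y = μ * fo u y := by
    rw [sympForm_add_left, sympForm_smul_left, h3, zero_add]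
  by_cases h4 : fo (x + y) (w' + μ • u) = 0
  · -- then use `w'' = w' - μ u`... instead scale differently
    have e3 : 2 * fo w x + μ * fo u y = 0 := by
      rw [sympForm_swap, sympForm_add_right, e1, e2] at h4
      linear_combination -h4
    -- use the factor `2 μ`
    have h2μ : 2 * μ ≠ 0 := mul_ne_zero D.two hμ0
    have hz' : Cen H (w' + (-μ) • u) := add_adj hall D hw' (cen_smul hu (neg_ne_zero.2 hμ0)) (by
      rw [sympForm_smul_right]
      exact mul_ne_zero (neg_ne_zero.2 hμ0) h1)
    -- `fo (w' - μ u) x = 0`: not usable; use `u` itself or a combination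
    by_cases h5 : fo (x + y) u = 0
    · exfalso
      have h6 : fo u x + fo u y = 0 := by
        rw [sympForm_swap, sympForm_add_right] at h5
        linear_combination -h5
      have h7 : fo w x = 0 := by
        have h8 : μ * fo u x = fo w x := by rw [hμ, div_mul_cancel₀ _ hux]
        linear_combination e3 - μ * h6 + h8
      exact hwx h7
    · exact add_core hall D hx hy hu hxy hxu huy h5
  · refine add_core hall D hx hy hz hxy ?_ ?_ h4
    · rw [sympForm_swap, e1]
      exact neg_ne_zero.2 (mul_ne_zero D.two hwx)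
    · rw [e2]
      exact mul_ne_zero hμ0 huy

theorem add_cen (D : Dat H) {x y : Fin m ⊕ Fin m → F} (hx : Cen H x) (hy : Cen H y) (hne : x + y ≠ 0) :
    Cen H (x + y) := by
  by_cases hxy : fo x y = 0
  swap
  · exact add_adj hall D hx hy hxy
  by_cases he : y = x
  · subst he
    rw [← two_smul F]
    exact cen_smul hx D.two
  obtain ⟨u, hu, h1, h2⟩ := exists_mid hall D hx hy he hxy
  by_cases h3 : fo (x + y) u = 0
  swap
  · exact add_core hall D hx hy hu hxy h1 h2 h3
  obtain ⟨w, hw, h4⟩ := D.exists_cen_ne hne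
  by_cases h5 : fo w y = 0
  · refine add_asym hall D hx hy hu hw hxy h1 h2 h5 ?_
    intro h6
    apply h4
    rw [sympForm_swap, sympForm_add_right, h5, h6, add_zero, neg_zero]
  · by_cases h6 : fo w x = 0
    · rw [add_comm]
      refine add_asym hall D hy hx hu hw ?_ ?_ ?_ h6 h5
      · rw [sympForm_swap, hxy, neg_zero]
      · rw [sympForm_swap]
        exact neg_ne_zero.2 h2
      · rw [sympForm_swap]
        exact neg_ne_zero.2 h1
    · refine add_core hall D hx hy hw hxy ?_ h5 h4
      rw [sympForm_swap]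
      exact neg_ne_zero.2 h6

/-- If the multiplier field is everything then `H` contains `Sp_2m(q)`. -/
theorem le_of_full (D : Dat H) : spGL m F ≤ H := by
  let W : Submodule F (Fin m ⊕ Fin m → F) :=
    { carrier := {v | v = 0 ∨ Cen H v}
      zero_mem' := Or.inl rfl
      add_mem' := by
        rintro x y (rfl | hx) (rfl | hy)
        · left; rw [add_zero]
        · right; rwa [zero_add]
        · right; rwa [add_zero]
        · by_cases h : x + y = 0
          · exact Or.inl h
          · exact Or.inr (add_cen hall D hx hy h)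
      smul_mem' := by
        rintro s x (rfl | hx)
        · left; rw [smul_zero]
        · by_cases hs : s = 0
          · left; rw [hs, zero_smul]
          · exact Or.inr (cen_smul hx hs) }
  have hW : W = ⊤ := by
    rcases D.irr W (by
      rintro b c hbc v (rfl | hv)
      · left
        rw [ap, Matrix.mulVec_zero]
      · exact Or.inr (D.cen_conj hbc hv)) with h | h
    · exfalso
      obtain ⟨b, c, hb, hc, hbc⟩ := D.ne
      have h1 : b ∈ W := Or.inr ⟨hb, c, hc, hbc⟩
      rw [h, Submodule.mem_bot] at h1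
      exact hb h1
    · exact h
  apply spGL_le
  intro v c
  have hv : v ∈ W := by rw [hW]; trivial
  rcases hv with rfl | hv
  · have h1 : tGL (0 : Fin m ⊕ Fin m → F) c = 1 := by
      apply gl_ext
      intro v
      change ap _ v = ap _ v
      rw [ap_t, ap_one, smul_zero, add_zero]
    rw [h1]
    exact H.one_mem
  · exact full_t hall hv c

end full

/-! ### The rational basis -/

/-- the subgroup generated by the transvections in `H` -/
def Nt (H : Subgroup (GL (Fin m ⊕ Fin m) F)) : Subgroup (GL (Fin m ⊕ Fin m) F) :=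
  Subgroup.closure {t | t ∈ H ∧ ∃ b c, t = tGL b c}

theorem Dat.rational [Finite F] (D : Dat H) :
    ∃ B : GL (Fin m ⊕ Fin m) F, ∀ n ∈ Nt H, ∀ i j,
      ((B : Matrix (Fin m ⊕ Fin m) (Fin m ⊕ Fin m) F) * n * ((B⁻¹ : GL (Fin m ⊕ Fin m) F) :
        Matrix (Fin m ⊕ Fin m) (Fin m ⊕ Fin m) F)) i j ∈ mf H := by
  classical
  obtain ⟨a, κ, ha, hκ, haκ⟩ := D.ne
  have hao : Om H κ a := ⟨ha, haκ⟩
  set O : Set (Fin m ⊕ Fin m → F) := {x | Relation.ReflTransGen (Rr H κ) a x} with hO
  -- the component spans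
  have hspan : Submodule.span F O = ⊤ := by
    rcases D.irr (Submodule.span F O) (by
      intro b c hbc v hv
      induction hv using Submodule.span_induction with
      | mem x hx => exact Submodule.subset_span (D.path_move hκ hao hx hbc)
      | zero => rw [ap, Matrix.mulVec_zero]; exact Submodule.zero_mem _
      | add x y _ _ hx hy => rw [ap, Matrix.mulVec_add]; exact Submodule.add_mem _ hx hy
      | smul s x _ hx => rw [ap, Matrix.mulVec_smul]; exact Submodule.smul_mem _ _ hx) with h | h
    · exfalso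
      have h1 : a ∈ Submodule.span F O := Submodule.subset_span Relation.ReflTransGen.refl
      rw [h, Submodule.mem_bot] at h1
      exact ha h1
    · exact h
  -- a basis in the component
  obtain ⟨s, hsO, hss, hli⟩ := exists_linearIndependent F O
  rw [hspan] at hss
  have hsfin : Finite s := hli.finite
  let bs : Basis s F (Fin m ⊕ Fin m → F) := Basis.mk hli (by rw [Subtype.range_coe, hss])
  have : Fintype s := Fintype.ofFinite s
  have hcard : Fintype.card s = Fintype.card (Fin m ⊕ Fin m) := by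
    rw [← Module.finrank_eq_card_basis bs, Module.finrank_fintype_fun_eq_card]
  let e : s ≃ (Fin m ⊕ Fin m) := Fintype.equivOfCardEq hcard
  let w : Basis (Fin m ⊕ Fin m) F (Fin m ⊕ Fin m → F) := bs.reindex e
  have hw : ∀ i, w i ∈ O := by
    intro i
    rw [Basis.reindex_apply, Basis.mk_apply]
    exact hsO (e.symm i).2
  -- invariance
  have hinv : ∀ n ∈ Nt H, ∀ x ∈ O, ap n x ∈ O := by
    intro n hn
    induction hn using Subgroup.closure_induction with
    | mem t ht =>
      obtain ⟨htH, b, c, rfl⟩ := ht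
      intro x hx
      exact D.path_move hκ hao hx htH
    | one => intro x hx; rwa [ap_one]
    | mul g h _ _ hg hh => intro x hx; rw [ap_mul]; exact hg _ (hh x hx)
    | inv g _ hg =>
      intro x hx
      have hk : ∀ k : ℕ, ap (g ^ k) x ∈ O := by
        intro k
        induction k with
        | zero => rwa [pow_zero, ap_one]
        | succ k ih =>
          rw [pow_succ', ap_mul]
          exact hg _ ih
      have h1 : g⁻¹ = g ^ (orderOf g - 1) := by
        symm
        apply eq_inv_of_mul_eq_one_left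
        rw [← pow_succ, Nat.sub_add_cancel (orderOf_pos g), pow_orderOf_eq_one]
      rw [h1]
      exact hk _
  have hval : ∀ x ∈ O, ∀ y ∈ O, κ * fo x y ∈ mf H := by
    intro x hx y hy
    exact D.val_of_path ((path_symm hx).trans hy)
  -- the matrices
  let k : Subfield F := mf H
  let P : Matrix (Fin m ⊕ Fin m) (Fin m ⊕ Fin m) F := Matrix.of fun i j => w j i
  have hPj : ∀ j, P *ᵥ (Pi.single j 1) = w j := by
    intro j
    funext i
    rw [Matrix.mulVec_single_one]
    rfl
  have hPdet : P.det ≠ 0 := by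
    intro h0
    obtain ⟨c, hc0, hc⟩ := (Matrix.exists_mulVec_eq_zero_iff (M := P)).2 h0
    apply hc0
    have h1 : ∑ j, c j • w j = 0 := by
      rw [← hc]
      funext i
      rw [Finset.sum_apply, Matrix.mulVec, dotProduct]
      refine Finset.sum_congr rfl fun j _ => ?_
      rw [Pi.smul_apply, smul_eq_mul, mul_comm]
      rfl
    have h2 := Fintype.linearIndependent_iff.1 w.linearIndependent c h1
    funext j
    exact h2 j
  let B : GL (Fin m ⊕ Fin m) F := (Matrix.GeneralLinearGroup.mkOfDetNeZero P hPdet)⁻¹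
  refine ⟨B, fun n hn => ?_⟩
  have hBi : ((B⁻¹ : GL (Fin m ⊕ Fin m) F) : Matrix (Fin m ⊕ Fin m) (Fin m ⊕ Fin m) F) = P := by
    rw [inv_inv]
    rfl
  set S : Matrix (Fin m ⊕ Fin m) (Fin m ⊕ Fin m) F :=
    (B : Matrix (Fin m ⊕ Fin m) (Fin m ⊕ Fin m) F) * n * ((B⁻¹ : GL (Fin m ⊕ Fin m) F) :
        Matrix (Fin m ⊕ Fin m) (Fin m ⊕ Fin m) F) with hS
  have hPS : P * S = n * P := by
    have h1 : P * (B : Matrix (Fin m ⊕ Fin m) (Fin m ⊕ Fin m) F) = 1 := by
      rw [← hBi, ← Units.val_mul, inv_mul_cancel, Units.val_one]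
    rw [hS, hBi, ← mul_assoc, ← mul_assoc, h1, one_mul]
  -- functionals
  let Ψ : Matrix (Fin m ⊕ Fin m) (Fin m ⊕ Fin m) F := Matrix.of fun i j => κ * fo (Pi.single j 1) (w i)
  have hΨ : ∀ v i, (Ψ *ᵥ v) i = κ * fo v (w i) := by
    intro v i
    have hv : v = ∑ j, v j • (Pi.single j (1 : F) : Fin m ⊕ Fin m → F) := by
      funext j
      simp [Finset.sum_apply, Pi.single_apply]
    have hsum : ∀ t : Finset (Fin m ⊕ Fin m), fo (∑ j ∈ t, v j • (Pi.single j (1 : F) : Fin m ⊕ Fin m → F)) (w i) =
        ∑ j ∈ t, v j * fo (Pi.single j 1) (w i) := by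
      intro t
      induction t using Finset.induction_on with
      | empty => simp
      | insert a t ha ih => rw [Finset.sum_insert ha, Finset.sum_insert ha, sympForm_add_left, sympForm_smul_left, ih]
    conv_rhs => rw [hv, hsum]
    rw [Matrix.mulVec, dotProduct, Finset.mul_sum]
    refine Finset.sum_congr rfl fun j _ => ?_
    change κ * fo (Pi.single j 1) (w i) * v j = _
    ring
  have hentry : ∀ M : Matrix (Fin m ⊕ Fin m) (Fin m ⊕ Fin m) F, ∀ i j, (Ψ * (M * P)) i j =
      κ * fo (M *ᵥ w j) (w i) := by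
    intro M i j
    rw [← hΨ, ← hPj j, Matrix.mulVec_mulVec, Matrix.mulVec_mulVec, Matrix.mulVec_single_one, Matrix.mul_assoc]
    rfl
  have hG : ∀ i j, (Ψ * P) i j ∈ k := by
    intro i j
    have h1 := hentry 1 i j
    rw [one_mul, Matrix.one_mulVec] at h1
    rw [h1]
    exact hval _ (hw j) _ (hw i)
  have hX : ∀ i j, (Ψ * (n * P)) i j ∈ k := by
    intro i j
    rw [hentry]
    exact hval _ (hinv n hn _ (hw j)) _ (hw i)
  let G0 : Matrix (Fin m ⊕ Fin m) (Fin m ⊕ Fin m) k := Matrix.of fun i j => ⟨(Ψ * P) i j, hG i j⟩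
  let X0 : Matrix (Fin m ⊕ Fin m) (Fin m ⊕ Fin m) k :=
    Matrix.of fun i j => ⟨(Ψ * ((n : Matrix (Fin m ⊕ Fin m) (Fin m ⊕ Fin m) F) * P)) i j, hX i j⟩
  have hG0 : k.subtype.mapMatrix G0 = Ψ * P := by
    ext i j
    rfl
  have hX0 : k.subtype.mapMatrix X0 = Ψ * (n * P) := by
    ext i j
    rfl
  have hΨdet : Ψ.det ≠ 0 := by
    intro h0
    obtain ⟨c, hc0, hc⟩ := (Matrix.exists_mulVec_eq_zero_iff (M := Ψ)).2 h0
    apply hc0
    apply eq_zero_of_forall_sympForm_right
    intro u
    have h1 : ∀ i, fo c (w i) = 0 := by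
      intro i
      have h2 := congrFun hc i
      rw [hΨ, Pi.zero_apply] at h2
      exact (mul_eq_zero.1 h2).resolve_left hκ
    have h3 : u ∈ Submodule.span F (Set.range w) := by rw [w.span_eq]; trivial
    induction h3 using Submodule.span_induction with
    | mem x hx => obtain ⟨i, rfl⟩ := hx; exact h1 i
    | zero => exact sympForm_zero_right c
    | add x y _ _ hx hy => rw [sympForm_add_right, hx, hy, add_zero]
    | smul s x _ hx => rw [sympForm_smul_right, hx, mul_zero]
  have hG0det : G0.det ≠ 0 := by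
    intro h0
    have h1 := congrArg k.subtype h0
    rw [RingHom.map_det, hG0, map_zero, Matrix.det_mul] at h1
    exact mul_ne_zero hΨdet hPdet h1
  have hY : G0⁻¹ * G0 = 1 := Matrix.nonsing_inv_mul _ (isUnit_iff_ne_zero.2 hG0det)
  have hfin : S = k.subtype.mapMatrix (G0⁻¹ * X0) := by
    have h1 : k.subtype.mapMatrix G0⁻¹ * (Ψ * P) = 1 := by
      rw [← hG0, ← map_mul, hY, map_one]
    calc S = (k.subtype.mapMatrix G0⁻¹ * (Ψ * P)) * S := by rw [h1, one_mul]
      _ = k.subtype.mapMatrix G0⁻¹ * (Ψ * (n * P)) := by rw [← hPS]; simp only [mul_assoc]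
      _ = k.subtype.mapMatrix (G0⁻¹ * X0) := by rw [← hX0, map_mul]
  intro i j
  rw [hfin]
  exact ((G0⁻¹ * X0) i j).2

/-- **Irreducible groups generated by symplectic transvections, odd characteristic.** Let `q` be odd,
`m ≥ 2` and `H ≤ Sp_2m(q)` such that the transvections in `H` generate an irreducible group. Then
`H = Sp_2m(q)` or the group generated by the transvections in `H` is realisable over a proper subfield. -/
theorem main [Finite F] (D : Dat H) : spGL m F ≤ H ∨
    ∃ k : Subfield F, k ≠ ⊤ ∧ Geo.RealisableOver k (Geo.matrixSet (Nt H)) := by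
  by_cases hk : mf H = ⊤
  · left
    refine le_of_full (fun s => ?_) D
    have : s ∈ mf H := by rw [hk]; trivial
    exact this
  · right
    obtain ⟨B, hB⟩ := D.rational
    refine ⟨mf H, hk, B, ?_⟩
    rintro _ ⟨n, hn, rfl⟩ i j
    exact hB n hn i j

end Cfsg.Agent.H262.Tv
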